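import Mathlib
import Cfsg.Prelude.Def_LieRecognition
import Cfsg.Prelude.Def_Classical

/-!
# The branch `|Q| = q³` of the split rank-one classification: definitions

See `notes/s1136-u3-helper4.md`.  `conj x = x ^ q`, norms are `x ^ (q + 1)`.
-/

set_option autoImplicit false

namespace Cfsg.Agent.Involutions.RankOne.U3

variable {G Ω : Type*} [Group G] [MulAction G Ω]

/-- The hypotheses of the unitary branch. -/
structure Setting (G Ω : Type*) [Group G] [MulAction G Ω] (a : Ω) (t : G) (Q : Subgroup G) (n : ℕ) :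
    Prop where
  setup : Cfsg.IsRankOneSetup G Ω a t Q
  rank_two : ∃ x y : G, x ≠ 1 ∧ y ≠ 1 ∧ x ≠ y ∧ x * x = 1 ∧ y * y = 1 ∧ x * y = y * x
  two_group : IsPGroup 2 Q
  suzuki : Cfsg.IsSuzukiTwoGroup Q
  two_le : 2 ≤ n
  card_center : Nat.card (Subgroup.center Q) = 2 ^ n
  card_Q : Nat.card Q = (2 ^ n) ^ 3

/-- `W = C_V(K)`, with `V = C_D(t)`. -/
def W (a : Ω) (t : G) : Subgroup G :=
  (MulAction.stabilizer G a ⊓ MulAction.stabilizer G (t • a)) ⊓ Subgroup.centralizer {t} ⊓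
    Subgroup.centralizer
      (Cfsg.invertedBy (MulAction.stabilizer G a ⊓ MulAction.stabilizer G (t • a)) t)

section Model

variable {F : Type*} [Field F]

/-- Product of the Heisenberg group of the unitary form. -/
def hMul (n : ℕ) (p r : F × F) : F × F :=
  (p.1 + r.1, p.2 + r.2 + p.1 ^ (2 ^ n) * r.1)

/-- The equation of the Heisenberg group. -/
def InHerm (n : ℕ) (p : F × F) : Prop := p.2 + p.2 ^ (2 ^ n) = p.1 ^ (2 ^ n + 1)

/-- Coordinates on a group in the Heisenberg group. -/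
structure IsCoords {Q : Type*} [Group Q] (n : ℕ) (e : Q → F × F) : Prop where
  injective : Function.Injective e
  mem : ∀ u, InHerm n (e u)
  surj : ∀ p, InHerm n p → ∃ u, e u = p
  map_mul : ∀ u v, e (u * v) = hMul n (e u) (e v)

/-- The scalars known to act: everything for even `n`, the cubes for odd `n`. -/
def InDelta (n : ℕ) (δ : F) : Prop := δ ≠ 0 ∧ (Odd n → ∃ c : F, c ^ 3 = δ)

/-- Field automorphisms allowed for the two-point stabiliser. -/
def Admissible (n : ℕ) (σ : RingAut F) (μ : F) : Prop :=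
  Odd (orderOf σ) ∧ σ ^ ((2 ^ n) ^ 3 + 1) = 1 ∧ μ ≠ 0 ∧ μ ^ (2 ^ n) = μ

/-- The first coordinate of the image under `t` of the point `(α, B)`. -/
def phi (P : F ≃ F) (α B : F) : F := P.symm (B * P α)

/-- `(α, B)` is a point off the block. -/
def IsPoint (n : ℕ) (P : F ≃ F) (α B : F) : Prop :=
  α ≠ 0 ∧ B + B ^ (2 ^ n) = ((P α) ^ (2 ^ n + 1))⁻¹

/-- `B(f(u'⁻¹))`, for `u = (α, B)` and `u' = f u`. -/
def bH (A : F → F) (P : F ≃ F) (α B : F) : F := (B⁻¹ + A (phi P α B))⁻¹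

/-- `α(f(u'⁻¹))`. -/
def aH (A : F → F) (P : F ≃ F) (α B : F) : F := phi P (phi P α B) (B⁻¹ + A (phi P α B))

/-- `α(f(u⁻¹))`. -/
def aG (A : F → F) (P : F ≃ F) (α B : F) : F := phi P α (B + A α)

/-- `B(f(u⁻¹)⁻¹)`. -/
def bG (A : F → F) (P : F ≃ F) (α B : F) : F := (B + A α)⁻¹ + A (aG A P α B)

/-- The structure equation evaluated on the block, `α` part. -/
def Basic (n : ℕ) (A : F → F) (P : F ≃ F) (α B : F) (σ : RingAut F) (μ : F) : Prop :=
  bH A P α B = μ * σ (bG A P α B) ∧ A (aH A P α B) = μ * σ (A (aG A P α B)) ∧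
    ∀ z : F, z ^ (2 ^ n) = z → z ≠ 0 →
      phi P α (B + z⁻¹) = phi P α B + phi P (aH A P α B) (bH A P α B + μ * σ z)

/-- The data of the unitary branch; `R` is an additional condition on the structure equation. -/
structure Alg (n : ℕ) (A : F → F) (P : F ≃ F) (R : F → F → RingAut F → F → Prop) : Prop where
  P_zero : P 0 = 0
  A_zero : A 0 = 0
  A_ne : ∀ α, α ≠ 0 → A α ≠ 0
  A_fix : ∀ α, A α ^ (2 ^ n) = A α
  equivariant : ∀ δ α, InDelta n δ → ∃ δ', InDelta n δ' ∧ P (δ * α) = δ' * P α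
  invariant : ∀ δ α, InDelta n δ →
    A (δ * α) * (P (δ * α)) ^ (2 ^ n + 1) = A α * (P α) ^ (2 ^ n + 1)
  step : ∀ α B, IsPoint n P α B →
    ∃ σ μ, Admissible n σ μ ∧ Basic n A P α B σ μ ∧ R α B σ μ

/-- The norm form. -/
def normForm (n : ℕ) (α : F) : F := α ^ (2 ^ n + 1)

/-- The `β` part of the structure equation, where `β = B + τ α`. -/
def BetaPart (n : ℕ) (P : F ≃ F) (τ : F → F) (α B : F) (σ : RingAut F) (μ : F) : Prop :=
  ∀ z : F, z ^ (2 ^ n) = z → z ≠ 0 →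
    (B + z⁻¹)⁻¹ + τ (phi P α (B + z⁻¹)) =
      (B⁻¹ + τ (phi P α B)) +
        ((bH (normForm n) P α B + μ * σ z)⁻¹ +
          τ (phi P (aH (normForm n) P α B) (bH (normForm n) P α B + μ * σ z))) +
        phi P α B ^ (2 ^ n) * phi P (aH (normForm n) P α B) (bH (normForm n) P α B + μ * σ z)

/-- The data when `Q` is the Heisenberg group. -/
structure HermAlg (n : ℕ) (P : F ≃ F) (τ : F → F) : Prop where
  base : Alg n (normForm n) P (BetaPart n P τ)
  tau_smul : ∀ δ α, InDelta n δ → α ≠ 0 → τ (δ * α) = δ ^ (2 ^ n + 1) * τ α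
  tau_trace : ∀ α, α ≠ 0 →
    τ α + τ α ^ (2 ^ n) + ((P α) ^ (2 ^ n + 1))⁻¹ = α ^ (2 ^ n + 1)

/-- The possible squaring forms for `q = 8`. -/
def EightForm (A : F → F) : Prop :=
  (∀ α, A α = α ^ 9) ∨ ∃ (a₀ : F) (r : ℕ), ∀ α, A α = (a₀ * α ^ 3 + (a₀ * α ^ 3) ^ 8) ^ (2 ^ r)

/-- What the finite check gives for `q = 8`. -/
def SmallResult (n : ℕ) (A : F → F) (P : F ≃ F) : Prop :=
  (∀ α, A α = normForm n α) ∧ (∀ α, α ≠ 0 → A α * (P α) ^ (2 ^ n + 1) = 1) ∧
    ∀ α B σ μ, IsPoint n P α B → Admissible n σ μ → Basic n A P α B σ μ → σ = 1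

end Model

end Cfsg.Agent.Involutions.RankOne.U3
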