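import Cfsg.Agent.Lib.Involutions.RankOne.U3.Defs

/-!
# The branch `|Q| = q³`: interfaces between the pieces

The pieces of `notes/s1136-u3-helper4.md`, stated as propositions.
-/

set_option autoImplicit false

namespace Cfsg.Agent.Involutions.RankOne.U3.Stmt

open Cfsg.Agent.Involutions.RankOne.U3

universe u v w

/-- U2: `W ≠ 1`. -/
def WNeBot : Prop :=
  ∀ {G : Type u} {Ω : Type v} [Group G] [Finite G] [MulAction G Ω] [FaithfulSMul G Ω] {a : Ω} {t : G}
    {Q : Subgroup G} {n : ℕ}, Setting G Ω a t Q n → W a t ≠ ⊥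

/-- U7: coordinates on the Suzuki 2-group. `C` is the image of `K × W`, `ι` the given coordinate of
the centre and `χ` the multiplier of `C` on it. -/
def Coordinates : Prop :=
  ∀ {Q : Type u} [Group Q] [Finite Q] {F : Type w} [Field F] [Fintype F] {n m : ℕ},
    2 ≤ n → Fintype.card F = (2 ^ n) ^ 2 → Nat.card Q = (2 ^ n) ^ 3 →
    Nat.card (Subgroup.center Q) = 2 ^ n → (∀ x : Q, x * x = 1 ↔ x ∈ Subgroup.center Q) →
    (∀ x : Q, x * x ∈ Subgroup.center Q) →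
    ∀ (C : Subgroup (MulAut Q)), IsCyclic C → Nat.card C = (2 ^ n - 1) * m → m ∣ 2 ^ n + 1 →
      2 ^ n + 1 ∣ 3 * m → m ≠ 1 →
      (∀ c ∈ C, c ≠ 1 → ∀ x : Q, c x * x⁻¹ ∈ Subgroup.center Q → x ∈ Subgroup.center Q) →
      ∀ (ι : Subgroup.center Q → F) (χ : C → F), Function.Injective ι →
        (∀ z z', ι (z * z') = ι z + ι z') → (∀ z, ι z ^ (2 ^ n) = ι z) →
        (∀ (c : C) (z z' : Subgroup.center Q), (c : MulAut Q) z = z' → ι z' = χ c * ι z) →
        (∀ x : F, x ≠ 0 → x ^ (2 ^ n) = x → ∃ c, χ c = x) →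
        (∃ e : Q → F × F, IsCoords n e ∧
            (∀ z : Subgroup.center Q, e z = (0, ι z)) ∧
            ∀ c : C, ∃ δ : F, δ ≠ 0 ∧ δ ^ (2 ^ n + 1) = χ c ∧
              ∀ x : Q, e ((c : MulAut Q) x) = (δ * (e x).1, δ ^ (2 ^ n + 1) * (e x).2)) ∨
          (n = 3 ∧ m = 3 ∧ ∃ α : Q → F,
            (∀ x y, α (x * y) = α x + α y) ∧ (∀ x, α x = 0 ↔ x ∈ Subgroup.center Q) ∧
            Function.Surjective α ∧
            (∀ c : C, ∃ δ : F, δ ≠ 0 ∧ ∀ x : Q, α ((c : MulAut Q) x) = δ * α x) ∧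
            ∃ (a₀ : F) (r : ℕ), ∀ (x : Q) (h : x * x ∈ Subgroup.center Q),
              ι ⟨x * x, h⟩ = (a₀ * α x ^ 3 + (a₀ * α x ^ 3) ^ 8) ^ (2 ^ r))

/-- U10 and U11: the structure equation forces the map of the unital. -/
def Formula : Prop :=
  ∀ {F : Type w} [Field F] [Fintype F] {n : ℕ} (P : F ≃ F) (τ : F → F),
    2 ≤ n → Fintype.card F = (2 ^ n) ^ 2 → HermAlg n P τ →
    (n = 3 → SmallResult n (normForm n) P) →
    ∀ α β : F, α ≠ 0 → InHerm n (α, β) →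
      phi P α (β + τ α) = α / β ∧ (β + τ α)⁻¹ + τ (α / β) = β⁻¹

/-- U12: the finite check for `q = 8`. -/
def Eight : Prop :=
  ∀ {F : Type w} [Field F] [Fintype F] (A : F → F) (P : F ≃ F) (R : F → F → RingAut F → F → Prop),
    Fintype.card F = 64 → EightForm A → Alg 3 A P R → SmallResult 3 A P

/-- U13: the group generated by `Q` and `t` once `t` is given by the formula of the unital. -/
def Identify : Prop :=
  ∀ {G : Type u} {Ω : Type v} [Group G] [Finite G] [MulAction G Ω] [FaithfulSMul G Ω] {a : Ω} {t : G}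
    {Q : Subgroup G} {F : Type w} [Field F] [Fintype F] {n : ℕ} (e : Q → F × F),
    Cfsg.IsRankOneSetup G Ω a t Q → 2 ≤ n → Fintype.card F = (2 ^ n) ^ 2 → IsCoords n e →
    (∀ u v : Q, u ≠ 1 → t • ((u : G) • (t • a)) = (v : G) • (t • a) →
      e v = ((e u).1 / (e u).2, ((e u).2)⁻¹)) →
    Nonempty (Subgroup.closure ((Q : Set G) ∪ {t}) ≃* Cfsg.PSU 3 F (2 ^ n))

end Cfsg.Agent.Involutions.RankOne.U3.Stmt
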