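import Cfsg.Agent.Lib.Involutions.RankOne.Basic
import Cfsg.Agent.Lib.Involutions.RankOne.U3.Interface
import Cfsg.Agent.Lib.Involutions.RankOne.U3.Identify.Model

/-!
# The branch `|Q| = q³`: identification with `PSU₃(q)`

If `t` moves the points outside `a` as on the unital, then `Q` and `t` generate a group isomorphic to
`PSU₃(q)`.
-/

set_option autoImplicit false
set_option linter.unusedSectionVars false
set_option linter.style.haveILetI false

namespace Cfsg.Agent.Involutions.RankOne.U3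

open MulAction Cfsg.Agent.Classical Cfsg.Agent.Classical.Unitary Cfsg.Agent.Forms
  Cfsg.Agent.Involutions.SylowPSUThree

universe u v w

variable {F : Type w} [Field F] [Fintype F] {n : ℕ}

theorem ker_toPerm (hF : Fintype.card F = (2 ^ n) ^ 2) [CharP F 2] (hn : 2 ≤ n) (B : Base F n) :
    (MulAction.toPermHom (Cfsg.SU 3 F (2 ^ n)) (IsoPt F (2 ^ n) 3)).ker =
      Subgroup.center (Cfsg.SU 3 F (2 ^ n)) := by
  set Ψ := MulAction.toPermHom (Cfsg.SU 3 F (2 ^ n)) (IsoPt F (2 ^ n) 3) with hΨ
  have hcen : Subgroup.center (Cfsg.SU 3 F (2 ^ n)) ≤ Ψ.ker := by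
    intro z hz
    obtain ⟨a, ha⟩ := (mem_center_iff hF (by norm_num) z).1 hz
    rw [MonoidHom.mem_ker]
    refine Equiv.ext fun y => ?_
    show z • y = y
    obtain ⟨x, hx, hxx, rfl⟩ := exists_pt y
    rw [smul_pt]
    exact pt_eq_pt.2 ⟨a, by rw [ha, Matrix.smul_mulVec, Matrix.one_mulVec]⟩
  refine le_antisymm ?_ hcen
  have hsimple : IsSimpleGroup (Cfsg.PSU 3 F (2 ^ n)) :=
    isSimpleGroup_PSU hF le_rfl fun h => by
      have := Nat.pow_le_pow_right (show 0 < 2 by norm_num) hn
      omega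
  haveI : (Ψ.ker.map (QuotientGroup.mk' (Subgroup.center (Cfsg.SU 3 F (2 ^ n))))).Normal :=
    Subgroup.Normal.map inferInstance _ (QuotientGroup.mk'_surjective _)
  rcases hsimple.eq_bot_or_eq_top_of_normal
    (Ψ.ker.map (QuotientGroup.mk' (Subgroup.center (Cfsg.SU 3 F (2 ^ n))))) inferInstance with h | h
  · rwa [Subgroup.map_eq_bot_iff, QuotientGroup.ker_mk'] at h
  · exfalso
    have htop : Ψ.ker = ⊤ := by
      have h1 := congrArg
        (Subgroup.comap (QuotientGroup.mk' (Subgroup.center (Cfsg.SU 3 F (2 ^ n))))) h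
      rwa [Subgroup.comap_map_eq, QuotientGroup.ker_mk', Subgroup.comap_top,
        sup_eq_left.2 hcen] at h1
    have h1 : Identify.swap hF B • Identify.inf hF B = Identify.inf hF B := by
      have h2 : Identify.swap hF B ∈ Ψ.ker := htop ▸ Subgroup.mem_top _
      exact Equiv.ext_iff.1 (MonoidHom.mem_ker.1 h2) _
    rw [Identify.swap_inf, ← one_smul (Cfsg.SU 3 F (2 ^ n)) (Identify.org hF B),
      ← Identify.el_zero hF B] at h1
    exact Identify.el_org_ne hF B (Identify.inHerm_iff.2 (by simp)) h1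

/-- U13: the group generated by `Q` and `t`. -/
theorem identify : Stmt.Identify.{u, v, w} := by
  intro G Ω _ _ _ _ a t Q F _ _ n e hS hn hF he hf
  haveI : Fact (Nat.Prime 2) := ⟨Nat.prime_two⟩
  haveI : CharP F 2 := charP_of_card_eq_prime_pow (f := n * 2)
    (by rw [hF, ← pow_mul])
  obtain ⟨B⟩ := exists_base (F := F) (n := n) hF
  classical
  have hb : ∀ u : Q, (u : G) • (t • a) ≠ a := fun u =>
    smul_a_ne hS (hS.le u.2) (b_ne hS)
  have hsel : ∀ x : Ω, x ≠ a → ∃ u : Q, (u : G) • (t • a) = x := fun x hx =>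
    let ⟨u, hu, h⟩ := exists_q hS hx
    ⟨⟨u, hu⟩, h⟩
  let ι : Ω → IsoPt F (2 ^ n) 3 := fun x =>
    if hx : x = a then Identify.inf hF B
    else Identify.el hF B (e (hsel x hx).choose) • Identify.org hF B
  have ι_a : ι a = Identify.inf hF B := dif_pos rfl
  have ι_q : ∀ u : Q, ι ((u : G) • (t • a)) = Identify.el hF B (e u) • Identify.org hF B := by
    intro u
    show dite _ _ _ = _
    rw [dif_neg (hb u)]
    congr 3
    exact Subtype.ext (q_unique hS (hsel _ (hb u)).choose.2 u.2 (b_ne hS)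
      (hsel _ (hb u)).choose_spec)
  have e_one : e 1 = (0, 0) := by
    have h := he.map_mul 1 1
    rw [one_mul] at h
    have h1 := congrArg Prod.fst h
    have h2 := congrArg Prod.snd h
    simp only [hMul, CharTwo.add_self_eq_zero] at h1 h2
    rw [h1, zero_pow (Nat.two_pow_pos n).ne', zero_mul, add_zero] at h2
    exact Prod.ext h1 h2
  have ι_b : ι (t • a) = Identify.org hF B := by
    have h := ι_q 1
    rwa [OneMemClass.coe_one, one_smul, e_one, Identify.el_zero, one_smul] at h
  have hinj : Function.Injective ι := by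
    intro x y h
    by_cases hx : x = a <;> by_cases hy : y = a
    · rw [hx, hy]
    · obtain ⟨v, rfl⟩ := hsel y hy
      rw [hx, ι_a, ι_q] at h
      exact absurd h.symm (Identify.el_org_ne hF B (he.mem v))
    · obtain ⟨u, rfl⟩ := hsel x hx
      rw [hy, ι_a, ι_q] at h
      exact absurd h (Identify.el_org_ne hF B (he.mem u))
    · obtain ⟨u, rfl⟩ := hsel x hx
      obtain ⟨v, rfl⟩ := hsel y hy
      rw [ι_q, ι_q] at h
      rw [he.injective (Identify.el_org_inj hF B (he.mem u) (he.mem v) h)]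
  have hsurj : Function.Surjective ι := by
    intro y
    rcases Identify.pt_cases hF B y with rfl | ⟨p, hp, rfl⟩
    · exact ⟨a, ι_a⟩
    · obtain ⟨u, rfl⟩ := he.surj p hp
      exact ⟨_, ι_q u⟩
  have ι_mul : ∀ (u : Q) (x : Ω), ι ((u : G) • x) = Identify.el hF B (e u) • ι x := by
    intro u x
    by_cases hx : x = a
    · rw [hx, show (u : G) • a = a from hS.le u.2, ι_a, Identify.el_inf hF B (he.mem u)]
    · obtain ⟨v, rfl⟩ := hsel x hx
      rw [smul_smul, ← Subgroup.coe_mul, ι_q, ι_q, he.map_mul,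
        (Identify.el_mul hF B (he.mem u) (he.mem v)).2, mul_smul]
  have ι_t : ∀ x : Ω, ι (t • x) = Identify.swap hF B • ι x := by
    intro x
    by_cases hx : x = a
    · rw [hx, ι_b, ι_a, Identify.swap_inf]
    · obtain ⟨u, rfl⟩ := hsel x hx
      by_cases hu : u = 1
      · rw [hu, OneMemClass.coe_one, one_smul, t_smul_b hS, ι_a, ι_b, Identify.swap_org]
      · have hne : t • ((u : G) • (t • a)) ≠ a := fun h => by
          have h1 : (u : G) • (t • a) = t • a := by
            have h2 := congrArg (fun z => t • z) h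
            rwa [smul_smul t t, hS.mul_self, one_smul] at h2
          exact hu (Subtype.ext (inf_D hS u.2 ⟨hS.le u.2, h1⟩))
        obtain ⟨v, hv⟩ := hsel _ hne
        rw [← hv, ι_q, ι_q]
        refine (Identify.swap_el hF B (he.mem u) (fun h0 => hu (he.injective ?_)) (he.mem v)
          (hf u v hu hv.symm)).symm
        have h1 : (e u).1 = 0 := by
          have h := Identify.inHerm_iff.1 (he.mem u)
          rw [h0, zero_pow (Nat.two_pow_pos n).ne', add_zero] at h
          rcases mul_eq_zero.1 h.symm with h' | h'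
          · exact h'
          · exact eq_zero_of_pow_eq_zero h'
        rw [e_one]
        exact Prod.ext h1 h0
  let ε : Ω ≃ IsoPt F (2 ^ n) 3 := Equiv.ofBijective ι ⟨hinj, hsurj⟩
  let Φ : G →* Equiv.Perm (IsoPt F (2 ^ n) 3) :=
    ε.permCongrHom.toMonoidHom.comp (MulAction.toPermHom G Ω)
  let Ψ := MulAction.toPermHom (Cfsg.SU 3 F (2 ^ n)) (IsoPt F (2 ^ n) 3)
  have hΦ : Function.Injective Φ := ε.permCongrHom.injective.comp MulAction.toPerm_injective
  have key : ∀ (g : G) (s : Cfsg.SU 3 F (2 ^ n)), (∀ x, ι (g • x) = s • ι x) → Φ g = Ψ s := by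
    intro g s h
    refine Equiv.ext fun y => ?_
    show ι (g • ε.symm y) = s • y
    rw [h]
    exact congrArg (s • ·) (ε.apply_symm_apply y)
  have hQ : ∀ u : Q, Φ u = Ψ (Identify.el hF B (e u)) := fun u => key _ _ (ι_mul u)
  have ht : Φ t = Ψ (Identify.swap hF B) := key _ _ ι_t
  set L := Subgroup.closure ((Q : Set G) ∪ {t})
  have hmap : L.map Φ = Ψ.range := by
    rw [MonoidHom.map_closure, MonoidHom.range_eq_map, ← Identify.closure_eq_top hF B hn,
      MonoidHom.map_closure]
    congr 1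
    ext z
    simp only [Set.mem_image, Set.mem_union, Set.mem_singleton_iff, SetLike.mem_coe,
      Set.mem_ofPred_eq]
    constructor
    · rintro ⟨g, hg | rfl, rfl⟩
      · exact ⟨_, Or.inl ⟨e ⟨g, hg⟩, he.mem _, rfl⟩, (hQ ⟨g, hg⟩).symm⟩
      · exact ⟨_, Or.inr rfl, ht.symm⟩
    · rintro ⟨s, ⟨p, hp, rfl⟩ | rfl, rfl⟩
      · obtain ⟨u, rfl⟩ := he.surj p hp
        exact ⟨u, Or.inl u.2, hQ u⟩
      · exact ⟨t, Or.inr rfl, ht⟩
  exact ⟨((Subgroup.equivMapOfInjective L Φ hΦ).trans (MulEquiv.subgroupCongr hmap)).trans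
    ((QuotientGroup.quotientKerEquivRange Ψ).symm.trans
      (QuotientGroup.quotientMulEquivOfEq (ker_toPerm hF hn B)))⟩

end Cfsg.Agent.Involutions.RankOne.U3
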