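import Cfsg.Agent.Lib.Involutions.RankOne.U3.Local
import Cfsg.Agent.Lib.Involutions.RankOne.U3.Identify

/-!
# The branch `|Q| = q³`: `G` has a normal subgroup of odd index isomorphic to `PSU₃(q)`

`L = ⟨Q, t⟩` contains `K`, is normalised by `D` and is transitive, so is normal with `G = L D`.
-/

set_option autoImplicit false
set_option linter.style.haveILetI false
set_option linter.unusedSectionVars false

namespace Cfsg.Agent.Involutions.RankOne.U3

open MulAction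

universe u v

section Generated

variable {G Ω : Type*} [Group G] [Finite G] [MulAction G Ω] [FaithfulSMul G Ω] {a : Ω} {t : G}
  {Q : Subgroup G} {n : ℕ} {F : Type*} [Field F] [Fintype F] [CharP F 2]

/-- `L = ⟨Q, t⟩`. -/
def genQt (t : G) (Q : Subgroup G) : Subgroup G := Subgroup.closure ((Q : Set G) ∪ {t})

theorem Q_le_gen : Q ≤ genQt t Q := fun _ hx => Subgroup.subset_closure (Or.inl hx)

theorem t_mem_gen : t ∈ genQt t Q := Subgroup.subset_closure (Or.inr rfl)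

variable (h : Setting G Ω a t Q n) (fr : Frame a t Q n F)
include h fr

theorem Kc_le_gen : Kc a t ≤ genQt t Q := by
  intro k hk
  obtain ⟨e, he0, he, rfl⟩ := fr.coords.κ_surj k hk
  have h1 := fr.coords.swap e⁻¹ (inv_ne_zero he0) (inv_fixed he)
  rw [inv_inv] at h1
  have hζ : fr.ζ e ∈ genQt t Q := Q_le_gen (Zc_le (fr.coords.ζ_mem e he))
  have hζ' : fr.ζ e⁻¹ ∈ genQt t Q := Q_le_gen (Zc_le (fr.coords.ζ_mem _ (inv_fixed he)))
  have e2 : fr.κ e = (fr.ζ e)⁻¹ * (t * fr.ζ e⁻¹ * t) * (fr.ζ e)⁻¹ * t⁻¹ := by rw [h1]; group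
  rw [e2]
  exact mul_mem (mul_mem (mul_mem (inv_mem hζ) (mul_mem (mul_mem t_mem_gen hζ') t_mem_gen))
    (inv_mem hζ)) (inv_mem t_mem_gen)

theorem exists_gen_mul_D (g : G) :
    ∃ l ∈ genQt t Q, ∃ d ∈ (stabilizer G a ⊓ stabilizer G (t • a)), g = l * d := by
  obtain ⟨l, hl, hla⟩ : ∃ l ∈ genQt t Q, l • a = g • a := by
    by_cases hga : g • a = a
    · exact ⟨1, one_mem _, by rw [one_smul, hga]⟩
    · obtain ⟨u, hu, e⟩ := exists_q h.setup hga
      exact ⟨u * t, mul_mem (Q_le_gen hu) t_mem_gen, by rw [mul_smul, e]⟩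
  obtain ⟨u, hu, d, hd, e⟩ := exists_decomp h.setup (h := l⁻¹ * g)
    (by show (l⁻¹ * g) • a = a; rw [mul_smul, ← hla, inv_smul_smul])
  exact ⟨l * u, mul_mem hl (Q_le_gen hu), d, hd, by rw [mul_assoc, ← e, mul_inv_cancel_left]⟩

theorem gen_normal : (genQt t Q).Normal := by
  have hD : ∀ d ∈ (stabilizer G a ⊓ stabilizer G (t • a)), ∀ x ∈ genQt t Q,
      d * x * d⁻¹ ∈ genQt t Q := by
    intro d hd x hx
    have hle : genQt t Q ≤ (genQt t Q).comap (MulAut.conj d).toMonoidHom :=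
      (Subgroup.closure_le _).2 (by
        rintro y (hy | rfl)
        · exact Q_le_gen (h.setup.conj_mem d hd.1 y hy)
        · obtain ⟨v, k, hv, hvt, hk, rfl⟩ := exists_V_mul_K h hd
          show v * k * y * (v * k)⁻¹ ∈ genQt y Q
          have hk2 : v * (k * k)⁻¹ * v⁻¹ ∈ genQt y Q :=
            Kc_le_gen h fr (conj_mem_Kc h hv (inv_mem (mul_mem hk hk)))
          have e : v * k * y * (v * k)⁻¹ = y * (v * (k * k)⁻¹ * v⁻¹) := by
            have hky : k * y = y * k⁻¹ := by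
              rw [← Kc_t h hk, ← mul_assoc, ← mul_assoc, h.setup.mul_self, one_mul]
            calc v * k * y * (v * k)⁻¹ = v * (k * y) * k⁻¹ * v⁻¹ := by group
              _ = (v * y) * k⁻¹ * k⁻¹ * v⁻¹ := by rw [hky]; group
              _ = (y * v) * k⁻¹ * k⁻¹ * v⁻¹ := by rw [hvt]
              _ = _ := by group
          rw [e]
          exact mul_mem t_mem_gen hk2)
    exact hle hx
  refine ⟨fun x hx g => ?_⟩
  obtain ⟨l, hl, d, hd, rfl⟩ := exists_gen_mul_D h fr g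
  rw [show l * d * x * (l * d)⁻¹ = l * (d * x * d⁻¹) * l⁻¹ by group]
  exact mul_mem (mul_mem hl (hD d hd x hx)) (inv_mem hl)

theorem gen_index : Odd (genQt t Q).index := by
  haveI := gen_normal h fr
  refine h.setup.odd_card.of_dvd_nat ?_
  rw [Subgroup.index_eq_card]
  refine Subgroup.card_dvd_of_surjective
    ((QuotientGroup.mk' (genQt t Q)).comp
      (stabilizer G a ⊓ stabilizer G (t • a)).subtype) fun x => ?_
  obtain ⟨g, rfl⟩ := QuotientGroup.mk'_surjective _ x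
  obtain ⟨l, hl, d, hd, rfl⟩ := exists_gen_mul_D h fr g
  refine ⟨⟨d, hd⟩, ?_⟩
  rw [map_mul, (QuotientGroup.eq_one_iff l).2 hl |> fun e => show QuotientGroup.mk' (genQt t Q) l = 1 from e,
    one_mul]
  rfl

end Generated

/-- The branch `|Q| = q³`, given U2, U5–U6 and U7–U11. -/
theorem exists_psu_of (hW0 : Stmt.WNeBot.{u, v}) (hI : Stmt.Index.{u, v}) (hB : Stmt.Bridge.{u, v})
    {G : Type u} {Ω : Type v} [Group G] [Finite G] [MulAction G Ω] [FaithfulSMul G Ω] {a : Ω} {t : G}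
    {Q : Subgroup G} {n : ℕ} (hS : Setting G Ω a t Q n) :
    ∃ L : Subgroup G, L.Normal ∧ Odd L.index ∧
      ∃ (F : Type) (_ : Field F) (_ : Fintype F) (n : ℕ), 2 ≤ n ∧ Fintype.card F = (2 ^ n) ^ 2 ∧
        Nonempty (L ≃* Cfsg.PSU 3 F (2 ^ n)) := by
  have hW := hW0 hS
  obtain ⟨F, iF, iT, iC, ⟨fr⟩⟩ := exists_frame hS hW
  obtain ⟨ρ, hL⟩ := localFacts.{u, v} hS hW fr
  obtain ⟨e, he, hf⟩ := hB hS hW fr ρ hL (hI hS hW fr ρ hL)
  exact ⟨genQt t Q, gen_normal hS fr, gen_index hS fr, F, iF, iT, n, hS.two_le, fr.card_F,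
    identify.{u, v, 0} e hS.setup hS.two_le fr.card_F he hf⟩

end Cfsg.Agent.Involutions.RankOne.U3
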