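import Cfsg.Agent.Lib.Involutions.RankOne.U3.Interface
import Cfsg.Agent.Lib.Involutions.RankOne.U3.Eight.Hom

/-!
# The unitary branch for `q = 8`

The structure equation on the block lives on codes; the search is `check_one`, `check_two` and
`check_three`.
-/

set_option autoImplicit false

namespace Cfsg.Agent.Involutions.RankOne.U3.Eight

universe u

theorem trace_one : ∀ y < 64, y ^^^ cj y = 1 → ∃ u < 8, y = 8 + u := by
  decide +kernel

theorem trace_omega : ∀ u < 8, (8 + u) ^^^ cj (8 + u) = 1 := by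
  decide +kernel

theorem xor_cj : ∀ x < 64, x ^^^ cj x = x / 8 := by
  decide +kernel

theorem trace_forms : ∀ b < 64, b = 0 ∨ cls b = 0 ∨
    ∃ f, (f = 1 ∨ f = 2) ∧ ∃ g < 64, g ≠ 0 ∧ mul (if f = 1 then 10 else 11) (mul g (mul g g)) = b := by
  intro b hb
  have : ∀ b < 64, b = 0 ∨ cls b = 0 ∨ (∃ g < 64, g ≠ 0 ∧ mul 10 (mul g (mul g g)) = b) ∨
      ∃ g < 64, g ≠ 0 ∧ mul 11 (mul g (mul g g)) = b := by decide +kernel
  rcases this b hb with h | h | ⟨g, h⟩ | ⟨g, h⟩
  · exact .inl h
  · exact .inr (.inl h)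
  · exact .inr (.inr ⟨1, .inl rfl, g, by simpa using h⟩)
  · exact .inr (.inr ⟨2, .inr rfl, g, by simpa using h⟩)

theorem mval_pack : ∀ a < 8, ∀ b < 8, ∀ c < 8, a + 8 * b + 64 * c < 512 ∧
    mval (a + 8 * b + 64 * c) 0 = a ∧ mval (a + 8 * b + 64 * c) 1 = b ∧
    mval (a + 8 * b + 64 * c) 2 = c := by
  decide +kernel

theorem exists_perm : ∀ g : Fin 3 → Fin 3, Function.Bijective g →
    ∃ p ∈ perms, ∀ j : Fin 3, pval p j = g j := by
  decide +kernel

theorem mval_one : mval 73 0 = 1 ∧ mval 73 1 = 1 ∧ mval 73 2 = 1 := by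
  decide +kernel

theorem sumOK_of (f : ℕ) (s₁ s₂ s : ℕ × ℕ) (x₁ x₂ : ℕ) (h₁ : inSlot f s₁.1 s₁.2 x₁ = true)
    (h₂ : inSlot f s₂.1 s₂.2 x₂ = true) (h : inSlot f s.1 s.2 (x₁ ^^^ x₂) = true) :
    sumOK f s₁ s₂ s = true := by
  simp only [inSlot, Bool.or_eq_true, beq_iff_eq] at h₁ h₂
  rcases h₁ with (e | e) | e <;> rcases h₂ with (e' | e') | e' <;> simp [sumOK, e, e', h]

variable {F : Type u} [Field F] [Fintype F] {v w : F}

section code

open scoped Classical in
/-- The code of an element. -/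
noncomputable def code (v w : F) (x : F) : ℕ :=
  if h : ∃ k : Fin 64, ev v w k = x then (h.choose : ℕ) else 0

variable (H : IsBasis v w) (hc : Fintype.card F = 64)
include H hc

theorem ev_code (x : F) : ev v w (code v w x) = x := by
  have h : ∃ k : Fin 64, ev v w k = x := (H.bijective hc).2 x
  rw [code, dif_pos h]; exact h.choose_spec

theorem code_lt (x : F) : code v w x < 64 := by
  rw [code, dif_pos ((H.bijective hc).2 x)]; exact Fin.isLt _

theorem code_ev {k : ℕ} (hk : k < 64) : code v w (ev v w k) = k :=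
  H.inj (code_lt H hc _) hk (ev_code H hc _)

theorem code_zero : code v w (0 : F) = 0 := by
  rw [← ev_zero v w, code_ev H hc (by norm_num)]

theorem code_one : code v w (1 : F) = 1 := by
  rw [← ev_one v w, code_ev H hc (by norm_num)]

theorem code_eq_zero {x : F} : code v w x = 0 ↔ x = 0 :=
  ⟨fun h => by rw [← ev_code H hc x, h, ev_zero], fun h => by rw [h, code_zero H hc]⟩

theorem code_add (x y : F) : code v w (x + y) = code v w x ^^^ code v w y := by
  conv_lhs => rw [← ev_code H hc x, ← ev_code H hc y,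
    ← ev_xor H.two v w (code_lt H hc x) (code_lt H hc y)]
  exact code_ev H hc (xor_lt (code_lt H hc x) (code_lt H hc y))

theorem code_mul (x y : F) : code v w (x * y) = mul (code v w x) (code v w y) := by
  conv_lhs => rw [← ev_code H hc x, ← ev_code H hc y,
    ← H.map_mul (code_lt H hc x) (code_lt H hc y)]
  exact code_ev H hc (mul_lt _ _)

theorem code_inv (x : F) : code v w x⁻¹ = inv (code v w x) := by
  conv_lhs => rw [← ev_code H hc x, ← H.map_inv (code_lt H hc x)]
  exact code_ev H hc (inv_spec _ (code_lt H hc x)).1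

theorem code_pow_eight (x : F) : code v w (x ^ 8) = cj (code v w x) := by
  conv_lhs => rw [← ev_code H hc x, ← H.map_cj (code_lt H hc x)]
  refine code_ev H hc ?_
  exact xor_lt (code_lt H hc x) (by have := code_lt H hc x; omega)

theorem code_pow_nine (x : F) : code v w (x ^ 9) = nm (code v w x) := by
  conv_lhs => rw [← ev_code H hc x, ← H.map_nm (code_lt H hc x)]
  exact code_ev H hc (mul_lt _ _)

theorem fixed_iff {x : F} : x ^ 8 = x ↔ code v w x < 8 := by
  rw [← (cj_eq _ (code_lt H hc x)).2, ← code_pow_eight H hc]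
  exact ⟨fun h => by rw [h], fun h => by rw [← ev_code H hc (x ^ 8), h, ev_code H hc]⟩

theorem cls_code_lt (x : F) : cls (code v w x) < 3 := cls_lt _ (code_lt H hc x)

theorem cls_code_mul {x y : F} (hx : x ≠ 0) (hy : y ≠ 0) :
    cls (code v w (x * y)) = (cls (code v w x) + cls (code v w y)) % 3 := by
  rw [code_mul H hc]
  exact cls_mul _ (code_lt H hc x) _ (code_lt H hc y) (fun h => hx ((code_eq_zero H hc).mp h))
    (fun h => hy ((code_eq_zero H hc).mp h))

theorem cls_cube {c : F} (h : c ≠ 0) : cls (code v w (c ^ 3)) = 0 := by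
  rw [show c ^ 3 = c * (c * c) by ring, cls_code_mul H hc h (mul_ne_zero h h),
    cls_code_mul H hc h h]
  omega

theorem cls_inDelta {δ x : F} (hδ : InDelta 3 δ) (hx : x ≠ 0) :
    cls (code v w (δ * x)) = cls (code v w x) := by
  obtain ⟨h0, hodd⟩ := hδ
  obtain ⟨c, rfl⟩ := hodd ⟨1, rfl⟩
  rw [cls_code_mul H hc h0 hx, cls_cube H hc (fun h => h0 (by simp [h]))]
  have := cls_code_lt H hc x
  omega

theorem exists_inDelta {x y : F} (hx : x ≠ 0) (hy : y ≠ 0)
    (h : cls (code v w x) = cls (code v w y)) : ∃ δ, InDelta 3 δ ∧ δ * x = y := by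
  have hne : y / x ≠ 0 := div_ne_zero hy hx
  have hm : y / x * x = y := div_mul_cancel₀ y hx
  refine ⟨y / x, ⟨hne, fun _ => ?_⟩, hm⟩
  have e := cls_code_mul H hc hne hx
  rw [hm] at e
  have h3 : cls (code v w (y / x)) = 0 := by
    have := cls_code_lt H hc x; have := cls_code_lt H hc (y / x); omega
  obtain ⟨c, hcl, hcc⟩ := cls_zero _ (code_lt H hc (y / x))
    (fun h' => hne ((code_eq_zero H hc).mp h')) h3
  refine ⟨ev v w c, ?_⟩
  rw [show ev v w c ^ 3 = ev v w c * (ev v w c * ev v w c) by ring, ← H.map_mul hcl hcl,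
    ← H.map_mul hcl (mul_lt _ _), hcc, ev_code H hc]

/-- A bijection respecting classes gives a permutation of them. -/
theorem exists_classMap (f : F ≃ F) (h0 : f 0 = 0)
    (heq : ∀ δ α, InDelta 3 δ → ∃ δ', InDelta 3 δ' ∧ f (δ * α) = δ' * f α) :
    ∃ g : Fin 3 → Fin 3, Function.Bijective g ∧ ∀ α, α ≠ 0 → ∀ i j : Fin 3,
      (i : ℕ) = cls (code v w α) → (j : ℕ) = cls (code v w (f α)) → g i = j := by
  have hne : ∀ α, α ≠ 0 → f α ≠ 0 := fun α h e => h (f.injective (e.trans h0.symm))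
  have hrep : ∀ i : Fin 3, ∃ x : F, x ≠ 0 ∧ cls (code v w x) = i := by
    intro i
    obtain ⟨x, hx, hx0, hxc, -⟩ := exists_rep i i.isLt 1 (by norm_num) one_ne_zero
    exact ⟨ev v w x, fun h => hx0 (H.eq_zero hx h), by rw [code_ev H hc hx, hxc]⟩
  choose rep hrep0 hrepc using hrep
  let g : Fin 3 → Fin 3 := fun i => ⟨cls (code v w (f (rep i))), cls_code_lt H hc _⟩
  have hg : ∀ α, α ≠ 0 → ∀ i j : Fin 3, (i : ℕ) = cls (code v w α) →
      (j : ℕ) = cls (code v w (f α)) → g i = j := by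
    intro α hα i j hi hj
    obtain ⟨δ, hδ, rfl⟩ := exists_inDelta H hc (hrep0 i) hα (by rw [hrepc, hi])
    obtain ⟨δ', hδ', e⟩ := heq δ (rep i) hδ
    apply Fin.ext
    change cls (code v w (f (rep i))) = j
    rw [hj, e, cls_inDelta H hc hδ' (hne _ (hrep0 i))]
  refine ⟨g, Finite.surjective_iff_bijective.mp fun j => ?_, hg⟩
  have hα : f.symm (rep j) ≠ 0 := fun e => hrep0 j (by rw [← f.apply_symm_apply (rep j), e, h0])
  exact ⟨⟨_, cls_code_lt H hc (f.symm (rep j))⟩,
    hg _ hα _ _ rfl (by rw [f.apply_symm_apply, hrepc])⟩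

/-- The two conclusions of the search. -/
theorem search {A : F → F} {P : F ≃ F} {R : F → F → RingAut F → F → Prop} (hA : Alg 3 A P R)
    (f : ℕ) (hf : f < 3) (ψ : F ≃ F) (ψ0 : ψ 0 = 0) (ψadd : ∀ x y, ψ (x + y) = ψ x + ψ y)
    (ψeq : ∀ δ α, InDelta 3 δ → ∃ δ', InDelta 3 δ' ∧ ψ (δ * α) = δ' * ψ α)
    (hform : ∀ α, α ≠ 0 → code v w (A α) = form f (code v w (ψ α))) :
    f = 0 ∧ (∀ α, α ≠ 0 → A α * (P α) ^ (2 ^ 3 + 1) = 1) ∧
      ∀ α B σ μ, IsPoint 3 P α B → Admissible 3 σ μ → Basic 3 A P α B σ μ → σ = 1 := by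
  have eA := hA.A_fix
  simp only [show (2 : ℕ) ^ 3 = 8 by norm_num] at eA
  have hPne : ∀ α, α ≠ 0 → P α ≠ 0 := fun α h e => h (P.injective (e.trans hA.P_zero.symm))
  -- the class maps
  obtain ⟨gP, hgP, hgP'⟩ := exists_classMap H hc P hA.P_zero hA.equivariant
  obtain ⟨gψ, hgψ, hgψ'⟩ := exists_classMap H hc ψ ψ0 ψeq
  let eP := Equiv.ofBijective gP hgP
  obtain ⟨p, hp, hp'⟩ := exists_perm (gψ ∘ eP.symm) (hgψ.comp eP.symm.bijective)
  have hclass : ∀ α, α ≠ 0 → pval p (cls (code v w (P α))) = cls (code v w (ψ α)) := by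
    intro α hα
    let i : Fin 3 := ⟨_, cls_code_lt H hc α⟩
    let j : Fin 3 := ⟨_, cls_code_lt H hc (P α)⟩
    let l : Fin 3 := ⟨_, cls_code_lt H hc (ψ α)⟩
    have e : eP.symm j = i := eP.symm_apply_eq.mpr (hgP' α hα i j rfl rfl).symm
    have := hp' j
    rw [Function.comp_apply, e, hgψ' α hα i l rfl rfl] at this
    exact this
  -- the constants of the classes
  have hfix : ∀ x y : F, x ^ 8 = x → y ^ 8 = y → (x * y) ^ 8 = x * y := fun x y hx hy => by
    rw [mul_pow, hx, hy]
  have hnorm : ∀ x : F, (x ^ 9) ^ 8 = x ^ 9 := by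
    intro x
    have : x ^ 64 = x := hc ▸ FiniteField.pow_card x
    calc (x ^ 9) ^ 8 = x ^ 64 * x ^ 8 := by ring
      _ = x ^ 9 := by rw [this]; ring
  let Nv : F → ℕ := fun α => code v w (A α * (P α) ^ 9)
  have hNv8 : ∀ α, Nv α < 8 := fun α => (fixed_iff H hc).mp (hfix _ _ (eA α) (hnorm _))
  have hNv0 : ∀ α, α ≠ 0 → Nv α ≠ 0 := fun α hα e =>
    mul_ne_zero (hA.A_ne α hα) (pow_ne_zero _ (hPne α hα)) ((code_eq_zero H hc).mp e)
  have hNvc : ∀ α β, α ≠ 0 → β ≠ 0 → cls (code v w (P α)) = cls (code v w (P β)) →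
      Nv α = Nv β := by
    intro α β hα hβ e
    have e' : cls (code v w α) = cls (code v w β) := by
      have h1 := hgP' α hα ⟨_, cls_code_lt H hc α⟩ ⟨_, cls_code_lt H hc (P α)⟩ rfl rfl
      have h2 := hgP' β hβ ⟨_, cls_code_lt H hc β⟩ ⟨_, cls_code_lt H hc (P β)⟩ rfl rfl
      exact congrArg Fin.val (hgP.1 (h1.trans ((Fin.ext e).trans h2.symm)))
    obtain ⟨δ, hδ, rfl⟩ := exists_inDelta H hc hα hβ e'
    have := hA.invariant δ α hδ
    norm_num at this
    simp only [Nv]
    rw [this]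
  have hrep : ∀ i < 3, ∀ a < 8, a ≠ 0 → ∃ α, α ≠ 0 ∧ cls (code v w (P α)) = i ∧
      code v w ((P α) ^ 9) = a := by
    intro i hi a ha ha0
    obtain ⟨x, hx, hx0, hxc, hxn⟩ := exists_rep i hi a ha ha0
    refine ⟨P.symm (ev v w x), fun e => ?_, ?_, ?_⟩
    · have := congrArg P e
      rw [P.apply_symm_apply, hA.P_zero] at this
      exact hx0 (H.eq_zero hx this)
    · rw [P.apply_symm_apply, code_ev H hc hx, hxc]
    · rw [P.apply_symm_apply, code_pow_nine H hc, code_ev H hc hx, hxn]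
  obtain ⟨α₀, h00, h01, -⟩ := hrep 0 (by norm_num) 1 (by norm_num) one_ne_zero
  obtain ⟨α₁, h10, h11, -⟩ := hrep 1 (by norm_num) 1 (by norm_num) one_ne_zero
  obtain ⟨α₂, h20, h21, -⟩ := hrep 2 (by norm_num) 1 (by norm_num) one_ne_zero
  obtain ⟨hM, hM0, hM1, hM2⟩ :=
    mval_pack _ (hNv8 α₀) _ (hNv8 α₁) _ (hNv8 α₂)
  generalize hMdef : Nv α₀ + 8 * Nv α₁ + 64 * Nv α₂ = M at hM hM0 hM1 hM2
  have hMv : ∀ α, α ≠ 0 → mval M (cls (code v w (P α))) = Nv α := by
    intro α hα
    have := cls_code_lt H hc (P α)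
    generalize hj : cls (code v w (P α)) = j at this
    interval_cases j
    · rw [hM0]; exact hNvc _ _ h00 hα (h01.trans hj.symm)
    · rw [hM1]; exact hNvc _ _ h10 hα (h11.trans hj.symm)
    · rw [hM2]; exact hNvc _ _ h20 hα (h21.trans hj.symm)
  have hMne : ∀ i < 3, mval M i ≠ 0 := by
    intro i hi
    obtain ⟨α, hα, hαc, -⟩ := hrep i hi 1 (by norm_num) one_ne_zero
    rw [← hαc, hMv α hα]; exact hNv0 α hα
  -- states
  let st : F → ℕ × ℕ := fun α => (cls (code v w (P α)), code v w (A α))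
  have hphi : ∀ α B, α ≠ 0 → B ≠ 0 →
      phi P α B ≠ 0 ∧ st (phi P α B) = act M (code v w B) (st α) := by
    intro α B hα hB
    have hP : P (phi P α B) = B * P α := by simp [phi]
    have hne : phi P α B ≠ 0 := fun e => by
      rw [e, hA.P_zero] at hP; exact mul_ne_zero hB (hPne α hα) hP.symm
    refine ⟨hne, ?_⟩
    have e1 : cls (code v w (P (phi P α B))) =
        (cls (code v w (P α)) + cls (code v w B)) % 3 := by
      rw [hP, cls_code_mul H hc hB (hPne α hα), Nat.add_comm]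
    have a1 : ev v w (mval M (cls (code v w (P α)))) = A α * (P α) ^ 9 := by
      rw [hMv α hα, ev_code H hc]
    have a2 : ev v w (mval M (cls (code v w (P (phi P α B))))) =
        A (phi P α B) * (B * P α) ^ 9 := by
      rw [hMv _ hne, ev_code H hc, hP]
    have hnl : nm (code v w B) < 64 := mul_lt _ _
    have l1 : mval M (cls (code v w (P α))) < 64 := by rw [hMv α hα]; exact code_lt H hc _
    have l2 : mval M (cls (code v w (P (phi P α B)))) < 64 := by
      rw [hMv _ hne]; exact code_lt H hc _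
    simp only [st, act]
    refine Prod.ext e1 ?_
    simp only [← e1]
    refine H.inj (code_lt H hc _) (mul_lt _ _) ?_
    rw [ev_code H hc, H.map_mul (mul_lt _ _) (inv_spec _ (mul_lt _ _)).1,
      H.map_mul l2 (code_lt H hc _), H.map_inv (mul_lt _ _), H.map_mul l1 hnl,
      H.map_nm (code_lt H hc B), ev_code H hc, ev_code H hc, a1, a2]
    have := hPne α hα
    have := hA.A_ne α hα
    field_simp
  -- elements outside the fixed field
  have hne0 : ∀ x : F, x ^ 8 ≠ x → x ≠ 0 := fun x h e => h (by simp [e])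
  have hshift : ∀ x a : F, a ^ 8 = a → x ^ 8 ≠ x → (x + a) ^ 8 ≠ x + a := by
    intro x a ha hx e
    rw [fixed_iff H hc, code_add H hc] at e
    have := xor_lt_eight e ((fixed_iff H hc).mp ha)
    rw [Nat.xor_assoc, Nat.xor_self, Nat.xor_zero] at this
    exact hx ((fixed_iff H hc).mpr this)
  have hinv : ∀ x : F, x ^ 8 ≠ x → x⁻¹ ^ 8 ≠ x⁻¹ := fun x h e => h (by
    have := congrArg (·⁻¹) e
    simpa using this)
  have hBne : ∀ α B, IsPoint 3 P α B → B ^ 8 ≠ B := by
    rintro α B ⟨hα, hB⟩ e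
    norm_num at hB
    rw [e] at hB
    have : ((P α) ^ 9)⁻¹ = 0 := by rw [← hB]; linear_combination B * H.two
    exact hPne α hα (pow_eq_zero_iff (by norm_num) |>.mp (inv_eq_zero.mp this))
  -- the checker follows the structure equation
  have hcheck : ∀ α B σ μ, IsPoint 3 P α B → Admissible 3 σ μ → Basic 3 A P α B σ μ →
      ∃ k < 3, (k = 0 → σ = 1) ∧ basicOK f p M k (st α) (code v w B) = true := by
    rintro α B σ μ hpt ⟨hodd, -, hμ0, hμ⟩ ⟨hb, ha, hz⟩
    norm_num at hμ
    obtain ⟨k, hk, hk0, hσ⟩ := H.exists_sg hc hodd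
    have hσc : ∀ x : F, code v w (σ x) = sg k (code v w x) := by
      intro x
      have hx := code_lt H hc x
      have hsg : sg k (code v w x) < 64 := by
        have s1 := (sq8_eq (code v w x % 8) (by omega)).2
        have s2 := (sq8_eq (code v w x / 8) (by omega)).2
        have s3 := (sq8_eq _ s1).2
        have s4 := (sq8_eq _ s2).2
        interval_cases k <;> simp only [sg] <;> omega
      conv_lhs => rw [← ev_code H hc x, hσ _ hx]
      exact code_ev H hc hsg
    have hσ8 : ∀ x : F, x ^ 8 = x → (σ x) ^ 8 = σ x := fun x hx => by rw [← map_pow, hx]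
    obtain ⟨hα, -⟩ := id hpt
    have hB8 := hBne α B hpt
    have hBi := hinv B hB8
    obtain ⟨n1, s1⟩ := hphi α B hα (hne0 B hB8)
    have hB1 := hshift B⁻¹ (A (phi P α B)) (eA _) hBi
    obtain ⟨nH, sH⟩ := hphi (phi P α B) (B⁻¹ + A (phi P α B)) n1 (hne0 _ hB1)
    have hBt := hshift B (A α) (eA _) hB8
    obtain ⟨nG, sG⟩ := hphi α (B + A α) hα (hne0 _ hBt)
    have c1 : code v w (B⁻¹ + A (phi P α B)) =
        inv (code v w B) ^^^ (act M (code v w B) (st α)).2 := by
      rw [code_add H hc, code_inv H hc, ← s1]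
    have ct : code v w (B + A α) = code v w B ^^^ (st α).2 := code_add H hc _ _
    rw [c1, s1] at sH
    rw [ct] at sG
    have hg0 : σ (A (aG A P α B)) ≠ 0 := by
      rw [map_ne_zero]; exact hA.A_ne _ nG
    have hμe : μ = A (aH A P α B) * (σ (A (aG A P α B)))⁻¹ := by
      rw [ha]; field_simp
    have cμ : code v w μ =
        mul (act M (inv (code v w B) ^^^ (act M (code v w B) (st α)).2)
              (act M (code v w B) (st α))).2
          (inv (sg k (act M (code v w B ^^^ (st α).2) (st α)).2)) := by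
      rw [hμe, code_mul H hc, code_inv H hc, hσc, ← sH, ← sG]; rfl
    refine ⟨k, hk, hk0, ?_⟩
    simp only [basicOK, Bool.and_eq_true, List.all_eq_true, List.mem_range]
    refine ⟨?_, fun i hi => ?_⟩
    · simp only [eqs, beq_iff_eq]
      have := congrArg (code v w) hb
      simp only [bH, bG] at this
      rw [code_inv H hc, c1, code_mul H hc, cμ, hσc, code_add H hc (B + A α)⁻¹,
        code_inv H hc, ct] at this
      simp only [aG] at this
      rw [this, ← sG]
    · have hz8 : (ev v w (i + 1)) ^ 8 = ev v w (i + 1) := by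
        rw [fixed_iff H hc, code_ev H hc (by omega)]; omega
      have hz0 : ev v w (i + 1) ≠ 0 := fun e => by
        have := H.eq_zero (by omega : i + 1 < 64) e; omega
      have e := hz (ev v w (i + 1)) (by norm_num; exact hz8) hz0
      have hT : (bH A P α B + μ * σ (ev v w (i + 1))) ^ 8 ≠
          bH A P α B + μ * σ (ev v w (i + 1)) :=
        hshift _ _ (hfix _ _ hμ (hσ8 _ hz8)) (hinv _ hB1)
      obtain ⟨n2, s2⟩ := hphi (aH A P α B) _ nH (hne0 _ hT)
      have hS : (B + (ev v w (i + 1))⁻¹) ^ 8 ≠ B + (ev v w (i + 1))⁻¹ :=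
        hshift _ _ (by rw [inv_pow, hz8]) hB8
      obtain ⟨nL, sL⟩ := hphi α _ hα (hne0 _ hS)
      have cT : code v w (bH A P α B + μ * σ (ev v w (i + 1))) =
          inv (inv (code v w B) ^^^ (act M (code v w B) (st α)).2) ^^^
            mul (code v w μ) (sg k (i + 1)) := by
        rw [code_add H hc, bH, code_inv H hc, c1, code_mul H hc, hσc, code_ev H hc (by omega)]
      have cS : code v w (B + (ev v w (i + 1))⁻¹) = code v w B ^^^ inv (i + 1) := by
        rw [code_add H hc, code_inv H hc, code_ev H hc (by omega)]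
      rw [show st (aH A P α B) = _ from sH, cT, cμ] at s2
      rw [cS] at sL
      have hslot : ∀ β, β ≠ 0 →
          inSlot f (pre p (st β)).1 (pre p (st β)).2 (code v w (ψ β)) = true := by
        intro β hβ
        simp only [pre, st]
        rw [hclass β hβ, hform β hβ]
        exact slot_complete f hf _ (code_lt H hc _) fun h =>
          hβ (ψ.injective (((code_eq_zero H hc).mp h).trans ψ0.symm))
      simp only [zeq]
      rw [← s2, ← s1, ← sL]
      refine sumOK_of f _ _ _ _ _ (hslot _ n1) (hslot _ n2) ?_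
      rw [← code_add H hc, ← ψadd, ← e]
      exact hslot _ nL
  -- points
  have hpoint : ∀ α, α ≠ 0 → ∀ u < 8,
      IsPoint 3 P α (ev v w (pt M (st α) u)) ∧
        code v w (ev v w (pt M (st α) u)) = pt M (st α) u := by
    intro α hα u hu
    refine ⟨⟨hα, ?_⟩, code_ev H hc (mul_lt _ _)⟩
    have l1 : mval M (cls (code v w (P α))) < 64 := by rw [hMv α hα]; exact code_lt H hc _
    have e : ev v w (pt M (st α) u) = ((P α) ^ 9)⁻¹ * ev v w (8 + u) := by
      simp only [pt, st]
      rw [H.map_mul (mul_lt _ _) (by omega), H.map_mul (code_lt H hc _) (inv_spec _ l1).1,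
        H.map_inv l1, ev_code H hc, hMv α hα, ev_code H hc]
      have := hA.A_ne α hα
      field_simp
    have h1 : ev v w (8 + u) + ev v w (8 + u) ^ 8 = 1 := by
      have hcj : cj (8 + u) < 64 := xor_lt (by omega) (by omega)
      rw [← H.map_cj (by omega : 8 + u < 64),
        ← ev_xor H.two v w (by omega) hcj, trace_omega u hu, ev_one]
    norm_num
    rw [e, mul_pow, inv_pow ((P α) ^ 9), hnorm, ← mul_add, h1, mul_one]
  -- the search
  have hone : ∀ i < 3, ∃ α, α ≠ 0 ∧ st α = (i, 1) := by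
    intro i hi
    obtain ⟨α, hα, hαc, hαn⟩ := hrep i hi (mval M i) (and_seven_lt _) (hMne i hi)
    refine ⟨α, hα, Prod.ext hαc ?_⟩
    have h1 : A α * (P α) ^ 9 = (P α) ^ 9 := by
      have e : code v w (A α * (P α) ^ 9) = code v w ((P α) ^ 9) := by
        rw [hαn, ← hαc, hMv α hα]
      have := congrArg (ev v w) e
      rwa [ev_code H hc, ev_code H hc] at this
    have : A α = 1 := mul_right_cancel₀ (pow_ne_zero 9 (hPne α hα)) (by rw [h1, one_mul])
    simp only [st, this, code_one H hc]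
  have hsome : ∀ i < 3, ∀ u < 8, ∃ k < 3, basicOK f p M k (i, 1) (pt M (i, 1) u) = true := by
    intro i hi u hu
    obtain ⟨α, hα, hαs⟩ := hone i hi
    obtain ⟨hpt, hpc⟩ := hpoint α hα u hu
    obtain ⟨σ, μ, hadm, hbas, -⟩ := hA.step _ _ hpt
    obtain ⟨k, hk, -, hok⟩ := hcheck _ _ σ μ hpt hadm hbas
    rw [hpc, hαs] at hok
    exact ⟨k, hk, hok⟩
  have hM' : M ∈ cands := check_one M hM hMne fun i hi u hu => by
    obtain ⟨k, hk, hok⟩ := hsome i hi u hu
    simp only [basicOK, Bool.and_eq_true] at hok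
    exact ⟨k, hk, hok.1⟩
  obtain ⟨hf0, hM73⟩ : f = 0 ∧ M = 73 := by
    rcases check_two f hf p hp M hM' with h | h
    · exact h
    · obtain ⟨k, hk, hok⟩ := hsome 0 (by norm_num) 0 (by norm_num)
      rw [h k hk] at hok
      exact absurd hok (by simp)
  refine ⟨hf0, fun α hα => ?_, fun α B σ μ hpt hadm hbas => ?_⟩
  · have h1 : mval M (cls (code v w (P α))) = 1 := by
      have := cls_code_lt H hc (P α)
      obtain ⟨e0, e1, e2⟩ := mval_one
      rw [hM73]
      interval_cases cls (code v w (P α)) <;> assumption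
    rw [hMv α hα] at h1
    norm_num
    rw [← ev_code H hc (A α * (P α) ^ 9), show code v w (A α * (P α) ^ 9) = 1 from h1, ev_one]
  · obtain ⟨k, hk, hk0, hok⟩ := hcheck α B σ μ hpt hadm hbas
    by_contra hne
    have hk' : k ≠ 0 := fun e => hne (hk0 e)
    obtain ⟨hα, hB⟩ := hpt
    norm_num at hB
    -- `B` is a point with some parameter
    have l1 : mval M (cls (code v w (P α))) < 64 := by rw [hMv α hα]; exact code_lt H hc _
    have hAne := hA.A_ne α hα
    have hPα := hPne α hα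
    obtain ⟨u, hu, huc⟩ := trace_one _ (code_lt H hc ((P α) ^ 9 * B)) (by
      rw [← code_pow_eight H hc, ← code_add H hc, mul_pow, hnorm, ← mul_add, hB,
        mul_inv_cancel₀ (pow_ne_zero 9 hPα), code_one H hc])
    have hBe : code v w B = pt M (st α) u := by
      refine H.inj (code_lt H hc B) (mul_lt _ _) ?_
      simp only [pt, st]
      rw [H.map_mul (mul_lt _ _) (by omega), H.map_mul (code_lt H hc _) (inv_spec _ l1).1,
        H.map_inv l1, ev_code H hc, ev_code H hc, hMv α hα, ev_code H hc, ← huc, ev_code H hc]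
      field_simp
    have h8 : code v w (A α) < 8 := (fixed_iff H hc).mp (eA α)
    have h0 : code v w (A α) ≠ 0 := fun e => hAne ((code_eq_zero H hc).mp e)
    have := check_three p hp k hk hk' (cls (code v w (P α))) (cls_code_lt H hc _)
      (code v w (A α)) h8 h0 u hu
    rw [hBe, hM73, hf0] at hok
    simp only [st] at hok
    rw [this] at hok
    exact Bool.false_ne_true hok

end code

/-- U12: the finite check for `q = 8`. -/
theorem eight : Stmt.Eight.{u} := by
  intro F _ _ A P R hc hform hA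
  obtain ⟨v, w, H⟩ := exists_basis hc
  rcases hform with hN | ⟨a₀, r, hT⟩
  · obtain ⟨-, h1, h2⟩ := search H hc hA 0 (by norm_num) (Equiv.refl F) rfl (fun _ _ => rfl)
      (fun δ _ hδ => ⟨δ, hδ, rfl⟩)
      (fun α _ => by rw [hN, code_pow_nine H hc]; rfl)
    exact ⟨fun α => by rw [hN]; norm_num [normForm], h1, h2⟩
  · exfalso
    have h2 : CharP F 2 := CharTwo.of_one_ne_zero_of_two_eq_zero one_ne_zero H.two
    have hinj : Function.Injective fun x : F => x ^ (2 ^ r) := fun x y h => by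
      have h' : (x + y) ^ (2 ^ r) = 0 := by
        rw [add_pow_char_pow, show x ^ (2 ^ r) = y ^ (2 ^ r) from h]
        linear_combination y ^ (2 ^ r) * H.two
      have := eq_zero_of_pow_eq_zero h'
      linear_combination this - y * H.two
    have hsurj : Function.Surjective fun x : F => x ^ (2 ^ r) :=
      Finite.injective_iff_surjective.mp hinj
    have hA' : ∀ α, A α = a₀ ^ (2 ^ r) * (α ^ (2 ^ r)) ^ 3 +
        (a₀ ^ (2 ^ r) * (α ^ (2 ^ r)) ^ 3) ^ 8 := by
      intro α
      rw [hT, add_pow_char_pow, ← pow_mul (a₀ * α ^ 3) 8, mul_comm 8, pow_mul, mul_pow,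
        ← pow_mul α 3, mul_comm 3, pow_mul]
    have hne : ∀ c : F, c ≠ 0 → a₀ ^ (2 ^ r) * c ^ 3 + (a₀ ^ (2 ^ r) * c ^ 3) ^ 8 ≠ 0 := by
      intro c hc0
      obtain ⟨α, hα⟩ := hsurj c
      have hα0 : α ≠ 0 := fun e => hc0 (by rw [← hα, e]; exact zero_pow (by positivity))
      rw [← hα, ← hA' α]; exact hA.A_ne α hα0
    rcases trace_forms _ (code_lt H hc (a₀ ^ (2 ^ r))) with h | h | ⟨f, hf, g, hg, hg0, hb⟩
    · exact hne 1 one_ne_zero (by rw [(code_eq_zero H hc).mp h]; simp)
    · have hb0 : a₀ ^ (2 ^ r) ≠ 0 := fun e => hne 1 one_ne_zero (by rw [e]; simp)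
      obtain ⟨c, hcl, hcc⟩ := cls_zero _ (code_lt H hc (a₀ ^ (2 ^ r)))
        (fun e => hb0 ((code_eq_zero H hc).mp e)) h
      have e : a₀ ^ (2 ^ r) = ev v w c * (ev v w c * ev v w c) := by
        rw [← H.map_mul hcl hcl, ← H.map_mul hcl (mul_lt _ _), hcc, ev_code H hc]
      have hc0 : ev v w c ≠ 0 := fun e' => hb0 (by rw [e, e', zero_mul])
      refine hne (ev v w c)⁻¹ (inv_ne_zero hc0) ?_
      have : a₀ ^ (2 ^ r) * (ev v w c)⁻¹ ^ 3 = 1 := by rw [e]; field_simp
      rw [this, one_pow]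
      linear_combination H.two
    · have hγ : ev v w g ≠ 0 := fun e => hg0 (H.eq_zero hg e)
      let ψ : F ≃ F := Equiv.ofBijective (fun x => ev v w g * x ^ (2 ^ r))
        ⟨fun x y h => hinj (mul_left_cancel₀ hγ h),
          fun y => (hsurj ((ev v w g)⁻¹ * y)).imp fun x hx => by
            change ev v w g * x ^ (2 ^ r) = y
            rw [show x ^ (2 ^ r) = _ from hx, mul_inv_cancel_left₀ hγ]⟩
      have hψ : ∀ x, ψ x = ev v w g * x ^ (2 ^ r) := fun _ => rfl
      obtain ⟨h0, -⟩ := search H hc hA f (by omega) ψ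
        (by rw [hψ, zero_pow (by positivity), mul_zero])
        (fun x y => by rw [hψ, hψ, hψ, add_pow_char_pow, mul_add])
        (fun δ α hδ => ⟨δ ^ (2 ^ r), ⟨pow_ne_zero _ hδ.1, fun h3 => by
            obtain ⟨c, rfl⟩ := hδ.2 h3
            exact ⟨c ^ (2 ^ r), by rw [← pow_mul, mul_comm, pow_mul]⟩⟩,
          by rw [hψ, hψ, mul_pow]; ring⟩)
        (fun α _ => by
          have hfc : form f (code v w (ψ α)) = mul (if f = 1 then 10 else 11)
              (mul (code v w (ψ α)) (mul (code v w (ψ α)) (code v w (ψ α)))) / 8 := by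
            rcases hf with rfl | rfl <;> rfl
          have ht : (if f = 1 then 10 else 11 : ℕ) < 64 := by split <;> norm_num
          rw [hfc, ← code_mul H hc, ← code_mul H hc, hA', code_add H hc, code_pow_eight H hc]
          have hx : code v w (a₀ ^ (2 ^ r) * (α ^ (2 ^ r)) ^ 3) =
              mul (if f = 1 then 10 else 11) (code v w (ψ α * (ψ α * ψ α))) := by
            conv_rhs => rw [← code_ev H hc ht, ← code_mul H hc]
            congr 1
            conv_lhs => rw [← ev_code H hc (a₀ ^ (2 ^ r)), ← hb, H.map_mul ht (mul_lt _ _),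
              H.map_mul hg (mul_lt _ _), H.map_mul hg hg]
            rw [hψ]; ring
          rw [hx]
          exact xor_cj _ (mul_lt _ _))
      omega

end Cfsg.Agent.Involutions.RankOne.U3.Eight
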