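import Cfsg.Agent.Lib.Involutions.RankOne.U3.FormulaOne
import Cfsg.Agent.Lib.Involutions.RankOne.U3.Interface

/-!
# The branch `|Q| = q³`, U11: the map of the unital

With all constants equal to one, the structure equation forces `f (α, β) = (α / β, 1 / β)`.
-/

set_option autoImplicit false

namespace Cfsg.Agent.Involutions.RankOne.U3.Fld

open Finset Cfsg.Agent.Involutions.RankOne.U3

variable {F : Type*} [Field F] {n : ℕ}

lemma beta_algebra_zero [CharP F 2] {B T w tL t' t2 : F} (hB : B ≠ 0) (hBc : B + T ≠ 0) (hS : B + w ≠ 0)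
    (hSc : B + T + w ≠ 0) (hT : T ≠ 0)
    (eq : (B + w)⁻¹ + tL * (T / ((B + w) * (B + T + w))) =
      B⁻¹ + t' * (T / (B * (B + T))) + (w / ((B + T) * (B + w)) +
        t2 * (T * w ^ 2 / (B * (B + T) * ((B + w) * (B + T + w))))) + T * w / (B * (B + T) * (B + w))) :
    (tL + t') * (B * (B + T)) + (t' + t2) * w ^ 2 + t' * T * w = 0 := by
  have h2 : (2 : F) = 0 := CharTwo.two_eq_zero
  field_simp at eq
  refine mul_left_cancel₀ hT ?_
  rw [mul_zero]
  linear_combination eq + (t' * T * ((B + w) * (B + T + w)) - t' * T * B * w + t2 * T * w ^ 2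
    + w * (B + T + w) * (B + T)) * h2

lemma beta_algebra_one [CharP F 2] {B T w tL t' t2 : F} (hB : B ≠ 0) (hBc : B + T ≠ 0) (hS : B + w ≠ 0)
    (hSc : B + T + w ≠ 0) (hT : T ≠ 0)
    (eq : (B + w)⁻¹ + tL * (T / ((B + w) * (B + T + w))) =
      B⁻¹ + t' * (T / (B * (B + T))) + (w / ((B + T) * (B + w)) +
        t2 * (T * w ^ 2 / (B * (B + T) * ((B + w) * (B + T + w))))) + T * w / (B * (B + T) * (B + T + w))) :
    (tL + t') * (B * (B + T)) + (t' + t2) * w ^ 2 + (t' + 1) * T * w = 0 := by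
  have h2 : (2 : F) = 0 := CharTwo.two_eq_zero
  field_simp at eq
  refine mul_left_cancel₀ hT ?_
  rw [mul_zero]
  linear_combination eq + (t' * T * ((B + w) * (B + T + w)) - t' * T * B * w + t2 * T * w ^ 2
    + T ^ 2 * w + w * (B * (B + T + w) + T * B + T * w)) * h2

/-- The quotient `τ(α) / N(α)`. -/
def tt (n : ℕ) (τ : F → F) (α : F) : F := τ α / normForm n α

/-- The base points at which only the identity occurs. -/
def Good (n : ℕ) (P : F ≃ F) (α B : F) : Prop :=
  ∀ (σ : RingAut F) (μ : F), Admissible n σ μ → Basic n (normForm n) P α B σ μ → σ = 1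

variable [Fintype F] [CharP F 2] (hn : 2 ≤ n) (hc : Fintype.card F = (2 ^ n) ^ 2)
variable {P : F ≃ F} {τ : F → F} (h : HermAlg n P τ) (h3 : n = 3 → SmallResult n (normForm n) P)

include hc

omit [Fintype F] [CharP F 2] hc in
lemma fib_ne {T B : F} (hT : T ≠ 0) (hB : trc n B = T) : B ≠ 0 := by
  rintro rfl
  rw [trc, zero_pow (Nat.two_pow_pos n).ne', add_zero] at hB
  exact hT hB.symm

include hn

lemma bound_facts : ∃ N : ℕ, (n ≠ 3 → excBound n ≤ N) ∧ N + 2 ≤ cm n ∧ N + 2 ≤ 2 ^ n ∧ 3 ≤ cm n := by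
  have hcd := cd_mul_cm n
  have h4 : 4 ≤ 2 ^ n := le_trans (by norm_num) (Nat.pow_le_pow_right (show 2 > 0 by norm_num) hn)
  rcases Nat.even_or_odd n with he | ho
  · rw [cd, if_neg (Nat.not_odd_iff_even.mpr he), one_mul] at hcd
    have := excBound_even hn
    exact ⟨excBound n, fun _ => le_rfl, by omega, by omega, by omega⟩
  · rw [cd, if_pos ho] at hcd
    have h8 : 8 ≤ 2 ^ n := le_trans (by norm_num)
      (Nat.pow_le_pow_right (show 2 > 0 by norm_num) (show 3 ≤ n by obtain ⟨k, rfl⟩ := ho; omega))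
    by_cases hn3 : n = 3
    · exact ⟨0, fun e => absurd hn3 e, by omega, by omega, by omega⟩
    · have := excBound_odd hn ho hn3
      exact ⟨excBound n, fun _ => le_rfl, by omega, by omega, by omega⟩

include h h3

lemma normForm_P {α : F} (hα : α ≠ 0) : (normForm n (P α))⁻¹ = normForm n α := by
  have h1 := norm_one hn hc h.base h3 (P_ne h.base hα)
  rw [nu, P.symm_apply_apply] at h1
  exact inv_eq_of_mul_eq_one_left h1

omit hn hc h3 [Fintype F] [CharP F 2] in
lemma phi_ne {α D : F} (hα : α ≠ 0) (hD : D ≠ 0) : phi P α D ≠ 0 :=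
  symm_ne h.base (mul_ne_zero hD (P_ne h.base hα))

omit hn hc h h3 [Fintype F] [CharP F 2] in
lemma P_phi (α D : F) : P (phi P α D) = D * P α := P.apply_symm_apply _

lemma normForm_phi' {α D : F} (hα : α ≠ 0) (hD : D ≠ 0) :
    normForm n (phi P α D) = normForm n α / normForm n D := by
  rw [← normForm_P hn hc h h3 (phi_ne h hα hD), P_phi, normForm_mul, mul_inv,
    normForm_P hn hc h h3 hα, div_eq_mul_inv, mul_comm]

lemma isPoint {α B : F} (hα : α ≠ 0) (hB : trc n B = normForm n α) : IsPoint n P α B :=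
  ⟨hα, by rw [show (P α) ^ (2 ^ n + 1) = normForm n (P α) from rfl, normForm_P hn hc h h3 hα]; exact hB⟩

lemma bH_eq {α B : F} (hα : α ≠ 0) (hB : trc n B = normForm n α) :
    B⁻¹ + normForm n (phi P α B) = (B ^ (2 ^ n))⁻¹ := by
  have hB0 := fib_ne (n := n) (normForm_ne hα) hB
  rw [normForm_phi' hn hc h h3 hα hB0, ← hB, trc, normForm_eq B]
  field_simp
  linear_combination CharTwo.add_self_eq_zero (B ^ (2 ^ n))

/-- At a good base the automorphism is trivial and `μ` is the norm of the base. -/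
lemma good_step {α B : F} (hα : α ≠ 0) (hB : trc n B = normForm n α) (hg : Good n P α B)
    {w : F} (hw : w ≠ 0) (hwr : w ^ (2 ^ n) = w) :
    ∃ a2 : F, phi P α (B + w) = phi P α B + a2 ∧
      normForm n a2 = normForm n α * w ^ 2 / (normForm n B * normForm n (B + w)) ∧
      P a2 = (B + w) * w⁻¹ * B * P α ∧
      (B + w)⁻¹ + τ (phi P α (B + w)) =
        (B⁻¹ + τ (phi P α B)) + ((B ^ (2 ^ n) + normForm n B * w⁻¹)⁻¹ + τ a2) +
          phi P α B ^ (2 ^ n) * a2 := by
  obtain ⟨σ, μ, hadm, hbas, hbeta⟩ := h.base.step α B (isPoint hn hc h h3 hα hB)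
  obtain rfl := hg σ μ hadm hbas
  obtain ⟨he, -, hz⟩ := hbas
  have hT := normForm_ne (n := n) hα
  have hB0 := fib_ne hT hB
  have hBc0 : B ^ (2 ^ n) ≠ 0 := pow_ne_zero _ hB0
  have hH : bH (normForm n) P α B = B ^ (2 ^ n) := by
    rw [bH, bH_eq hn hc h h3 hα hB, inv_inv]
  have haH : aH (normForm n) P α B = phi P (phi P α B) (B ^ (2 ^ n))⁻¹ := by
    rw [aH, bH_eq hn hc h h3 hα hB]
  have hS : B + normForm n α = B ^ (2 ^ n) := by
    rw [← hB, trc, ← add_assoc, CharTwo.add_self_eq_zero, zero_add]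
  have hG : bG (normForm n) P α B = B⁻¹ := by
    rw [bG, aG, hS, normForm_phi' hn hc h h3 hα hBc0, ← hB, trc, normForm_eq, pow_qq hc]
    field_simp
    linear_combination CharTwo.add_self_eq_zero B
  rw [hH, hG, RingAut.one_apply] at he
  have hμ : μ = normForm n B := by
    rw [normForm_eq, he]; field_simp
  have hz' : w⁻¹ ^ (2 ^ n) = w⁻¹ := by rw [inv_pow, hwr]
  have h1 := hz w⁻¹ hz' (inv_ne_zero hw)
  have h2 := hbeta w⁻¹ hz' (inv_ne_zero hw)
  simp only [RingAut.one_apply, hH, haH, inv_inv, hμ] at h1 h2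
  have hBw : B + w ≠ 0 := fib_ne hT (show trc n (B + w) = normForm n α by
    rw [trc_add, hB, trc_fix hwr, add_zero])
  have hsum : B ^ (2 ^ n) + normForm n B * w⁻¹ = B ^ (2 ^ n) * ((B + w) * w⁻¹) := by
    rw [normForm_eq]; field_simp; ring
  have hne : B ^ (2 ^ n) * ((B + w) * w⁻¹) ≠ 0 := mul_ne_zero hBc0 (mul_ne_zero hBw (inv_ne_zero hw))
  have hφ0 : phi P α B ≠ 0 := phi_ne h hα hB0
  have haH0 : phi P (phi P α B) (B ^ (2 ^ n))⁻¹ ≠ 0 := phi_ne h hφ0 (inv_ne_zero hBc0)
  have hNc : normForm n (B ^ (2 ^ n)) = normForm n B := by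
    rw [normForm_eq, pow_qq hc, normForm_eq, mul_comm]
  refine ⟨_, h1, ?_, ?_, h2⟩
  · rw [hsum, normForm_phi' hn hc h h3 haH0 hne, normForm_phi' hn hc h h3 hφ0 (inv_ne_zero hBc0),
      normForm_phi' hn hc h h3 hα hB0, normForm_mul, normForm_mul, normForm_inv, normForm_inv, hNc,
      normForm_fix hwr]
    have := normForm_ne (n := n) hB0
    have := normForm_ne (n := n) hBw
    field_simp
  · rw [hsum, P_phi, P_phi, P_phi]
    field_simp

/-- There are few bases which are not good. -/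
lemma card_bad_le [DecidableEq F] [DecidablePred fun x : F × F => Good n P x.1 x.2] {α : F} (hα : α ≠ 0)
    {N : ℕ} (hN : n ≠ 3 → excBound n ≤ N) :
    (univ.filter fun B : F => trc n B = normForm n α ∧ ¬ Good n P (α, B).1 (α, B).2).card ≤ N := by
  by_cases hn3 : n = 3
  · rw [Finset.filter_eq_empty_iff.mpr]
    · simp
    rintro B - ⟨hB, hbad⟩
    exact hbad fun σ μ ha hb => (h3 hn3).2.2 α B σ μ (isPoint hn hc h h3 hα hB) ha hb
  refine le_trans ?_ (hN hn3)
  have hM0 : normForm n (P α) ≠ 0 := normForm_ne (P_ne h.base hα)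
  refine le_trans (Finset.card_le_card_of_injOn (fun B => B * normForm n (P α))
    (t := (expSet n).biUnion fun k => univ.filter fun p : F => trc n p = 1 ∧ p ^ (2 ^ k) + p = 0) ?_ ?_) ?_
  · intro B hB
    simp only [Finset.coe_filter, Finset.mem_univ, true_and, Set.mem_setOf_eq] at hB
    obtain ⟨hB, hbad⟩ := hB
    simp only [Good, not_forall] at hbad
    obtain ⟨σ, μ, ⟨-, hσ, hμ, hμr⟩, ⟨he, -, -⟩, h1⟩ := hbad
    have hp : trc n (B * normForm n (P α)) = 1 := by
      rw [mul_comm, trc_mul_fix (normForm_real hc _), hB, ← normForm_P hn hc h h3 hα,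
        mul_inv_cancel₀ hM0]
    have heq := equation hn hc h.base hα hp hμ hμr (by rw [mul_div_cancel_right₀ _ hM0]; exact he)
    have hp0 := trc_one_ne hn hc hp
    have hP0 := P_ne h.base hα
    rw [norm_one hn hc h.base h3 hP0] at heq
    rw [norm_one hn hc h.base h3 (mul_ne_zero (shift_ne hc 1 _ hp (one_pow _)) hP0),
      norm_one hn hc h.base h3 (mul_ne_zero hp0 hP0)] at heq
    obtain ⟨k, hk, hkx⟩ := exists_exponent_mem hn hc hσ h1
    simp only [Finset.mem_coe, Finset.mem_biUnion, Finset.mem_filter, Finset.mem_univ, true_and]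
    refine ⟨k, hk, hp, ?_⟩
    rw [hkx, add_pow_char_pow, add_pow_char_pow, add_pow_char_pow, one_pow] at heq
    linear_combination heq + CharTwo.add_self_eq_zero (B * normForm n (P α))
      - CharTwo.add_self_eq_zero (1 : F)
  · intro B _ C _ e
    exact mul_right_cancel₀ hM0 e
  · exact le_trans Finset.card_biUnion_le
      (Finset.sum_le_sum fun k _ => card_sol_le (n := n) (by omega) k 1 0)

lemma exists_good_cube {α : F} (hα : α ≠ 0) :
    ∃ B S : F, trc n B = normForm n α ∧ cls n B = 1 ∧ Good n P α B ∧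
      trc n S = normForm n α ∧ cls n S = 1 ∧ S ≠ B := by
  classical
  obtain ⟨N, hN, hN1, -, hcm⟩ := bound_facts hn hc
  have h1 := card_fib_cls hc hn (normForm_ne hα) (normForm_real hc α) (one_pow (cd n))
  rw [if_pos rfl] at h1
  set U := univ.filter fun B : F => trc n B = normForm n α ∧ cls n B = 1 with hU
  have h2 := card_bad_le hn hc h h3 hα hN
  have hex : ∃ B ∈ U, Good n P α B := by
    by_contra hcon
    push Not at hcon
    have : U.card ≤ N := le_trans (Finset.card_le_card fun B hB => by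
      simp only [Finset.mem_filter, Finset.mem_univ, true_and]
      exact ⟨(Finset.mem_filter.mp hB).2.1, hcon B hB⟩) h2
    omega
  obtain ⟨B, hBU, hg⟩ := hex
  obtain ⟨S, hSU, hne⟩ := Finset.exists_mem_ne (show 1 < U.card by omega) B
  rw [hU, Finset.mem_filter] at hBU hSU
  exact ⟨B, S, hBU.2.1, hBU.2.2, hg, hSU.2.1, hSU.2.2, hne⟩

lemma exists_two_good {α : F} (hα : α ≠ 0) :
    ∃ B₁ B₂ : F, trc n B₁ = normForm n α ∧ Good n P α B₁ ∧
      trc n B₂ = normForm n α ∧ Good n P α B₂ ∧ B₁ ≠ B₂ := by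
  classical
  obtain ⟨N, hN, -, hN2, -⟩ := bound_facts hn hc
  have h1 := card_fib hc hn (normForm_ne hα) (normForm_real hc α)
  have h2 := card_bad_le hn hc h h3 hα hN
  set U := univ.filter fun B : F => trc n B = normForm n α with hU
  have h4 : 1 < (U.filter fun B => Good n P α B).card := by
    have := Finset.card_filter_add_card_filter_not (s := U) (fun B => Good n P α B)
    have : (U.filter fun B => ¬ Good n P α B).card ≤ N := le_trans (Finset.card_le_card fun B hB => by
      simp only [hU, Finset.mem_filter, Finset.mem_univ, true_and] at hB ⊢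
      exact hB) h2
    omega
  obtain ⟨B₁, hB₁, B₂, hB₂, hne⟩ := Finset.one_lt_card.mp h4
  simp only [hU, Finset.mem_filter, Finset.mem_univ, true_and] at hB₁ hB₂
  exact ⟨B₁, B₂, hB₁.1, hB₁.2, hB₂.1, hB₂.2, hne⟩

/-- The two possible values at a good base. -/
lemma two_values {α B S : F} (hα : α ≠ 0) (hB : trc n B = normForm n α) (hg : Good n P α B)
    (hS : trc n S = normForm n α) :
    S * phi P α S / α = B * phi P α B / α ∨
      S * phi P α S / α * (B * S ^ (2 ^ n)) = B * phi P α B / α * (B ^ (2 ^ n) * S) := by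
  have hT := normForm_ne (n := n) hα
  have hB0 := fib_ne hT hB
  have hS0 := fib_ne hT hS
  by_cases hBS : S = B
  · left; rw [hBS]
  obtain ⟨w, rfl⟩ : ∃ w, S = B + w := ⟨S + B, by linear_combination -(CharTwo.add_self_eq_zero B)⟩
  have hw : w ≠ 0 := by rintro rfl; exact hBS (add_zero B)
  have hwr : w ^ (2 ^ n) = w := by
    rw [← trc_eq_zero_iff]
    rw [trc_add, hB] at hS
    exact add_eq_left.mp hS
  obtain ⟨a2, h1, h2, -, -⟩ := good_step hn hc h h3 hα hB hg hw hwr
  set gB := B * phi P α B / α with hgB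
  set gS := (B + w) * phi P α (B + w) / α with hgS
  have hNg : ∀ D : F, D ≠ 0 → normForm n (D * phi P α D / α) = 1 := by
    intro D hD
    rw [div_eq_mul_inv, normForm_mul, normForm_mul, normForm_inv, normForm_phi' hn hc h h3 hα hD]
    have := normForm_ne (n := n) hD
    field_simp
  have hgB1 : gB * gB ^ (2 ^ n) = 1 := (normForm_eq gB).symm.trans (hNg B hB0)
  have hgS1 : gS * gS ^ (2 ^ n) = 1 := (normForm_eq gS).symm.trans (hNg _ hS0)
  have ha : (gS * B + gB * (B + w)) * α = a2 * (B * (B + w)) := by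
    rw [hgS, hgB, h1]
    field_simp
    linear_combination CharTwo.add_self_eq_zero (phi P α B)
  have hNB := normForm_ne (n := n) hB0
  have hNS := normForm_ne (n := n) hS0
  have hN : normForm n (gS * B + gB * (B + w)) = w ^ 2 := by
    have e := congrArg (normForm n) ha
    rw [normForm_mul, normForm_mul, normForm_mul, h2] at e
    refine mul_right_cancel₀ hT ?_
    rw [e]; field_simp
  have hgB0 : gB ≠ 0 := left_ne_zero_of_mul_eq_one hgB1
  have hgS0 : gS ≠ 0 := left_ne_zero_of_mul_eq_one hgS1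
  rw [normForm_eq, conj_add, mul_pow, mul_pow, conj_add, hwr] at hN
  rw [conj_add, hwr]
  set Bc := B ^ (2 ^ n) with hBc
  have key : (gS + gB) * (gS * (B * (Bc + w)) + gB * (Bc * (B + w))) = 0 := by
    linear_combination (gS * gB) * hN
      - (gS * B + gB * (B + w)) * (gB * Bc) * hgS1
      - (gS * B + gB * (B + w)) * (gS * (Bc + w)) * hgB1
      + (gS * gB * w ^ 2) * CharTwo.two_eq_zero (R := F) * 0
  rcases mul_eq_zero.mp key with e | e
  · exact Or.inl (CharTwo.add_eq_zero.mp e)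
  · exact Or.inr (CharTwo.add_eq_zero.mp e)

/-- The first coordinate of the image is `α ξ / β` with `β = B` or `β = conj B`. -/
lemma phi_form {α : F} (hα : α ≠ 0) :
    ∃ ξ e : F, normForm n ξ = 1 ∧ (e = 0 ∨ e = 1) ∧
      ∀ D : F, trc n D = normForm n α → phi P α D = α * ξ / (D + e * normForm n α) := by
  obtain ⟨B₁, B₂, hB₁, hg₁, hB₂, hg₂, hne⟩ := exists_two_good hn hc h h3 hα
  have hT := normForm_ne (n := n) hα
  have hconj : ∀ D : F, trc n D = normForm n α → D ^ (2 ^ n) = D + normForm n α := fun D hD => by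
    rw [← hD, trc, ← add_assoc, CharTwo.add_self_eq_zero, zero_add]
  have hcne : ∀ D : F, trc n D = normForm n α → D + normForm n α ≠ 0 := fun D hD => by
    rw [← hconj D hD]; exact pow_ne_zero _ (fib_ne hT hD)
  have hNg : ∀ D : F, trc n D = normForm n α → normForm n (D * phi P α D / α) = 1 := by
    intro D hD
    rw [div_eq_mul_inv, normForm_mul, normForm_mul, normForm_inv,
      normForm_phi' hn hc h h3 hα (fib_ne hT hD)]
    have := normForm_ne (n := n) (fib_ne hT hD)
    field_simp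
  set G : F → F := fun D => D * phi P α D / α with hG
  have hG0 : ∀ D : F, trc n D = normForm n α → G D ≠ 0 := fun D hD =>
    div_ne_zero (mul_ne_zero (fib_ne hT hD) (phi_ne h hα (fib_ne hT hD))) hα
  have htv : ∀ B D : F, trc n B = normForm n α → Good n P α B → trc n D = normForm n α →
      G D = G B ∨ G D * (B * (D + normForm n α)) = G B * ((B + normForm n α) * D) := by
    intro B D hB hg hD
    rw [← hconj D hD, ← hconj B hB]
    exact two_values hn hc h h3 hα hB hg hD
  -- the two cases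
  have hcases : (∀ D : F, trc n D = normForm n α → G D = G B₁) ∨
      ∀ D : F, trc n D = normForm n α →
        G D * (B₁ * (D + normForm n α)) = G B₁ * ((B₁ + normForm n α) * D) := by
    rcases htv B₁ B₂ hB₁ hg₁ hB₂ with e12 | e12
    · left
      intro D hD
      rcases htv B₁ D hB₁ hg₁ hD with e | e
      · exact e
      rcases htv B₂ D hB₂ hg₂ hD with e' | e'
      · exact e'.trans e12
      exfalso
      rw [e12] at e'
      apply hne
      have : (B₁ - B₂) * (G B₁ * normForm n α * D) = 0 := by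
        linear_combination B₂ * e - B₁ * e'
      rcases mul_eq_zero.mp this with h' | h'
      · exact sub_eq_zero.mp h'
      · exact absurd h' (mul_ne_zero (mul_ne_zero (hG0 B₁ hB₁) hT) (fib_ne hT hD))
    · right
      intro D hD
      rcases htv B₁ D hB₁ hg₁ hD with e | e
      swap
      · exact e
      rcases htv B₂ D hB₂ hg₂ hD with e' | e'
      · exfalso
        apply hne
        rw [← e', e] at e12
        have : (B₁ - B₂) * (G B₁ * normForm n α) = 0 := by
          linear_combination e12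
        rcases mul_eq_zero.mp this with h' | h'
        · exact sub_eq_zero.mp h'
        · exact absurd h' (mul_ne_zero (hG0 B₁ hB₁) hT)
      · refine mul_right_cancel₀ (mul_ne_zero (fib_ne hT hB₂) (hcne B₂ hB₂)) ?_
        linear_combination (B₁ * (B₂ + normForm n α)) * e' + ((B₂ + normForm n α) * D) * e12
  rcases hcases with hcs | hcs
  · refine ⟨G B₁, 0, hNg _ hB₁, Or.inl rfl, fun D hD => ?_⟩
    have hD0 := fib_ne hT hD
    rw [zero_mul, add_zero, ← hcs D hD, hG]
    field_simp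
  · refine ⟨G B₁ * ((B₁ + normForm n α) / B₁), 1, ?_, Or.inr rfl, fun D hD => ?_⟩
    · rw [← hconj B₁ hB₁, normForm_mul, hNg _ hB₁, one_mul, div_eq_mul_inv, normForm_mul, normForm_inv,
        normForm_eq (B₁ ^ (2 ^ n)), pow_qq hc, mul_comm (B₁ ^ (2 ^ n)) B₁, ← normForm_eq,
        mul_inv_cancel₀ (normForm_ne (fib_ne hT hB₁))]
    have hD0 := fib_ne hT hD
    have hB0 := fib_ne hT hB₁
    have hDc := hcne D hD
    have e := hcs D hD
    rw [one_mul, eq_div_iff hDc]
    simp only [hG] at e ⊢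
    field_simp at e ⊢
    linear_combination e

omit hn hc h3 [CharP F 2] [Fintype F] in
lemma tt_smul {δ α : F} (hδ : InDelta n δ) (hα : α ≠ 0) : tt n τ (δ * α) = tt n τ α := by
  rw [tt, tt, h.tau_smul δ α hδ hα, normForm_mul, normForm, mul_div_mul_left _ _ (pow_ne_zero _ hδ.1)]

omit h3 in
lemma tt_cls {α γ : F} (hα : α ≠ 0) (hγ : γ ≠ 0) (he : cls n (P γ) = cls n (P α)) :
    tt n τ γ = tt n τ α := by
  obtain ⟨δ, hδ, rfl⟩ := exists_delta hn hc h.base hα hγ he
  exact tt_smul h hδ hα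

/-- The second coordinate of the structure equation at a good base. -/
lemma beta_eq {α B w ξ e : F} (hα : α ≠ 0) (hB : trc n B = normForm n α) (hg : Good n P α B)
    (hw : w ≠ 0) (hwr : w ^ (2 ^ n) = w) (hξ : normForm n ξ = 1) (he : e = 0 ∨ e = 1)
    (hf : ∀ D : F, trc n D = normForm n α → phi P α D = α * ξ / (D + e * normForm n α)) :
    ∃ a2 : F, a2 ≠ 0 ∧ cls n (P a2) = cls n (B + w) * cls n B * cls n (P α) ∧
      (tt n τ (phi P α (B + w)) + tt n τ (phi P α B)) * normForm n B +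
          (tt n τ (phi P α B) + tt n τ a2) * w ^ 2 +
          (tt n τ (phi P α B) + e) * normForm n α * w = 0 := by
  have hT := normForm_ne (n := n) hα
  have hB0 := fib_ne hT hB
  obtain ⟨a2, h1, h2, hPa, h4⟩ := good_step hn hc h h3 hα hB hg hw hwr
  have hS : trc n (B + w) = normForm n α := by rw [trc_add, hB, trc_fix hwr, add_zero]
  have hS0 := fib_ne hT hS
  have hNB := normForm_ne (n := n) hB0
  have hNS := normForm_ne (n := n) hS0
  have ha0 : a2 ≠ 0 := by
    rintro rfl
    rw [h.base.P_zero] at hPa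
    exact mul_ne_zero (mul_ne_zero (mul_ne_zero hS0 (inv_ne_zero hw)) hB0) (P_ne h.base hα) hPa.symm
  refine ⟨a2, ha0, ?_, ?_⟩
  · have hwi : cls n w⁻¹ = 1 := cls_of_fix (inv_ne_zero hw) (by rw [inv_pow, hwr])
    rw [hPa, cls_mul, cls_mul, cls_mul, hwi, mul_one]
  have hτ : ∀ x : F, x ≠ 0 → τ x = tt n τ x * normForm n x := fun x hx => by
    rw [tt, div_mul_cancel₀ _ (normForm_ne hx)]
  set tL := tt n τ (phi P α (B + w)) with htL
  set t' := tt n τ (phi P α B) with ht'
  set t2 := tt n τ a2 with ht2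
  rw [hτ _ (phi_ne h hα hS0), hτ _ (phi_ne h hα hB0), hτ _ ha0, ← htL, ← ht', ← ht2, h2,
    normForm_phi' hn hc h h3 hα hS0, normForm_phi' hn hc h h3 hα hB0] at h4
  set T := normForm n α with hTdef
  have hTr : T ^ (2 ^ n) = T := normForm_real hc α
  have hBc : B ^ (2 ^ n) = B + T := by
    rw [← hB, trc, ← add_assoc, CharTwo.add_self_eq_zero, zero_add]
  have hBc0 : B + T ≠ 0 := by rw [← hBc]; exact pow_ne_zero _ hB0
  have hSc : (B + w) ^ (2 ^ n) = B + T + w := by rw [conj_add, hBc, hwr]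
  have hSc0 : B + T + w ≠ 0 := by rw [← hSc]; exact pow_ne_zero _ hS0
  have hfB := hf B hB
  have hfS := hf (B + w) hS
  have h5 : a2 = phi P α (B + w) + phi P α B := by
    rw [h1, add_comm (phi P α B) a2, add_assoc, CharTwo.add_self_eq_zero, add_zero]
  have hconj : α ^ (2 ^ n) * α = T := by rw [hTdef, normForm, pow_succ]
  have hξ' : ξ ^ (2 ^ n) * ξ = 1 := by rw [← hξ, normForm, pow_succ]
  rw [normForm_eq B, normForm_eq (B + w), hSc, hBc] at h4
  rw [normForm_eq B, hBc]
  have hinv : (B + T + B * (B + T) * w⁻¹)⁻¹ = w / ((B + T) * (B + w)) := by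
    rw [show B + T + B * (B + T) * w⁻¹ = (B + T) * (B + w) / w by field_simp; ring, inv_div]
  rw [hinv] at h4
  rcases he with rfl | rfl
  · simp only [zero_mul, add_zero] at hfB hfS ⊢
    have hprod : phi P α B ^ (2 ^ n) * a2 = T * w / (B * (B + T) * (B + w)) := by
      rw [h5, hfB, hfS, div_pow, mul_pow, hBc]
      field_simp
      linear_combination (B + (B + w)) * (α ^ (2 ^ n) * α) * hξ' + (B + (B + w)) * hconj
        + T * CharTwo.add_self_eq_zero B
    rw [hprod] at h4
    exact beta_algebra_zero hB0 hBc0 hS0 hSc0 hT h4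
  · simp only [one_mul] at hfB hfS
    rw [show B + w + T = B + T + w by ring] at hfS
    have hprod : phi P α B ^ (2 ^ n) * a2 = T * w / (B * (B + T) * (B + T + w)) := by
      rw [h5, hfB, hfS, div_pow, mul_pow, conj_add, hBc, hTr,
        show B + T + T = B by rw [add_assoc, CharTwo.add_self_eq_zero, add_zero]]
      field_simp
      linear_combination (B + T + (B + T + w)) * (α ^ (2 ^ n) * α) * hξ' + (B + T + (B + T + w)) * hconj
        + T * CharTwo.add_self_eq_zero (B + T)
    rw [hprod] at h4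
    exact beta_algebra_one hB0 hBc0 hS0 hSc0 hT h4

/-- The quotient `τ(α) / N(α)` says which of `B` and `conj B` is `β`. -/
lemma tt_eq {α ξ e : F} (hα : α ≠ 0) (hξ : normForm n ξ = 1) (he : e = 0 ∨ e = 1)
    (hf : ∀ D : F, trc n D = normForm n α → phi P α D = α * ξ / (D + e * normForm n α)) :
    tt n τ α = e := by
  obtain ⟨B, S, hB, hclB, hg, hS, hclS, hne⟩ := exists_good_cube hn hc h h3 hα
  have hT := normForm_ne (n := n) hα
  obtain ⟨w, rfl⟩ : ∃ w, S = B + w := ⟨S + B, by linear_combination -(CharTwo.add_self_eq_zero B)⟩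
  have hw : w ≠ 0 := by rintro rfl; exact hne (add_zero B)
  have hwr : w ^ (2 ^ n) = w := by
    rw [← trc_eq_zero_iff]; rw [trc_add, hB] at hS; exact add_eq_left.mp hS
  obtain ⟨a2, ha0, hcl, heq⟩ := beta_eq hn hc h h3 hα hB hg hw hwr hξ he hf
  rw [hclS, hclB, one_mul, one_mul] at hcl
  rw [tt_cls hn hc h hα ha0 hcl,
    tt_cls hn hc h hα (phi_ne h hα (fib_ne hT hB)) (by rw [P_phi, cls_mul, hclB, one_mul]),
    tt_cls hn hc h hα (phi_ne h hα (fib_ne hT hS)) (by rw [P_phi, cls_mul, hclS, one_mul]),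
    CharTwo.add_self_eq_zero, zero_mul, zero_mul, zero_add, zero_add] at heq
  rcases mul_eq_zero.mp heq with e1 | e1
  · rcases mul_eq_zero.mp e1 with e2 | e2
    · exact CharTwo.add_eq_zero.mp e2
    · exact absurd e2 hT
  · exact absurd e1 hw

/-- The quotient `τ(α) / N(α)` is constant. -/
lemma tt_const {α γ : F} (hα : α ≠ 0) (hγ : γ ≠ 0) : tt n τ γ = tt n τ α := by
  classical
  have hT := normForm_ne (n := n) hα
  by_cases hsame : cls n (P γ) = cls n (P α)
  · exact tt_cls hn hc h hα hγ hsame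
  obtain ⟨ξ, e, hξ, he, hf⟩ := phi_form hn hc h h3 hα
  have hte := tt_eq hn hc h h3 hα hξ he hf
  obtain ⟨B, -, hB, hclB, hg, -, -, -⟩ := exists_good_cube hn hc h h3 hα
  have hPα := P_ne h.base hα
  have hζ : (cls n (P γ) / cls n (P α)) ^ cd n = 1 := by
    rw [div_pow, cls_pow_cd hc (P_ne h.base hγ), cls_pow_cd hc hPα, div_one]
  have hcard := card_fib_cls hc hn hT (normForm_real hc α) hζ
  have hζ1 : cls n (P γ) / cls n (P α) ≠ 1 := fun e1 =>
    hsame ((div_eq_one_iff_eq (cls_ne hPα)).mp e1)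
  rw [if_neg hζ1, add_zero] at hcard
  obtain ⟨-, -, -, -, hcm⟩ := bound_facts (F := F) hn hc
  obtain ⟨S₁, hS₁, S₂, hS₂, hne⟩ := Finset.one_lt_card.mp (hcard.trans_ge (le_trans (by norm_num) hcm))
  simp only [Finset.mem_filter, Finset.mem_univ, true_and] at hS₁ hS₂
  obtain ⟨S, hS, hclS, hgen⟩ : ∃ S : F, trc n S = normForm n α ∧
      cls n S = cls n (P γ) / cls n (P α) ∧ (B + S) ^ 2 ≠ normForm n B := by
    by_cases h' : (B + S₁) ^ 2 = normForm n B
    · refine ⟨S₂, hS₂.1, hS₂.2, fun h'' => hne ?_⟩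
      exact add_left_cancel (CharTwo.sq_inj.mp (h'.trans h''.symm))
    · exact ⟨S₁, hS₁.1, hS₁.2, h'⟩
  obtain ⟨w, rfl⟩ : ∃ w, S = B + w := ⟨S + B, by linear_combination -(CharTwo.add_self_eq_zero B)⟩
  rw [← add_assoc, CharTwo.add_self_eq_zero, zero_add] at hgen
  have hw : w ≠ 0 := by
    rintro rfl; rw [add_zero] at hclS; exact hζ1 (hclS.symm.trans hclB)
  have hwr : w ^ (2 ^ n) = w := by
    rw [← trc_eq_zero_iff]; rw [trc_add, hB] at hS; exact add_eq_left.mp hS
  obtain ⟨a2, ha0, hcl, heq⟩ := beta_eq hn hc h h3 hα hB hg hw hwr hξ he hf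
  rw [hclS, hclB, mul_one, div_mul_cancel₀ _ (cls_ne hPα)] at hcl
  rw [tt_cls hn hc h hγ ha0 hcl,
    tt_cls hn hc h hα (phi_ne h hα (fib_ne hT hB)) (by rw [P_phi, cls_mul, hclB, one_mul]),
    tt_cls hn hc h hγ (phi_ne h hα (fib_ne hT hS))
      (by rw [P_phi, cls_mul, hclS, div_mul_cancel₀ _ (cls_ne hPα)]),
    hte, CharTwo.add_self_eq_zero, zero_mul, zero_mul, add_zero, add_comm e, ← mul_add] at heq
  rw [hte]
  rcases mul_eq_zero.mp heq with e1 | e1
  · exact CharTwo.add_eq_zero.mp e1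
  · exact absurd (CharTwo.add_eq_zero.mp e1).symm hgen

/-- The formula, given the ring homomorphism `φ` which sends `B` to `β`. -/
lemma phi_eq {e : F} (φ : F →+* F) (hφ : ∀ D : F, D + e * trc n D = φ D)
    (hf : ∀ α : F, α ≠ 0 → ∃ ξ : F,
      ∀ D : F, trc n D = normForm n α → phi P α D = α * ξ / φ D)
    (hφN : ∀ D : F, normForm n (φ D) = normForm n D)
    (hξN : ∀ α ξ : F, α ≠ 0 →
      (∀ D : F, trc n D = normForm n α → phi P α D = α * ξ / φ D) → normForm n ξ = 1)
    {α B : F} (hα : α ≠ 0) (hB : trc n B = normForm n α) :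
    phi P α B = α / φ B := by
  have key : ∀ y : F, trc n y ≠ 0 → P (α / φ y) = y * P α := by
    intro y hu
    obtain ⟨ξ, hξ⟩ := hf α hα
    have hξ1 := hξN α ξ hα hξ
    set u := trc n y with hu'
    have hur : u ^ (2 ^ n) = u := trc_real hc y
    have hy : y + y ^ (2 ^ n) = u := rfl
    set T := normForm n α with hT'
    have hT : T ≠ 0 := normForm_ne hα
    have hTr : T ^ (2 ^ n) = T := normForm_real hc α
    obtain ⟨B₁, hB₁'⟩ : ∃ B₁, B₁ = T * (1 + y) / u := ⟨_, rfl⟩
    have hB₁ : trc n B₁ = T := by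
      have : trc n (1 + y) = u := by rw [trc_add, trc_fix (one_pow _), zero_add, hu']
      rw [hB₁', mul_div_assoc, trc_mul_fix hTr, div_eq_inv_mul,
        trc_mul_fix (by rw [inv_pow, hur]), this, inv_mul_cancel₀ hu, mul_one]
    have hB₁0 := fib_ne hT hB₁
    have hB₁c : B₁ ^ (2 ^ n) = T * (1 + y ^ (2 ^ n)) / u := by
      rw [hB₁', div_pow, mul_pow, hTr, hur, conj_add, one_pow]
    set α' := phi P α B₁ with hα''
    have hα'0 : α' ≠ 0 := phi_ne h hα hB₁0
    have hNα' : normForm n α' = T / normForm n B₁ := normForm_phi' hn hc h h3 hα hB₁0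
    obtain ⟨ξ', hξ'⟩ := hf α' hα'0
    have hinvT : trc n B₁⁻¹ = normForm n α' := by
      rw [hNα', trc, inv_pow, normForm_eq, ← hB₁, trc]
      have := pow_ne_zero (2 ^ n) hB₁0
      field_simp; ring
    have hξξ : ξ * ξ' = 1 := by
      have h1 : phi P α' B₁⁻¹ = α := by
        refine P.injective ?_
        rw [P_phi, hα'', P_phi, inv_mul_cancel_left₀ hB₁0]
      rw [hξ' _ hinvT, map_inv₀, hα'', hξ _ hB₁] at h1
      have hφ0 : φ B₁ ≠ 0 := (map_ne_zero φ).mpr hB₁0
      field_simp at h1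
      linear_combination h1
    have hB' : trc n (y / B₁) = normForm n α' := by
      rw [hNα', trc, div_pow, normForm_eq, div_add_div _ _ hB₁0 (pow_ne_zero _ hB₁0)]
      congr 1
      rw [hB₁c, hB₁']
      field_simp
      linear_combination hy + (y * y ^ (2 ^ n)) * CharTwo.two_eq_zero (R := F)
    have e1 : phi P α' (y / B₁) = α / φ y := by
      rw [hξ' _ hB', hα'', hξ _ hB₁, map_div₀]
      have hφ0 : φ B₁ ≠ 0 := (map_ne_zero φ).mpr hB₁0
      have hy0 : φ y ≠ 0 := (map_ne_zero φ).mpr fun e => hu (by rw [hu', e, trc_fix (zero_pow (Nat.two_pow_pos n).ne')])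
      field_simp
      linear_combination hξξ
    rw [← e1, P_phi, hα'', P_phi, ← mul_assoc, div_mul_cancel₀ _ hB₁0]
  refine P.injective ?_
  rw [P_phi, key B (by rw [hB]; exact normForm_ne hα)]

end Cfsg.Agent.Involutions.RankOne.U3.Fld

namespace Cfsg.Agent.Involutions.RankOne.U3

open Cfsg.Agent.Involutions.RankOne.U3.Fld

universe w

/-- U10 and U11. -/
theorem formula : Stmt.Formula.{w} := by
  intro F _ _ n P τ hn hc h h3 α β hα hβ
  haveI : CharP F 2 := charTwo hn hc
  have hT := normForm_ne (n := n) hα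
  have hforms : ∀ γ : F, γ ≠ 0 → ∃ ξ : F, ∀ D : F, trc n D = normForm n γ →
      phi P γ D = γ * ξ / (D + tt n τ α * normForm n γ) := by
    intro γ hγ
    obtain ⟨ξ, e, hξ, he, hf⟩ := phi_form hn hc h h3 hγ
    rw [← tt_const hn hc h h3 hα hγ, tt_eq hn hc h h3 hγ hξ he hf]
    exact ⟨ξ, hf⟩
  obtain ⟨ξ₀, e, hξ₀, he, hf₀⟩ := phi_form hn hc h h3 hα
  have hte := tt_eq hn hc h h3 hα hξ₀ he hf₀
  rw [hte] at hforms
  have hτ : τ α = e * normForm n α := by rw [← hte, tt, div_mul_cancel₀ _ hT]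
  have hβt : trc n β = normForm n α := hβ
  have hB : trc n (β + τ α) = normForm n α := by
    rw [hτ, trc_add, hβt, trc_fix]
    · rw [add_zero]
    rw [mul_pow, normForm_real hc]
    rcases he with rfl | rfl <;> simp
  have hβ0 := fib_ne hT hβt
  obtain ⟨φ, hφ, hφN⟩ : ∃ φ : F →+* F, (∀ D : F, D + e * trc n D = φ D) ∧
      ∀ D : F, normForm n (φ D) = normForm n D := by
    rcases he with rfl | rfl
    · exact ⟨RingHom.id F, fun D => by simp, fun D => rfl⟩
    · refine ⟨iterateFrobenius F 2 n, fun D => ?_, fun D => ?_⟩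
      · rw [iterateFrobenius_def, one_mul, trc, ← add_assoc, CharTwo.add_self_eq_zero, zero_add]
      · rw [iterateFrobenius_def, normForm_eq, pow_qq hc, normForm_eq, mul_comm]
  have hmain : phi P α (β + τ α) = α / φ (β + τ α) := by
    refine phi_eq hn hc h h3 φ hφ (fun γ hγ => ?_) hφN (fun γ ξ hγ hf => ?_) hα hB
    · obtain ⟨ξ, hf⟩ := hforms γ hγ
      exact ⟨ξ, fun D hD => by rw [hf D hD, ← hφ D, hD]⟩
    · obtain ⟨B, -, hB', -⟩ := exists_good_cube hn hc h h3 hγ
      have hB0 := fib_ne (normForm_ne (n := n) hγ) hB'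
      have h1 := normForm_phi' hn hc h h3 hγ hB0
      rw [hf B hB', div_eq_mul_inv, normForm_mul, normForm_mul, normForm_inv, hφN] at h1
      have := normForm_ne (n := n) hγ
      have := normForm_ne (n := n) hB0
      field_simp at h1
      linear_combination h1
  have hsel : φ (β + τ α) = β := by
    rw [← hφ, hB, hτ, add_assoc, CharTwo.add_self_eq_zero, add_zero]
  rw [hsel] at hmain
  refine ⟨hmain, ?_⟩
  have hdiv : α / β ≠ 0 := div_ne_zero hα hβ0
  have hτ' : τ (α / β) = e * (normForm n α / normForm n β) := by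
    have h1 := tt_const hn hc h h3 hα hdiv
    rw [hte, tt, div_eq_iff (normForm_ne hdiv), div_eq_mul_inv α β, normForm_mul, normForm_inv,
      ← div_eq_mul_inv, ← div_eq_mul_inv] at h1
    exact h1
  rw [hτ', hτ]
  rcases he with rfl | rfl
  · simp
  · have hc' : β + normForm n α = β ^ (2 ^ n) := by
      rw [← hβt, trc, ← add_assoc, CharTwo.add_self_eq_zero, zero_add]
    have := pow_ne_zero (2 ^ n) hβ0
    rw [one_mul, one_mul, hc', normForm_eq β]
    field_simp
    linear_combination hc'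

end Cfsg.Agent.Involutions.RankOne.U3
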