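import Cfsg.Agent.Lib.Involutions.RankOne.U3.Bridge.Equation
import Cfsg.Agent.Lib.Involutions.RankOne.U3.Formula
import Cfsg.Agent.Lib.Involutions.RankOne.U3.Eight

/-!
# The branch `|Q| = q³`, U7 to U11: `t` is the map of the unital
-/

set_option autoImplicit false
set_option linter.unusedSectionVars false

namespace Cfsg.Agent.Involutions.RankOne.U3

open MulAction Involutions.Basic

/-- The form `Tr (a₀ x³)` does not take the values of the norm. -/
theorem form_ne_norm {F : Type*} [Field F] [Fintype F] [CharP F 2] (hc : Fintype.card F = (2 ^ 3) ^ 2)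
    (a₀ : F) (r : ℕ) :
    ¬∀ x : F, (a₀ * x ^ 3 + (a₀ * x ^ 3) ^ 8) ^ (2 ^ r) = normForm 3 x := by
  classical
  intro hall
  obtain ⟨e, he, he1⟩ : ∃ e : F, e ^ 7 = 1 ∧ e ≠ 1 := by
    have h7 : (Finset.univ.filter fun y : F => y ^ 7 = 1).card = 7 :=
      (Fld.pow_kernel (n := 3) (by norm_num) hc (m := 9) (by norm_num)).1
    obtain ⟨e, he, he1⟩ := Finset.exists_mem_ne (show 1 <
      (Finset.univ.filter fun y : F => y ^ 7 = 1).card by omega) 1
    exact ⟨e, (Finset.mem_filter.1 he).2, he1⟩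
  have ho : orderOf e = 7 := by
    rcases (Nat.dvd_prime (by norm_num)).1 (orderOf_dvd_of_pow_eq_one he) with h1 | h1
    · exact absurd (orderOf_eq_one_iff.1 h1) he1
    · exact h1
  have he8 : e ^ 8 = e := by rw [pow_succ, he, one_mul]
  have h1 := hall 1
  have h2 := hall e
  rw [normForm, one_pow, one_pow, mul_one] at h1
  rw [show a₀ * e ^ 3 + (a₀ * e ^ 3) ^ 8 = e ^ 3 * (a₀ + a₀ ^ 8) by
    rw [mul_pow, ← pow_mul e 3, mul_comm 3 8, pow_mul, he8]; ring, mul_pow, h1, mul_one, ← pow_mul,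
    normForm] at h2
  have he0 : e ≠ 0 := by rintro rfl; simp at he
  have h3 := pow_inj_mod.1 (show Units.mk0 e he0 ^ (3 * 2 ^ r) = Units.mk0 e he0 ^ (2 ^ 3 + 1) from
    Units.ext (by simpa using h2))
  rw [← orderOf_units, Units.val_mk0, ho, Nat.mul_mod] at h3
  have h4 : 2 ^ r % 7 = 2 ^ (r % 3) % 7 := by
    conv_lhs => rw [← Nat.div_add_mod r 3, pow_add, pow_mul, Nat.mul_mod, Nat.pow_mod]
    norm_num
  rw [h4] at h3
  have : r % 3 < 3 := Nat.mod_lt _ (by norm_num)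
  interval_cases hr : r % 3 <;> norm_num at h3

universe u v

variable {G : Type u} {Ω : Type v} [Group G] [Finite G] [MulAction G Ω] [FaithfulSMul G Ω] {a : Ω}
  {t : G} {Q : Subgroup G} {n : ℕ} {F : Type*} [Field F] [Fintype F] [CharP F 2] {ρ : F}
  (h : Setting G Ω a t Q n) (fr : Frame a t Q n F) {α β : Q → F} {X : Ω → F × F}
  (hs : Scale fr α β (normForm n)) (hco : IsCoords n (fun u => (α u, β u)))
  (hz : ∀ z, z ^ (2 ^ n) = z → ∀ hz : fr.ζ z ∈ Q, β ⟨fr.ζ z, hz⟩ = z) (hX : Coord fr X)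
include h hs hco hz hX

/-- The second coordinate is the slope up to a function of the first. -/
theorem exists_tau : ∃ τ : F → F, ∀ u : Q, α u ≠ 0 → β u = slopeOf a t X u + τ (α u) := by
  classical
  choose r hr using hs.surj
  refine ⟨fun γ => β (r γ) + slopeOf a t X (r γ), fun u hu => ?_⟩
  have hr0 : α (r (α u)) ≠ 0 := by rw [hr]; exact hu
  have hd : α (u * (r (α u))⁻¹) = 0 := by
    rw [hs.add, alpha_inv h fr hs, hr, CharTwo.add_self_eq_zero]
  obtain ⟨z, hz', e⟩ := fr.coords.ζ_surj _ ((hs.ker _).1 hd)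
  have e' : (u : G) = fr.ζ z * r (α u) := by
    rw [e, Subgroup.coe_mul, Subgroup.coe_inv, inv_mul_cancel_right]
  obtain ⟨-, -, hsl⟩ := shift h fr hs hX hz' hr0 e'
  have hu2 : u = ⟨fr.ζ z, Zc_le (fr.coords.ζ_mem z hz')⟩ * r (α u) := Subtype.ext e'
  have hm := congrArg Prod.snd (hco.map_mul ⟨fr.ζ z, Zc_le (fr.coords.ζ_mem z hz')⟩ (r (α u)))
  simp only [hMul, ← hu2, alpha_zeta h fr hs hz', hz z hz', zero_pow (Nat.two_pow_pos n).ne',
    zero_mul, add_zero] at hm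
  show β u = slopeOf a t X u + _
  rw [hm, hsl]
  linear_combination -(slopeOf a t X (r (α u))) * (CharTwo.two_eq_zero : (2 : F) = 0)

theorem hermAlg (hl : Local fr ρ) (hW : W a t ≠ ⊥) {P : F ≃ F} (hP0 : P 0 = 0)
    (hP : ∀ u : Q, α u ≠ 0 → P (α u) = (X ((u : G) • (t • a))).1 ∧ IsPoint n P (α u) (slopeOf a t X u))
    (hpt : ∀ γ C, IsPoint n P γ C → ∃ u : Q, Has a t α X u γ C)
    {τ : F → F} (hτ : ∀ u : Q, α u ≠ 0 → β u = slopeOf a t X u + τ (α u)) :
    HermAlg n P τ := by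
  have hA := alg h fr hs hX hP0 hP hl hW hpt
  have hn := h.two_le
  have hc := fr.card_F
  refine ⟨⟨hA.P_zero, hA.A_zero, hA.A_ne, hA.A_fix, hA.equivariant, hA.invariant, fun γ B hB => ?_⟩,
    fun δ γ hδ hγ => ?_, fun γ hγ => ?_⟩
  · obtain ⟨σ, μ, hadm, hbas, hpw⟩ := hA.step γ B hB
    refine ⟨σ, μ, hadm, hbas, fun z hz' hz0 => ?_⟩
    obtain ⟨v₁, v, v₃, ⟨h1α, h1S⟩, ⟨hα, hS⟩, ⟨h3α, h3S⟩, e⟩ := hpw z hz' hz0
    have hBne : ∀ w : F, w ^ (2 ^ n) = w → B + w ≠ 0 := by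
      intro w hw e'
      have h2 := hB.2
      rw [CharTwo.add_eq_zero.1 e', hw, CharTwo.add_self_eq_zero, eq_comm, inv_eq_zero] at h2
      exact pow_ne_zero _ (Fld.P_ne hA hB.1) h2
    have hphi : ∀ γ' C : F, γ' ≠ 0 → C ≠ 0 → phi P γ' C ≠ 0 := fun γ' C h1 h2 =>
      Fld.symm_ne hA (mul_ne_zero h2 (Fld.P_ne hA h1))
    have h1 : α v₁ ≠ 0 := h1α ▸ hphi _ _ hB.1 (hBne _ (inv_fixed hz'))
    have h2 : α v ≠ 0 := hα ▸ hphi _ _ hB.1 (by simpa using hBne 0 (zero_pow (Nat.two_pow_pos n).ne'))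
    have hm := congrArg Prod.snd (hco.map_mul v v₃)
    simp only [hMul, ← e] at hm
    rw [hτ v₁ h1, hτ v h2, hα, hS, h1α, h1S, h3α] at hm
    by_cases h3 : α v₃ = 0
    · -- impossible: the first coordinates differ
      exfalso
      rw [h3α] at h3
      have ha := hs.add v v₃
      rw [← e, h1α, hα, h3α, h3, add_zero] at ha
      have hPe := congrArg P ha
      rw [phi, phi, P.apply_symm_apply, P.apply_symm_apply] at hPe
      have h6 := mul_right_cancel₀ (Fld.P_ne hA hB.1) hPe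
      rw [add_eq_left, inv_eq_zero] at h6
      exact hz0 h6
    rw [hτ v₃ h3, h3S, h3α] at hm
    exact hm
  · obtain ⟨u, hu⟩ := hs.surj γ
    obtain ⟨e, w, he, he', hw, -, hact, hA'⟩ := hs.cover δ hδ
    obtain ⟨c, -, hcX⟩ := hX.scalar w hw
    have hdD : fr.κ e * w ∈ MulAction.stabilizer G a ⊓ MulAction.stabilizer G (t • a) :=
      mul_mem (Kc_le h (fr.coords.κ_mem e he he')) (W_le hw)
    obtain ⟨hαv, hβv⟩ := hact u ⟨_, h.setup.conj_mem _ (mem_D.1 hdD).1 u u.2⟩ rfl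
    set v : Q := ⟨_, h.setup.conj_mem _ (mem_D.1 hdD).1 u u.2⟩ with hv
    have hu0 : α u ≠ 0 := hu ▸ hγ
    have hv0 : α v ≠ 0 := by rw [hαv, hu]; exact mul_ne_zero hδ.1 hγ
    have hp := off_of_alpha h fr hs hX hu0
    have hδe : δ ^ (2 ^ n + 1) = e ^ 2 := by
      have h1 := hA' (α u)
      rw [normForm, mul_pow] at h1
      exact mul_right_cancel₀ (pow_ne_zero _ hu0) h1
    have hS : slopeOf a t X v = e ^ 2 * slopeOf a t X u := by
      have hvb : (v : G) • (t • a) = (fr.κ e * w) • ((u : G) • (t • a)) := by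
        show (fr.κ e * w * u * (fr.κ e * w)⁻¹) • (t • a) = _
        rw [mul_smul, mul_smul (fr.κ e * w) (u : G),
          show (fr.κ e * w)⁻¹ • (t • a) = t • a from (inv_mem hdD).2]
      rw [slopeOf, slopeOf, hvb, kw_action h fr hs hX hP0 hP he he' hw hcX hp]
      have := fst_ne h fr hX hp
      by_cases hc0 : c = 0
      · exfalso
        have hv' := off_of_alpha h fr hs hX hv0
        rw [hvb] at hv'
        have := fst_ne h fr hX hv'
        rw [kw_action h fr hs hX hP0 hP he he' hw hcX hp, hc0] at this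
        simp at this
      simp only
      field_simp
    have h1 := hτ v hv0
    rw [hβv, hτ u hu0, hS, hαv, hu, hδe] at h1
    rw [hδe]
    linear_combination -h1
  · obtain ⟨u, hu⟩ := hs.surj γ
    have hu0 : α u ≠ 0 := hu ▸ hγ
    have h1 := hco.mem u
    simp only [InHerm] at h1
    rw [hτ u hu0, hu, Fld.conj_add] at h1
    have h2 := (hP u hu0).2.2
    rw [hu] at h2
    linear_combination h1 - h2

omit hco hz in
/-- The formula on the centre. -/
theorem center_case {u w : Q} (hu : α u = 0) (hu1 : u ≠ 1)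
    (e : t • ((u : G) • (t • a)) = (w : G) • (t • a)) :
    ∃ z, z ≠ 0 ∧ z ^ (2 ^ n) = z ∧ (u : G) = fr.ζ z ∧ (w : G) = fr.ζ z⁻¹ := by
  obtain ⟨z, hz', huz⟩ := fr.coords.ζ_surj _ ((hs.ker u).1 hu)
  have hz0 : z ≠ 0 := by
    rintro rfl
    exact hu1 (Subtype.ext (by rw [← huz, (rel_group h fr.coords).Z_zero]; rfl))
  refine ⟨z, hz0, hz', huz.symm, q_unique h.setup w.2 (Zc_le (fr.coords.ζ_mem _ (inv_fixed hz')))
    (b_ne h.setup) ?_⟩
  rw [← e, ← huz]
  have h1 := congrArg (· • a) (fr.coords.swap z hz0 hz')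
  simp only [mul_smul] at h1
  rw [h1, show fr.ζ z⁻¹ • a = a from h.setup.le (Zc_le (fr.coords.ζ_mem _ (inv_fixed hz'))),
    (mem_D.1 (Kc_le h (fr.coords.κ_mem _ (inv_ne_zero hz0) (inv_fixed hz')))).2]

omit h hs hco hz hX

/-- U7 to U11. -/
theorem bridge (hC : Stmt.Coordinates.{u, 0}) : Stmt.Bridge.{u, v} := by
  intro G Ω _ _ _ _ a t Q n F _ _ _ h hW fr ρ hl hidx
  obtain ⟨α, β, A, hs, hcase⟩ := exists_scale h fr hC hl hW hidx
  obtain ⟨X, hX⟩ := exists_coord h fr hl hW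
  obtain ⟨P, hP0, hP, hpt⟩ := exists_P h fr hs hX
  have hA := alg h fr hs hX hP0 hP hl hW hpt
  rcases hcase with ⟨rfl, hco, hz⟩ | ⟨rfl, a₀, r, rfl⟩
  swap
  · exfalso
    have hc : Fintype.card F = 64 := by rw [fr.card_F]; norm_num
    have h1 := (Eight.eight _ P _ hc (Or.inr ⟨a₀, r, fun _ => rfl⟩) hA).1
    exact form_ne_norm fr.card_F a₀ r h1
  obtain ⟨τ, hτ⟩ := exists_tau h fr hs hco hz hX
  have hH := hermAlg h fr hs hco hz hX hl hW hP0 hP hpt hτ
  have h3 : n = 3 → SmallResult n (normForm n) P := by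
    rintro rfl
    exact Eight.eight _ P _ (by rw [fr.card_F]; norm_num) (Or.inl fun x => by simp [normForm]) hA
  refine ⟨fun u => (α u, β u), hco, fun u w hu e => ?_⟩
  by_cases hu0 : α u = 0
  · obtain ⟨z, -, hz', huz, hwz⟩ := center_case h fr hs hX hu0 hu e
    have hwm := inv_fixed (n := n) hz'
    have e1 : u = ⟨fr.ζ z, Zc_le (fr.coords.ζ_mem z hz')⟩ := Subtype.ext huz
    have e2 : w = ⟨fr.ζ z⁻¹, Zc_le (fr.coords.ζ_mem _ hwm)⟩ := Subtype.ext hwz
    show (α w, β w) = (α u / β u, (β u)⁻¹)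
    rw [e1, e2, alpha_zeta h fr hs hz', alpha_zeta h fr hs hwm, hz _ hz', hz _ hwm, zero_div]
  obtain ⟨hw0, hwα, hwS⟩ := t_action h fr hs hX hP0 hP hW hu0 e
  have hmem : InHerm n (α u, β u) := hco.mem u
  have hB : β u + τ (α u) = slopeOf a t X u := by
    rw [hτ u hu0, add_assoc, CharTwo.add_self_eq_zero, add_zero]
  obtain ⟨f1, f2⟩ := formula P τ h.two_le fr.card_F hH h3 (α u) (β u) hu0 hmem
  rw [hB] at f1 f2
  refine Prod.ext ?_ ?_
  · exact hwα.trans f1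
  · show β w = (β u)⁻¹
    rw [hτ w hw0, hwS, hwα, f1, f2]

end Cfsg.Agent.Involutions.RankOne.U3
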