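import Cfsg.Agent.Lib.Involutions.RankOne.U3.Interface
import Cfsg.Agent.Lib.Involutions.RankOne.U3.Coordinates.Linear
import Cfsg.Agent.Lib.Involutions.RankOne.U3.Coordinates.Squaring
import Cfsg.Agent.Lib.Involutions.RankOne.U3.Coordinates.Section

/-!
# The branch `|Q| = q³`: coordinates on the Suzuki 2-group

U7 of `notes/s1136-u3-helper4.md`.
-/

set_option autoImplicit false
set_option linter.unusedSectionVars false
set_option linter.style.haveILetI false

namespace Cfsg.Agent.Involutions.RankOne.U3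

universe u w

/-- U7. -/
theorem coordinates : Stmt.Coordinates.{u, w} := by
  intro Q _ _ F _ _ n m hn hF hQ hZ hinv hsq C hC hCcard hm h3 hm1 hfpf ι χ hι hιadd hιfix hχι hχsurj
  classical
  haveI : CharP F 2 := by
    obtain ⟨p, hp⟩ := CharP.exists F
    haveI := hp
    obtain ⟨e, hprime, he⟩ := FiniteField.card F p
    have h2 : p ∣ 2 ^ (n * 2) := by
      rw [pow_mul, ← hF, he]
      exact dvd_pow_self p (PNat.ne_zero e)
    obtain rfl := (Nat.prime_dvd_prime_iff_eq hprime Nat.prime_two).1 (hprime.dvd_of_dvd_pow h2)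
    exact hp
  have hq4 : 4 ≤ 2 ^ n := (show (4 : ℕ) = 2 ^ 2 by norm_num) ▸ Nat.pow_le_pow_right (by norm_num) hn
  have hm0 : 0 < m := Nat.pos_of_dvd_of_pos hm (by omega)
  have hqm : 2 ^ n + 1 ≤ 3 * m := Nat.le_of_dvd (by omega) h3
  obtain ⟨r, hr⟩ : ∃ r, 2 ^ n = r + 1 := ⟨2 ^ n - 1, by omega⟩
  have hC' : Nat.card C = r * m := by rw [hCcard, hr, Nat.add_sub_cancel]
  have hbig : (2 ^ n) ^ 2 < 4 * (Nat.card C + 1) := by
    have h := Nat.mul_le_mul_left r hqm
    rw [hC', hr]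
    rw [hr] at h
    nlinarith
  have hC1 : 1 < Nat.card C := by rw [hC']; nlinarith
  obtain ⟨α, hα, hker, hsurj, δ, hδ, hδα⟩ :=
    Coordinates.exists_alpha hn hF hQ hZ hsq C hC hbig hC1 hfpf
  -- the multiplier on the centre
  have hι1 : ι 1 = 0 := by
    have h := hιadd 1 1
    rwa [mul_one, left_eq_add] at h
  obtain ⟨z₁, hz₁⟩ : ∃ z : Subgroup.center Q, z ≠ 1 := by
    haveI := (Finite.one_lt_card_iff_nontrivial (α := Subgroup.center Q)).1 (by omega)
    exact exists_ne 1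
  have hz₁' : ι z₁ ≠ 0 := fun h => hz₁ (hι (h.trans hι1.symm))
  have hmap : ∀ (c : C) (z : Subgroup.center Q), (c : MulAut Q) z ∈ Subgroup.center Q := fun c z => by
    rw [← hker, hδα, (hker _).2 z.2, mul_zero]
  have hχ1 : χ 1 = 1 := (mul_eq_right₀ hz₁').1 (hχι 1 z₁ z₁ rfl).symm
  have hχmul : ∀ c d, χ (c * d) = χ c * χ d := fun c d => by
    have h1 := hχι d z₁ ⟨_, hmap d z₁⟩ rfl
    have h2 := hχι c ⟨_, hmap d z₁⟩ ⟨_, hmap c ⟨_, hmap d z₁⟩⟩ rfl
    have h3 := hχι (c * d) z₁ ⟨_, hmap c ⟨_, hmap d z₁⟩⟩ rfl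
    rw [h1, ← mul_assoc, h3] at h2
    exact mul_right_cancel₀ hz₁' h2
  let χ' : C →* F := { toFun := χ, map_one' := hχ1, map_mul' := hχmul }
  have hχfix : ∀ c, χ c ^ 2 ^ n = χ c := fun c => by
    have h := hιfix ⟨_, hmap c z₁⟩
    rw [hχι c z₁ _ rfl, mul_pow, hιfix] at h
    exact mul_right_cancel₀ hz₁' h
  have hιsurj : ∀ w : F, w ^ 2 ^ n = w → ∃ z, ι z = w := fun w hw => by
    by_cases h0 : w = 0
    · exact ⟨1, hι1.trans h0.symm⟩
    obtain ⟨c, hc⟩ := hχsurj (w / ι z₁) (div_ne_zero h0 hz₁') (by rw [div_pow, hw, hιfix])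
    exact ⟨⟨_, hmap c z₁⟩, by rw [hχι c z₁ _ rfl, hc, div_mul_cancel₀ _ hz₁']⟩
  have hmapsq : ∀ (c : C) (x : Q),
      ι ⟨(c : MulAut Q) x * (c : MulAut Q) x, hsq _⟩ = χ c * ι ⟨x * x, hsq x⟩ := fun c x =>
    hχι c ⟨x * x, hsq x⟩ _ (map_mul _ _ _)
  -- the squaring map of `Q / Z(Q)`
  let sec : F → Q := Function.surjInv hsurj
  have hsec : ∀ a, α (sec a) = a := Function.surjInv_eq hsurj
  let s : F → F := fun a => ι ⟨sec a * sec a, hsq _⟩
  have hs : ∀ x, s (α x) = ι ⟨x * x, hsq x⟩ := fun x => by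
    refine congrArg ι (Subtype.ext ?_)
    show sec (α x) * sec (α x) = x * x
    have h0 : α (x * (x⁻¹ * sec (α x))) = α x + α (x⁻¹ * sec (α x)) := hα _ _
    rw [mul_inv_cancel_left, hsec, left_eq_add] at h0
    have hz := (hker _).1 h0
    obtain ⟨z, hz2, e⟩ : ∃ z, z ∈ Subgroup.center Q ∧ sec (α x) = x * z :=
      ⟨_, hz, (mul_inv_cancel_left _ _).symm⟩
    calc sec (α x) * sec (α x) = x * (z * x) * z := by rw [e]; group
      _ = x * (x * z) * z := by rw [Subgroup.mem_center_iff.1 hz2 x]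
      _ = x * x * (z * z) := by group
      _ = x * x := by rw [(hinv z).2 hz2, mul_one]
  have hsfix : ∀ a, s a ^ 2 ^ n = s a := fun a => hιfix _
  have hsne : ∀ a, a ≠ 0 → s a ≠ 0 := fun a ha h => ha (by
    have h1 : sec a * sec a = 1 := congrArg Subtype.val (hι (h.trans hι1.symm))
    rw [← hsec a, (hker _).2 ((hinv _).1 h1)])
  have hseq : ∀ c a, s (δ c * a) = χ c * s a := fun c a => by
    rw [← hsec a, ← hδα, hs, hmapsq, hs]
  have hsadd : ∀ x y : Q, ∃ z : Subgroup.center Q, y * x = z * (x * y) ∧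
      s (α x + α y) = ι z + (s (α x) + s (α y)) := fun x y => by
    obtain ⟨z, hz⟩ := Coordinates.exists_swap hsq x y
    refine ⟨z, hz, ?_⟩
    rw [← hα, hs, hs, hs, Coordinates.sq_mul hsq x y z hz, hιadd, hιadd]
  have hquad : ∀ a b c : F,
      s (a + b + c) + s (a + b) + s (a + c) + s (b + c) + s a + s b + s c = 0 := by
    intro a b c
    obtain ⟨zb, hzb, hb⟩ := hsadd (sec a) (sec b)
    obtain ⟨zc, hzc, hc⟩ := hsadd (sec a) (sec c)
    obtain ⟨zbc, hzbc, hbc⟩ := hsadd (sec a) (sec b * sec c)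
    have e : zbc = zb * zc := by
      refine Subtype.ext ((mul_left_inj (sec a * (sec b * sec c))).1 ?_)
      calc (zbc : Q) * (sec a * (sec b * sec c)) = sec b * (sec c * sec a) := by rw [← hzbc]; group
        _ = sec b * ((zc : Q) * (sec a * sec c)) := by rw [hzc]
        _ = (zc : Q) * (sec b * sec a) * sec c := by
            rw [← mul_assoc, Subgroup.mem_center_iff.1 zc.2 (sec b)]; group
        _ = (zc : Q) * ((zb : Q) * (sec a * sec b)) * sec c := by rw [hzb]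
        _ = ((zc : Q) * zb) * (sec a * (sec b * sec c)) := by group
        _ = _ := by rw [Subgroup.mem_center_iff.1 zb.2 (zc : Q)]; rfl
    rw [e, hιadd] at hbc
    simp only [hα, hsec] at hb hc hbc
    rw [add_assoc a b c, hbc, hb, hc]
    linear_combination (ι zb + ι zc) * (CharTwo.two_eq_zero : (2 : F) = 0) +
      (2 * s a + s (b + c) + s b + s c) * (CharTwo.two_eq_zero : (2 : F) = 0)
  have hodd : Odd (Nat.card C) := by
    rw [hCcard]
    have heven : Even (2 ^ n) := (Nat.even_pow' (by omega)).2 even_two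
    exact (Nat.Even.sub_odd (by omega) heven odd_one).mul ((Even.add_one heven).of_dvd_nat hm)
  rcases Coordinates.classify hn hm h3 hm1 hF hC hCcard δ hδ χ' hχfix s hquad hsfix hsne hseq with
    ⟨i, u, hu0, hufix, hχδ, hsi⟩ | ⟨rfl, rfl, a₀, k, hsa⟩
  · left
    obtain ⟨c₁, hc₁⟩ := hχsurj u hu0 hufix
    let ρ := δ c₁ ^ 2 ^ i
    have hρN : ρ ^ (2 ^ n + 1) = u := (hχδ c₁).symm.trans hc₁
    have hρ : ρ ≠ 0 := fun h => hu0 (by rw [← hρN, h, zero_pow (Nat.succ_ne_zero _)])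
    obtain ⟨g, hg⟩ := hC.exists_generator
    have hord : orderOf (δ g) = r * m := by
      rw [orderOf_injective δ hδ, orderOf_eq_card_of_forall_mem_zpowers hg, hC']
    have hne : δ g ^ 2 ^ n ≠ δ g := fun h => by
      have hg0 : δ g ≠ 0 := fun h0 => by
        have h1 := map_mul δ g g⁻¹
        rw [h0, zero_mul, mul_inv_cancel, map_one] at h1
        exact one_ne_zero h1
      rw [hr, pow_succ] at h
      have h1 : δ g ^ r = 1 := (mul_eq_right₀ hg0).1 h
      have h2 := orderOf_dvd_of_pow_eq_one h1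
      rw [hord] at h2
      have h3 := Nat.le_of_dvd (by omega) h2
      have : 2 ≤ m := by omega
      nlinarith
    obtain ⟨lam, hlam⟩ : ∃ lam : F, lam + lam ^ 2 ^ n = 1 := by
      have hw : δ g + δ g ^ 2 ^ n ≠ 0 := fun h => hne (CharTwo.add_eq_zero.1 h).symm
      refine ⟨δ g / (δ g + δ g ^ 2 ^ n), ?_⟩
      have hfix : (δ g + δ g ^ 2 ^ n) ^ 2 ^ n = δ g + δ g ^ 2 ^ n := by
        rw [add_pow_char_pow, ← pow_mul, ← pow_two, ← hF, FiniteField.pow_card, add_comm]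
      rw [div_pow, hfix, ← add_div, div_self hw]
    refine Coordinates.exists_coords hn hF hsq ι hι hιadd hιfix hιsurj
      (fun x => ρ * α x ^ 2 ^ i) (fun x y => ?_) (fun x => ?_) (fun a => ?_) (fun x => ?_) lam hlam C hodd
      χ' ((powMonoidHom (2 ^ i)).comp δ) (fun c x => ?_) (fun c => (hχδ c).symm) hχι hχfix
    · show ρ * α (x * y) ^ 2 ^ i = _
      rw [hα, add_pow_char_pow, mul_add]
    · show ρ * α x ^ 2 ^ i = 0 ↔ _
      rw [mul_eq_zero, or_iff_right hρ, pow_eq_zero_iff (Nat.two_pow_pos i).ne', hker]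
    · obtain ⟨x, hx⟩ := hsurj ((iterateFrobeniusEquiv F 2 i).symm (a / ρ))
      refine ⟨x, ?_⟩
      show ρ * α x ^ 2 ^ i = a
      rw [hx, show ((iterateFrobeniusEquiv F 2 i).symm (a / ρ)) ^ 2 ^ i = a / ρ from
        (iterateFrobeniusEquiv F 2 i).apply_symm_apply _, mul_div_cancel₀ _ hρ]
    · show ι _ = (ρ * α x ^ 2 ^ i) ^ (2 ^ n + 1)
      rw [← hs, hsi, mul_pow, hρN]
    · show ρ * α _ ^ 2 ^ i = δ c ^ 2 ^ i * (ρ * α x ^ 2 ^ i)
      rw [hδα, mul_pow]
      ring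
  · right
    refine ⟨rfl, rfl, α, hα, hker, hsurj, fun c => ⟨δ c, fun h => ?_, hδα c⟩, a₀, k, fun x hx => ?_⟩
    · have h1 := map_mul δ c c⁻¹
      rw [h, zero_mul, mul_inv_cancel, map_one] at h1
      exact one_ne_zero h1
    · rw [← hsa, hs]

end Cfsg.Agent.Involutions.RankOne.U3
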