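import Cfsg.Agent.Lib.Involutions.RankOne.U3.Index.TI

/-!
# The branch `|Q| = q³`, U5 and U6: `q + 1` divides `3 |W|`

A Sylow `p`-subgroup of the stabiliser fixes a second block; this gives an element `g` outside the
stabiliser with `g τ g⁻¹` commuting with `τ`, whose component in `W` then has the required order.
-/

set_option autoImplicit false
set_option linter.unusedSectionVars false
set_option linter.style.haveILetI false

namespace Cfsg.Agent.Involutions.RankOne.U3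

open MulAction Involutions.Basic
open scoped Pointwise

namespace Idx

variable {G Ω : Type*} [Group G] [Finite G] [MulAction G Ω] [FaithfulSMul G Ω] {a : Ω} {t : G}
  {Q : Subgroup G} {n : ℕ} {F : Type*} [Field F] [Fintype F] [CharP F 2]
variable {h : Setting G Ω a t Q n} {fr : Frame a t Q n F} {hW : W a t ≠ ⊥} {ρ : F} {p e : ℕ} {τ : G}

include h in
/-- The number of blocks is `3` modulo `p`. -/
theorem Part.index_cast (P : Part fr ρ p e τ) (hW : W a t ≠ ⊥) : ((Nb a t Q).index : ZMod p) = 3 := by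
  have h1 := index_Nb h fr hW
  obtain ⟨q', hq'⟩ : ∃ q', 2 ^ n = q' + 1 := ⟨2 ^ n - 1, by have := Nat.one_le_two_pow (n := n); omega⟩
  have h2 : (Nb a t Q).index = (2 ^ n) ^ 2 * (2 ^ n * q' + 1) := by
    refine Nat.eq_of_mul_eq_mul_right (show 0 < 2 ^ n + 1 by omega) (h1.trans ?_)
    rw [hq']
    ring
  have hq : ((2 ^ n : ℕ) : ZMod p) + 1 = 0 := by
    exact_mod_cast (ZMod.natCast_eq_zero_iff (2 ^ n + 1) p).2 P.dvd_q1
  rw [h2, hq'] at *
  push_cast at hq ⊢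
  linear_combination ((q' : ZMod p) ^ 3 + (q' : ZMod p) ^ 2 * 1 + 2 * q' - 1) * hq

include h hW

/-- An element outside the stabiliser that makes `g τ g⁻¹` commute with `τ`. -/
theorem Part.final (P : Part fr ρ p e τ) (loc : Local fr ρ) (hgood : τ ^ p ≠ 1 ∨ 5 ≤ p) {g : G}
    (hg : g ∉ Nb a t Q) (hc : Commute (g * τ * g⁻¹) τ) : p ^ e ∣ 3 * Nat.card (W a t) := by
  have hτ1 : τ ≠ 1 := fun e1 => by
    have h1 := P.order
    rw [e1, orderOf_one] at h1
    exact (Nat.one_lt_pow P.pos P.prime.one_lt).ne h1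
  have hτm : τ ∈ Subgroup.zpowers τ := Subgroup.mem_zpowers τ
  have hN : g * τ * g⁻¹ ∈ Nb a t Q := P.centralizer_le (h := h) (hW := hW) loc hτm hτ1 hgood hc.symm
  have hαe : (g * τ * g⁻¹) ^ (p ^ e) = 1 := by
    rw [conj_pow, ← P.order, pow_orderOf_eq_one]; group
  obtain ⟨l, hl, w, hw, e1⟩ := P.central_case (h := h) (hW := hW) loc hN hαe hc
  set k := orderOf w with hk
  have hkm : k ∣ Nat.card (W a t) := by
    have := orderOf_dvd_natCard (⟨w, hw⟩ : W a t)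
    rwa [Subgroup.orderOf_mk] at this
  have hx : (g * τ * g⁻¹) ^ k ∈ Subgroup.zpowers τ := by
    refine P.mem_zpowers (h := h) (hW := hW) (r := e) ?_ (hc.pow_left k) ?_
    · rw [e1, (show Commute l w from W_comm_L0 h hw hl).mul_pow, hk, pow_orderOf_eq_one, mul_one]
      exact pow_mem hl _
    · rw [← pow_mul, mul_comm, pow_mul, hαe, one_pow]
  have hord : orderOf (g * τ * g⁻¹) = p ^ e := by rw [orderOf_conj, P.order]
  by_cases hx1 : (g * τ * g⁻¹) ^ k = 1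
  · exact ((hord ▸ orderOf_dvd_of_pow_eq_one hx1).trans hkm).mul_left 3
  have hgx : g⁻¹ * (g * τ * g⁻¹) ^ k * g ∈ fr.torusG ρ := by
    rw [conj_pow, show g⁻¹ * (g * τ ^ k * g⁻¹) * g = τ ^ k by group]
    exact pow_mem P.mem k
  by_contra hcon
  refine P.no_fusion (h := h) (hW := hW) loc hg hx hx1 ?_ hgx
  by_contra hbad
  rw [not_or, not_not, not_le, ← pow_mul] at hbad
  have hp3 : p = 3 := by
    have h2 := P.prime.two_le
    have h3 := P.ne_two
    have hp5 := hbad.2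
    rcases (show p = 3 ∨ p = 4 by omega) with h4 | h4
    · exact h4
    · exact absurd (h4 ▸ P.prime) (by decide)
  have h1 := (hord ▸ orderOf_dvd_of_pow_eq_one hbad.1).trans (Nat.mul_dvd_mul hkm (dvd_refl p))
  rw [hp3, mul_comm _ 3] at h1
  exact hcon (hp3 ▸ h1)

/-- The `p`-part of `q + 1` divides `3 |W|`. -/
theorem Part.dvd_card_W (P : Part fr ρ p e τ) (loc : Local fr ρ) (hgood : τ ^ p ≠ 1 ∨ 5 ≤ p) :
    p ^ e ∣ 3 * Nat.card (W a t) := by
  classical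
  haveI : Fact p.Prime := ⟨P.prime⟩
  have hA := torus_member (h := h) loc
  set T := Subgroup.zpowers τ with hT
  have hTN : T ≤ Nb a t Q := fun y hy => L0_le_Nb h hW (P.mem_L0 hy)
  have hτm : τ ∈ T := Subgroup.mem_zpowers τ
  -- a Sylow subgroup of the stabiliser through `τ`
  have hTp : IsPGroup p (T.subgroupOf (Nb a t Q)) :=
    P.isPGroup.of_equiv (Subgroup.subgroupOfEquivOfLe hTN).symm
  obtain ⟨S, hS⟩ := hTp.exists_le_sylow
  set R := (S : Subgroup (Nb a t Q)).map (Nb a t Q).subtype with hR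
  have hRN : R ≤ Nb a t Q := Subgroup.map_subtype_le _
  have hTR : T ≤ R := fun y hy => ⟨⟨y, hTN hy⟩, hS hy, rfl⟩
  have hRcard : Nat.card R = p ^ (Nat.card (Nb a t Q)).factorization p := by
    rw [hR, Subgroup.card_subtype]
    exact S.card_eq_multiplicity
  have hRp : IsPGroup p R := IsPGroup.of_card hRcard
  -- it fixes a second block
  obtain ⟨g, hgN, hgR⟩ : ∃ g, g ∉ Nb a t Q ∧ ∀ u ∈ R, g⁻¹ * u * g ∈ Nb a t Q := by
    have h1 : ((1 : G) : G ⧸ Nb a t Q) ∈ fixedPoints R (G ⧸ Nb a t Q) := fun u => by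
      show (((u : G) * 1 : G) : G ⧸ Nb a t Q) = ((1 : G) : G ⧸ Nb a t Q)
      exact QuotientGroup.eq.2 (by simpa using inv_mem (hRN u.2))
    by_contra hno
    push Not at hno
    have hone : fixedPoints R (G ⧸ Nb a t Q) = {((1 : G) : G ⧸ Nb a t Q)} := by
      refine Set.eq_singleton_iff_unique_mem.2 ⟨h1, fun c hc => ?_⟩
      obtain ⟨g, rfl⟩ := QuotientGroup.mk_surjective c
      refine (QuotientGroup.eq.2 ?_).symm
      rw [inv_one, one_mul]
      by_contra hgN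
      obtain ⟨u, hu, hu'⟩ := hno g hgN
      refine hu' ?_
      have h2 : ((u * g : G) : G ⧸ Nb a t Q) = (g : G ⧸ Nb a t Q) := hc ⟨u, hu⟩
      simpa [mul_assoc] using QuotientGroup.eq.1 h2.symm
    have h3 := hRp.card_modEq_card_fixedPoints (G ⧸ Nb a t Q)
    rw [hone, Nat.card_coe_set_eq, Set.ncard_singleton] at h3
    have h4 : ((Nb a t Q).index : ZMod p) = ((1 : ℕ) : ZMod p) := (ZMod.natCast_eq_natCast_iff _ _ _).2 h3
    rw [P.index_cast (h := h) hW, Nat.cast_one] at h4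
    have h5 : ((2 : ℕ) : ZMod p) = 0 := by push_cast; linear_combination h4
    exact P.ne_two ((Nat.prime_dvd_prime_iff_eq P.prime Nat.prime_two).1
      ((ZMod.natCast_eq_zero_iff _ _).1 h5))
  -- `R` normalises `⟨τ⟩`
  have hRT : ∀ u : G, u ∈ R → u ∈ L0 a t Q → u ∈ T := by
    have hU : IsPGroup p ↥(L0 a t Q ⊓ R) := hRp.to_le inf_le_right
    have e1 : T = L0 a t Q ⊓ R := Subgroup.eq_of_le_of_card_ge (le_inf (fun _ hy => P.mem_L0 hy) hTR)
      (by rw [Nat.card_zpowers, P.order]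
          exact Nat.le_of_dvd (pow_pos P.prime.pos e) (P.card_le (h := h) (hW := hW) inf_le_left hU))
    intro u hu hu'
    rw [e1]
    exact ⟨hu', hu⟩
  set R' := R.map (MulAut.conj g⁻¹).toMonoidHom with hR'
  have hmem' : ∀ u : G, u ∈ R' ↔ g * u * g⁻¹ ∈ R := fun u => by
    constructor
    · rintro ⟨r, hr, rfl⟩
      simpa [mul_assoc] using hr
    · exact fun hu => ⟨_, hu, by simp [mul_assoc]⟩
  obtain ⟨l, hl, hlR⟩ := P.sylow_inter (h := h) (hW := hW) (R := R')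
    (fun u hu => by simpa [mul_assoc] using hgR _ ((hmem' u).1 hu))
    (by rw [hR', Subgroup.card_map_of_injective (MulEquiv.injective _)]; exact hRcard)
  have hlτ : l * τ * l⁻¹ ∈ R' ∧ l * τ * l⁻¹ ∈ L0 a t Q :=
    (hlR _).2 (by rw [show l⁻¹ * (l * τ * l⁻¹) * l = τ by group]; exact hτm)
  have hlN := L0_le_Nb h hW hl
  set g' := g * l with hg'
  have hg'N : g' ∉ Nb a t Q := fun h1 => hgN (by simpa [hg'] using mul_mem h1 (inv_mem hlN))
  set α := g' * τ * g'⁻¹ with hα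
  have hαR : α ∈ R := by
    rw [hα, show g' * τ * g'⁻¹ = g * (l * τ * l⁻¹) * g⁻¹ by rw [hg']; group]
    exact (hmem' _).1 hlτ.1
  obtain ⟨s, hs⟩ : α * τ * α⁻¹ ∈ T :=
    hRT _ (mul_mem (mul_mem hαR (hTR hτm)) (inv_mem hαR)) (conj_L0 h fr hW (hRN hαR) (P.mem_L0 hτm))
  obtain ⟨j, hj⟩ : ∃ j : ℤ, τ * α * τ⁻¹ = α ^ j := by
    have hxR : g⁻¹ * τ * g ∈ R' := (hmem' _).2 (by
      rw [show g * (g⁻¹ * τ * g) * g⁻¹ = τ by group]; exact hTR hτm)
    obtain ⟨j, hj⟩ := (hlR (g⁻¹ * τ * g * (l * τ * l⁻¹) * (g⁻¹ * τ * g)⁻¹)).1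
      ⟨mul_mem (mul_mem hxR hlτ.1) (inv_mem hxR), conj_L0 h fr hW (hgR _ (hTR hτm)) hlτ.2⟩
    have hj' : τ ^ j = l⁻¹ * (g⁻¹ * τ * g * (l * τ * l⁻¹) * (g⁻¹ * τ * g)⁻¹) * l := hj
    refine ⟨j, ?_⟩
    rw [hα, conj_zpow, hj', hg']
    group
  by_cases hc : Commute α τ
  · exact P.final (h := h) (hW := hW) loc hgood hg'N hc
  -- the commutator
  have hs' : α * τ * α⁻¹ = τ ^ s := hs.symm
  set ω := α * τ * α⁻¹ * τ⁻¹ with hω
  have hωT : ω ∈ T := ⟨s - 1, by
    show τ ^ (s - 1) = ω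
    rw [zpow_sub, zpow_one, hω, hs']⟩
  have hωα : ω = g' * τ ^ (1 - j) * g'⁻¹ := by
    calc ω = α * (τ * α * τ⁻¹)⁻¹ := by rw [hω]; group
      _ = α ^ (1 - j) := by rw [hj, zpow_sub, zpow_one]
      _ = _ := by rw [hα, conj_zpow]
  have hω1 : ω ≠ 1 := fun e1 => hc (mul_inv_eq_iff_eq_mul.1 (mul_inv_eq_one.1 e1))
  have hgω : g'⁻¹ * ω * g' ∈ fr.torusG ρ := by
    rw [hωα, show g'⁻¹ * (g' * τ ^ (1 - j) * g'⁻¹) * g' = τ ^ (1 - j) by group]
    exact zpow_mem P.mem _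
  have hbad : ¬ (ω ^ p ≠ 1 ∨ 5 ≤ p) := fun hg2 =>
    P.no_fusion (h := h) (hW := hW) loc hg'N hωT hω1 hg2 hgω
  rw [not_or, not_not, not_le] at hbad
  have hp3 : p = 3 := by
    have h2 := P.prime.two_le
    have h3 := P.ne_two
    have hp5 := hbad.2
    rcases (show p = 3 ∨ p = 4 by omega) with h4 | h4
    · exact h4
    · exact absurd (h4 ▸ P.prime) (by decide)
  have hω3 : ω ^ 3 = 1 := hp3 ▸ hbad.1
  obtain ⟨hωs, hωd, hωt, -⟩ := P.tau_props (h := h) loc hωT hω1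
  -- an involution outside `L₀` inverting `ω` gives an element of order three
  have cube : ∀ i : G, i * i = 1 → i ∉ L0 a t Q → i * ω * i⁻¹ = ω⁻¹ → (t * i) ^ 3 = 1 := by
    intro i hi2 hiL hiω
    obtain ⟨hcy, hyt⟩ := commute_of_inverting (h := h) (fr := fr) (hW := hW) hi2 hiω hωt
    by_contra hy3
    have hy1 : t * i ≠ 1 := fun e1 => hy3 (by rw [e1, one_pow])
    have hys := commuting_semireg (h := h) loc hωs hωd hωt hy1 hyt hcy
    obtain ⟨N, ⟨hN, hNy⟩, -⟩ := loc.cover _ hys hyt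
    have h3 : (ω * (t * i)) ^ 3 = (t * i) ^ 3 := by rw [hcy.mul_pow, hω3, one_mul]
    have hu1 : ω * (t * i) ≠ 1 := fun e1 => hy3 (by rw [← h3, e1, one_pow])
    have hut : t * (ω * (t * i)) * t⁻¹ = (ω * (t * i))⁻¹ := by
      rw [show t * (ω * (t * i)) * t⁻¹ = (t * ω * t⁻¹) * (t * (t * i) * t⁻¹) by group, hωt, hyt,
        ← _root_.mul_inv_rev, ← hcy.eq]
    have hus := commuting_semireg (h := h) loc hωs hωd hωt hu1 hut ((Commute.refl ω).mul_right hcy)
    obtain ⟨M, ⟨hM, hMu⟩, -⟩ := loc.cover _ hus hut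
    have hMN := member_eq (h := h) loc hM hN hy3 (h3 ▸ pow_mem hMu 3) (pow_mem hNy 3)
    have hωN : ω ∈ N := by
      have h4 : ω * (t * i) ∈ N := hMN ▸ hMu
      have h5 := mul_mem h4 (inv_mem hNy)
      rwa [mul_inv_cancel_right] at h5
    rw [member_eq (h := h) loc hN hA hω1 hωN (P.mem_torus hωT)] at hNy
    have h6 := mul_mem (t_mem_L0 (a := a) (t := t) (Q := Q)) (torusG_le fr hNy)
    rw [← mul_assoc, h.setup.mul_self, one_mul] at h6
    exact hiL h6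
  set i := g' * t * g'⁻¹ with hi
  have hi2 : i * i = 1 := by
    rw [hi, show g' * t * g'⁻¹ * (g' * t * g'⁻¹) = g' * (t * t) * g'⁻¹ by group, h.setup.mul_self]; group
  have hiL : i ∉ L0 a t Q := by
    refine not_mem_L0 (h := h) (fr := fr) (hW := hW) hg'N (hTN hτm) ?_ (hα ▸ hRN hαR)
    exact loc.torus_semireg τ P.mem (fun e1 => hc (e1 ▸ Commute.one_right α))
  have hiω : i * ω * i⁻¹ = ω⁻¹ := by
    rw [hωα, hi]
    calc g' * t * g'⁻¹ * (g' * τ ^ (1 - j) * g'⁻¹) * (g' * t * g'⁻¹)⁻¹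
        = g' * (t * τ ^ (1 - j) * t⁻¹) * g'⁻¹ := by group
      _ = _ := by rw [loc.torus_inverted _ (zpow_mem P.mem _)]; group
  set y := t * i with hy
  have hy3 : y ^ 3 = 1 := cube i hi2 hiL hiω
  have hyμ : ∀ μ ∈ T, (y * (μ⁻¹ * μ⁻¹)) ^ 3 = 1 := by
    intro μ hμ
    have hcμ : Commute μ ω := by
      obtain ⟨u, rfl⟩ := hμ
      obtain ⟨v, hv⟩ := hωT
      rw [← hv]
      exact (Commute.refl τ).zpow_zpow u v
    have h1 := cube (μ * i * μ⁻¹)
      (by rw [show μ * i * μ⁻¹ * (μ * i * μ⁻¹) = μ * (i * i) * μ⁻¹ by group, hi2]; group)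
      (fun hm => hiL (by
        have := mul_mem (mul_mem (inv_mem (P.mem_L0 hμ)) hm) (P.mem_L0 hμ)
        simpa [mul_assoc] using this))
      (by
        have h2 : μ⁻¹ * ω * μ = ω := by rw [mul_assoc, ← hcμ.eq, inv_mul_cancel_left]
        calc μ * i * μ⁻¹ * ω * (μ * i * μ⁻¹)⁻¹ = μ * (i * (μ⁻¹ * ω * μ) * i⁻¹) * μ⁻¹ := by group
          _ = (μ * ω * μ⁻¹)⁻¹ := by rw [h2, hiω]; group
          _ = ω⁻¹ := by rw [hcμ.eq, mul_inv_cancel_right])
    have htμ : t * μ = μ⁻¹ * t := by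
      have h2 := loc.torus_inverted μ (P.mem_torus hμ)
      exact mul_inv_eq_iff_eq_mul.1 h2
    rw [show t * (μ * i * μ⁻¹) = μ⁻¹ * y * μ⁻¹ by rw [hy, ← mul_assoc, ← mul_assoc, htμ]; group] at h1
    calc (y * (μ⁻¹ * μ⁻¹)) ^ 3 = (μ * (μ⁻¹ * y * μ⁻¹) * μ⁻¹) ^ 3 := by group
      _ = 1 := by rw [conj_pow, h1]; group
  have hrel : ∀ u : G, (y * u) ^ 3 = 1 → y * u * y⁻¹ * (y * (y * u * y⁻¹) * y⁻¹) = u⁻¹ := fun u hu => by
    refine eq_inv_of_mul_eq_one_left ?_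
    calc y * u * y⁻¹ * (y * (y * u * y⁻¹) * y⁻¹) * u = (y * u) ^ 3 * (u⁻¹ * (y ^ 3)⁻¹ * u) := by
          simp only [pow_succ, pow_zero, one_mul]; group
      _ = 1 := by rw [hu, hy3]; group
  obtain ⟨c, hc'⟩ : ∃ c, p ^ e = 2 * c + 1 := (P.prime.odd_of_ne_two P.ne_two).pow
  have e1 : (y * τ) ^ 3 = 1 := by
    have h1 := hyμ (τ ^ c) (pow_mem hτm c)
    rwa [show (τ ^ c)⁻¹ * (τ ^ c)⁻¹ = τ by
      rw [← _root_.mul_inv_rev, ← pow_add]
      refine inv_eq_of_mul_eq_one_left ?_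
      rw [← pow_succ', ← two_mul, ← hc', ← P.order, pow_orderOf_eq_one]] at h1
  have e2 : (y * (τ * τ)) ^ 3 = 1 := by
    have h1 := hyμ τ⁻¹ (inv_mem hτm)
    rwa [inv_inv] at h1
  set b := y * τ * y⁻¹ with hb
  set d := y * b * y⁻¹ with hd
  have hbd : b * d = τ⁻¹ := hrel τ e1
  have hbd2 : b * b * (d * d) = τ⁻¹ * τ⁻¹ := by
    rw [← _root_.mul_inv_rev, ← hrel (τ * τ) e2, hd, hb]
    group
  have hcomm : Commute b d := by
    refine mul_left_cancel (a := b) (mul_right_cancel (b := d) ?_)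
    calc b * (b * d) * d = b * b * (d * d) := by group
      _ = (b * d) * (b * d) := by rw [hbd2, hbd]
      _ = _ := by group
  have hbτ : Commute b τ := by
    have h1 : Commute b τ⁻¹ := hbd ▸ (Commute.refl b).mul_right hcomm
    exact Commute.inv_right_iff.1 h1
  refine P.final (h := h) (hW := hW) loc hgood (g := y) (fun hyN => hiL ?_) hbτ
  refine mem_L0_of_involution (h := h) (fr := fr) (hW := hW) ?_ hi2
  have h1 := mul_mem (L0_le_Nb h hW (t_mem_L0 (a := a) (t := t) (Q := Q))) hyN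
  rwa [hy, ← mul_assoc, h.setup.mul_self, one_mul] at h1

end Idx

universe u v

/-- U5 and U6. -/
theorem index : Stmt.Index.{u, v} := by
  intro G Ω _ _ _ _ a t Q n F _ _ _ h hW fr ρ loc
  refine (Nat.dvd_iff_prime_pow_dvd_dvd _ _).2 fun p k hp hk => ?_
  have hq0 : (2 : ℕ) ^ n + 1 ≠ 0 := Nat.succ_ne_zero _
  set e := (2 ^ n + 1).factorization p with he
  have hke : k ≤ e := (hp.pow_dvd_iff_le_factorization hq0).1 hk
  refine (pow_dvd_pow p hke).trans ?_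
  by_cases he0 : e = 0
  · rw [he0, pow_zero]; exact one_dvd _
  have hd : p ^ e ∣ 2 ^ n + 1 := Nat.ordProj_dvd _ _
  have hp2 : p ≠ 2 := by
    rintro rfl
    have hqe : Even (2 ^ n) := Nat.even_pow.2 ⟨even_two, by linarith [h.two_le]⟩
    exact absurd (even_iff_two_dvd.2 ((dvd_pow_self 2 he0).trans hd))
      (Nat.not_even_iff_odd.2 (Even.add_one hqe))
  by_cases hsmall : p = 3 ∧ e = 1
  · rw [hsmall.1, hsmall.2, pow_one]; exact dvd_mul_right _ _
  obtain ⟨u, hu⟩ := loc.torus_cyclic.exists_generator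
  have hou : orderOf u = 2 ^ n + 1 := (orderOf_eq_card_of_forall_mem_zpowers hu).trans loc.torus_card
  set τ : fr.torusG ρ := u ^ (orderOf u / p ^ e) with hτ
  have hoτ : orderOf τ = p ^ e := orderOf_pow_orderOf_div (by rw [hou]; exact hq0) (hou ▸ hd)
  have P : Idx.Part fr ρ p e (τ : G) :=
    ⟨hp, hp2, he0, hd, fun h1 => absurd
      ((hp.pow_dvd_iff_le_factorization hq0).1 h1) (by omega), τ.2,
      by rw [Subgroup.orderOf_coe, hoτ]⟩
  refine P.dvd_card_W (h := h) (hW := hW) loc ?_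
  by_cases he1 : e = 1
  · have h2 := hp.two_le
    have h3 : p ≠ 3 := fun h3 => hsmall ⟨h3, he1⟩
    refine Or.inr ?_
    rcases (show 5 ≤ p ∨ p = 4 by omega) with h4 | h4
    · exact h4
    · exact absurd (h4 ▸ hp) (by decide)
  · refine Or.inl fun h1 => ?_
    have h2 := orderOf_dvd_of_pow_eq_one (n := p ^ 1) (x := (τ : G)) (by rw [pow_one]; exact h1)
    rw [Subgroup.orderOf_coe, hoτ, Nat.pow_dvd_pow_iff_le_right hp.one_lt] at h2
    omega

end Cfsg.Agent.Involutions.RankOne.U3
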