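import Cfsg.Agent.Lib.Involutions.RankOne.U3.Defs
import Cfsg.Agent.Lib.Involutions.RankOne.Peterfalvi
import Cfsg.Agent.Lib.Involutions.RankOne.StronglyReal
import Cfsg.Agent.S0205
import Cfsg.Agent.S1127
import Cfsg.Agent.S1137
import Cfsg.Agent.S1138

/-!
# The branch `|Q| = q³`: the centre of `Q`, the groups `K`, `V`, `W`
-/

set_option autoImplicit false
set_option linter.unusedSectionVars false

namespace Cfsg.Agent.Involutions.RankOne.U3

open MulAction Involutions.Basic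

variable {G Ω : Type*} [Group G] [Finite G] [MulAction G Ω] [FaithfulSMul G Ω] {a : Ω} {t : G}
  {Q : Subgroup G} {n : ℕ}

local notation "H" => MulAction.stabilizer G a
local notation "D" => (MulAction.stabilizer G a ⊓ MulAction.stabilizer G (t • a))

/-- The centre of `Q`, inside `G`. -/
def Zc (Q : Subgroup G) : Subgroup G := (Subgroup.center Q).map Q.subtype

/-- The subgroup of elements of `D` inverted by `t`. -/
def Kc (a : Ω) (t : G) : Subgroup G :=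
  Subgroup.closure
    (Cfsg.invertedBy (MulAction.stabilizer G a ⊓ MulAction.stabilizer G (t • a)) t)

omit [Finite G] [FaithfulSMul G Ω] in
theorem mem_Zc {x : G} : x ∈ Zc Q ↔ x ∈ Q ∧ ∀ y ∈ Q, x * y = y * x := by
  constructor
  · rintro ⟨z, hz, rfl⟩
    exact ⟨z.2, fun y hy => (congrArg Subtype.val (Subgroup.mem_center_iff.1 hz ⟨y, hy⟩)).symm⟩
  · rintro ⟨hx, h⟩
    exact ⟨⟨x, hx⟩, Subgroup.mem_center_iff.2 fun y => Subtype.ext (h y y.2).symm, rfl⟩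

omit [Finite G] [FaithfulSMul G Ω] in
theorem Zc_le : Zc Q ≤ Q := fun _ h => (mem_Zc.1 h).1

variable (h : Setting G Ω a t Q n)
include h

theorem two_commuting :
    ∃ x y : G, x ≠ 1 ∧ y ≠ 1 ∧ x ≠ y ∧ x * x = 1 ∧ y * y = 1 ∧ x * y = y * x := h.rank_two

theorem card_Zc : Nat.card (Zc Q) = 2 ^ n := by
  rw [← h.card_center]
  exact Subgroup.card_map_of_injective Q.subtype_injective

theorem mul_self_eq_one_iff {x : G} (hx : x ∈ H) : x * x = 1 ↔ x ∈ Zc Q := by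
  constructor
  · intro h1
    have hxQ := involution_mem h.setup hx h1
    by_cases hx1 : x = 1
    · exact hx1 ▸ one_mem _
    · refine ⟨⟨x, hxQ⟩, (((S1137.result h.suzuki).1 ⟨x, hxQ⟩).1 ⟨?_, Subtype.ext h1⟩).1, rfl⟩
      exact fun e => hx1 (congrArg Subtype.val e)
  · rintro ⟨z, hz, rfl⟩
    exact congrArg Subtype.val ((S1137.result h.suzuki).2 z hz)

theorem mem_involutions_iff {x : G} :
    x ∈ Cfsg.involutionsIn (H : Set G) ↔ x ∈ Zc Q ∧ x ≠ 1 :=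
  ⟨fun hx => ⟨(mul_self_eq_one_iff h hx.1).1 hx.2.2, hx.2.1⟩, fun hx =>
    ⟨h.setup.le (Zc_le hx.1), hx.2, (mul_self_eq_one_iff h (h.setup.le (Zc_le hx.1))).2 hx.1⟩⟩

theorem Zc_sq {x : G} (hx : x ∈ Zc Q) : x * x = 1 :=
  (mul_self_eq_one_iff h (h.setup.le (Zc_le hx))).2 hx

theorem Zc_inv {x : G} (hx : x ∈ Zc Q) : x⁻¹ = x := inv_eq_of_mul_eq_one_left (Zc_sq h hx)

omit [Finite G] [FaithfulSMul G Ω] h in
theorem Zc_comm {x y : G} (hx : x ∈ Zc Q) (hy : y ∈ Q) : x * y = y * x := (mem_Zc.1 hx).2 y hy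

theorem sq_mem_Zc {x : G} (hx : x ∈ Q) : x * x ∈ Zc Q :=
  ⟨⟨x, hx⟩ * ⟨x, hx⟩, (S1138.result h.suzuki).1 _, rfl⟩

theorem comm_mem_Zc {x y : G} (hx : x ∈ Q) (hy : y ∈ Q) : x⁻¹ * y⁻¹ * x * y ∈ Zc Q :=
  ⟨_, (S1138.result h.suzuki).2.1 ⟨x, hx⟩ ⟨y, hy⟩, rfl⟩

theorem conj_mem_Zc {g x : G} (hg : g ∈ H) (hx : x ∈ Zc Q) : g * x * g⁻¹ ∈ Zc Q := by
  refine (mul_self_eq_one_iff h (mul_mem (mul_mem hg (h.setup.le (Zc_le hx))) (inv_mem hg))).1 ?_
  rw [show g * x * g⁻¹ * (g * x * g⁻¹) = g * (x * x) * g⁻¹ by group, Zc_sq h hx]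
  group

theorem exists_involution : ∃ s : G, s ∈ Zc Q ∧ s ≠ 1 := by
  obtain ⟨s, hs, -⟩ := exists_two h.setup h.rank_two
  exact ⟨s, (mem_involutions_iff h).1 hs⟩

theorem solvable_D : Group.IsSolvable ↥D := S0205.result h.setup.odd_card

theorem mem_Kc {x : G} : x ∈ Kc a t ↔ x ∈ Cfsg.invertedBy D t := by
  refine ⟨fun hx => ?_, fun hx => Subgroup.subset_closure hx⟩
  obtain ⟨C, hC, -, -⟩ := inverted_cyclic_normal h.setup h.rank_two (solvable_D h)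
  rw [Kc, ← hC, Subgroup.closure_eq] at hx
  rw [← hC]
  exact hx

theorem Kc_le : Kc a t ≤ D := fun _ hx => ((mem_Kc h).1 hx).1

theorem Kc_t {k : G} (hk : k ∈ Kc a t) : t * k * t = k⁻¹ := by
  have := ((mem_Kc h).1 hk).2
  rwa [t_inv h.setup] at this

theorem Kc_cyclic : IsCyclic (Kc a t) := by
  obtain ⟨C, hC, hc, -⟩ := inverted_cyclic_normal h.setup h.rank_two (solvable_D h)
  have e : Kc a t = C := by rw [Kc, ← hC, Subgroup.closure_eq]
  exact e ▸ hc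

theorem conj_mem_Kc {d k : G} (hd : d ∈ D) (hk : k ∈ Kc a t) : d * k * d⁻¹ ∈ Kc a t := by
  obtain ⟨C, hC, -, hn⟩ := inverted_cyclic_normal h.setup h.rank_two (solvable_D h)
  have e : Kc a t = C := by rw [Kc, ← hC, Subgroup.closure_eq]
  rw [e] at hk ⊢
  exact hn d hd k hk

theorem Kc_comm {k k' : G} (hk : k ∈ Kc a t) (hk' : k' ∈ Kc a t) : k * k' = k' * k := by
  haveI := Kc_cyclic h
  letI := (IsCyclic.commGroup : CommGroup (Kc a t))
  exact congrArg Subtype.val (mul_comm (⟨k, hk⟩ : Kc a t) ⟨k', hk'⟩)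

theorem exists_conj {z z' : G} (hz : z ∈ Zc Q) (hz1 : z ≠ 1) (hz' : z' ∈ Zc Q) (hz1' : z' ≠ 1) :
    ∃ k ∈ Kc a t, k * z * k⁻¹ = z' := by
  obtain ⟨k, hk, e⟩ := exists_K h.setup ((mem_involutions_iff h).2 ⟨hz, hz1⟩)
    ((mem_involutions_iff h).2 ⟨hz', hz1'⟩)
  exact ⟨k, (mem_Kc h).2 hk, e⟩

theorem eq_one_of_conj {z k : G} (hz : z ∈ Zc Q) (hz1 : z ≠ 1) (hk : k ∈ Kc a t)
    (e : k * z * k⁻¹ = z) : k = 1 :=
  K_conj_injective h.setup ((mem_involutions_iff h).2 ⟨hz, hz1⟩) ((mem_Kc h).1 hk)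
    (one_mem_K h.setup) (by simpa using e)

theorem fpf {k x : G} (hk : k ∈ Kc a t) (hk1 : k ≠ 1) (hx : x ∈ Q) (e : x * k = k * x) : x = 1 := by
  have hm : x ∈ Q ⊓ Subgroup.centralizer ({k} : Set G) :=
    Subgroup.mem_inf.2 ⟨hx, Subgroup.mem_centralizer_singleton_iff.2 e⟩
  rw [cent_Q_eq_one h.setup ((mem_Kc h).1 hk) hk1] at hm
  exact Subgroup.mem_bot.1 hm

theorem card_Kc : Nat.card (Kc a t) = 2 ^ n - 1 := by
  have e1 : Nat.card (Kc a t) = Nat.card (Cfsg.invertedBy D t) :=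
    Nat.card_congr (Equiv.subtypeEquivRight fun _ => mem_Kc h)
  rw [e1, card_K h.setup, ← card_Zc h]
  have e2 : Cfsg.involutionsIn (H : Set G) = (Zc Q : Set G) \ {1} :=
    Set.ext fun x => (mem_involutions_iff h).trans Iff.rfl
  rw [Nat.card_coe_set_eq, e2, Set.ncard_diff_singleton_of_mem (one_mem _), ← Nat.card_coe_set_eq]
  rfl

theorem t_normalizes_D {d : G} (hd : d ∈ D) : t * d * t⁻¹ ∈ D := t_conj_mem_D h.setup hd

/-- `D = V K`. -/
theorem exists_V_mul_K {d : G} (hd : d ∈ D) :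
    ∃ v k, v ∈ D ∧ t * v = v * t ∧ k ∈ Kc a t ∧ d = v * k := by
  obtain ⟨v, k, hv, hvt, hk, e⟩ := InvertedSet.exists_decomp h.setup.odd_card h.setup.mul_self
    (fun x hx => t_normalizes_D h hx) hd
  exact ⟨v, k, hv, mul_inv_eq_iff_eq_mul.1 hvt, (mem_Kc h).2 hk, e⟩

theorem mem_W_iff {x : G} : x ∈ W a t ↔ x ∈ D ∧ ∀ z ∈ Zc Q, z * x = x * z := by
  rw [W, (S1127.result h.setup).2, Subgroup.mem_inf, Subgroup.mem_centralizer_iff]
  refine and_congr_right fun _ => ⟨fun hx z hz => ?_, fun hx s hs =>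
    hx s ((mem_involutions_iff h).1 hs).1⟩
  by_cases hz1 : z = 1
  · simp [hz1]
  · exact hx z ((mem_involutions_iff h).2 ⟨hz, hz1⟩)

omit [Finite G] [FaithfulSMul G Ω] h in
theorem W_le : W a t ≤ D := fun _ hx => (Subgroup.mem_inf.1 (Subgroup.mem_inf.1 hx).1).1

omit [Finite G] [FaithfulSMul G Ω] h in
theorem W_t {w : G} (hw : w ∈ W a t) : t * w = w * t :=
  (Subgroup.mem_centralizer_singleton_iff.1 (Subgroup.mem_inf.1 (Subgroup.mem_inf.1 hw).1).2).symm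

theorem W_K {w k : G} (hw : w ∈ W a t) (hk : k ∈ Kc a t) : k * w = w * k :=
  Subgroup.mem_centralizer_iff.1 (Subgroup.mem_inf.1 hw).2 k ((mem_Kc h).1 hk)

theorem W_Zc {w z : G} (hw : w ∈ W a t) (hz : z ∈ Zc Q) : z * w = w * z :=
  ((mem_W_iff h).1 hw).2 z hz

theorem conj_mem_W {d w : G} (hd : d ∈ D) (hw : w ∈ W a t) : d * w * d⁻¹ ∈ W a t := by
  refine (mem_W_iff h).2 ⟨mul_mem (mul_mem hd (W_le hw)) (inv_mem hd), fun z hz => ?_⟩
  have hz' : d⁻¹ * z * d ∈ Zc Q := by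
    simpa using conj_mem_Zc h (inv_mem (Subgroup.mem_inf.1 hd).1) hz
  calc z * (d * w * d⁻¹) = d * ((d⁻¹ * z * d) * w) * d⁻¹ := by group
    _ = d * (w * (d⁻¹ * z * d)) * d⁻¹ := by rw [W_Zc h hw hz']
    _ = d * w * d⁻¹ * z := by group

theorem eq_one_of_mem_W_of_mem_Kc {x : G} (hw : x ∈ W a t) (hk : x ∈ Kc a t) : x = 1 := by
  obtain ⟨s, hs, hs1⟩ := exists_involution h
  exact eq_one_of_conj h hs hs1 hk (by rw [← W_Zc h hw hs, mul_inv_cancel_right])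

/-- A point `u • b` is fixed by `d ∈ D` iff `u` commutes with `d`. -/
theorem smul_b_fixed_iff {d u : G} (hd : d ∈ D) (hu : u ∈ Q) :
    d • (u • (t • a)) = u • (t • a) ↔ u * d = d * u := by
  constructor
  · intro e
    exact (Subgroup.mem_centralizer_iff.1 (q_centralizes h.setup (X := {d})
      (by rintro x (rfl : x = d); exact hd) hu (by rintro x (rfl : x = d); exact e)) d rfl).symm
  · intro e
    rw [smul_smul, ← e, mul_smul, (mem_D.1 hd).2]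

end Cfsg.Agent.Involutions.RankOne.U3
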