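import Cfsg.Agent.Lib.Involutions.RankOne.U3.Interface
import Cfsg.Agent.Lib.Involutions.RankOne.U3.Center
import Cfsg.Agent.Lib.Involutions.RankOne.U3.WNeBot.Quot
import Cfsg.Agent.Lib.Involutions.RankOne.U3.WNeBot.Simple
import Cfsg.Agent.Lib.Involutions.RankOne.U3.WNeBot.Restrict
import Cfsg.Agent.Lib.Involutions.RankOne.U3.WNeBot.Transfer
import Cfsg.Agent.Lib.Involutions.RankOne.U3.WNeBot.Eight

/-!
# `W ≠ 1` in the branch `|Q| = q³`

Induction on the order of the group. If some non-identity element `v` of `C_D(t)` fixes at least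
four elements of `E`, its centralizer gives a smaller example; otherwise `C_D(t)` has prime order
`p = n`, and the transfer (`p ≥ 5`) or a Sylow 3-subgroup (`p = 3`) gives a contradiction.
-/

set_option autoImplicit false
set_option linter.unusedSectionVars false
set_option linter.style.haveILetI false

universe u v

namespace Cfsg.Agent.Involutions.RankOne.U3

/-- No configuration has a faithful action of the two-point stabilizer on the involutions. -/
theorem no_ctx (k : ℕ) : ∀ {G : Type u} {Ω : Type v} [Group G] [Finite G] [MulAction G Ω]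
    [FaithfulSMul G Ω] {a : Ω} {t : G} {Q : Subgroup G}, Nat.card G = k →
    WNeBot.Ctx G Ω a t Q → False := by
  induction k using Nat.strong_induction_on with
  | _ k ih =>
    intro G Ω _ _ _ _ a t Q hk C
    by_cases hV : (MulAction.stabilizer G a ⊓ MulAction.stabilizer G (t • a)) ⊓
        Subgroup.centralizer ({t} : Set G) = ⊥
    · exact C.false_of_V_bot hV
    by_cases hbig : ∃ d ∈ (MulAction.stabilizer G a ⊓ MulAction.stabilizer G (t • a)) ⊓
        Subgroup.centralizer ({t} : Set G), d ≠ 1 ∧
          4 ≤ Nat.card ↥(C.E ⊓ Subgroup.centralizer ({d} : Set G))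
    · obtain ⟨d, hd, hd1, h4⟩ := hbig
      obtain ⟨G', _, _, O', _, _, a', t', Q', C', hlt⟩ := C.reduce hd hd1 h4
      exact ih _ (hk ▸ hlt) rfl C'
    · obtain ⟨w, p, S⟩ := C.exists_small hV fun d hd hd1 =>
        not_le.1 fun h => hbig ⟨d, hd, hd1, h⟩
      rcases Nat.lt_or_ge p 5 with hp | hp
      · refine S.false_of_three ?_
        have := S.three_le
        rcases (by omega : p = 3 ∨ p = 4) with h | h
        · exact h
        · exact absurd (h ▸ S.prime) (by norm_num)
      · obtain ⟨N, hQ, ht, hlt⟩ := S.exists_proper hp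
        exact ih _ (hk ▸ hlt) rfl (C.restrict N hQ ht)

/-- U2: `W ≠ 1`. -/
theorem w_ne_bot : Stmt.WNeBot.{u, v} := by
  intro G Ω _ _ _ _ a t Q n h hW
  refine no_ctx _ rfl
    { hS := h.setup, h2 := h.rank_two, exp := fun x hx => ?_, card := ?_, faith := ?_ }
  · have h1 := (S1138.result h.suzuki).2.2.2
    have h2 := Monoid.pow_exponent_eq_one (⟨x, hx⟩ : Q)
    rw [h1] at h2
    exact congrArg Subtype.val h2
  · have e : Nat.card (Cfsg.involutionsIn (MulAction.stabilizer G a : Set G)) =
        Nat.card {x : Zc Q // x ≠ 1} := Nat.card_congr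
      { toFun := fun x => ⟨⟨x, ((mem_involutions_iff h).1 x.2).1⟩,
          fun e => x.2.2.1 (congrArg Subtype.val e)⟩
        invFun := fun x => ⟨x.1.1, (mem_involutions_iff h).2
          ⟨x.1.2, fun e => x.2 (Subtype.ext e)⟩⟩
        left_inv := fun _ => rfl
        right_inv := fun _ => rfl }
    classical
    haveI := Fintype.ofFinite (Zc Q)
    rw [e, Nat.card_eq_fintype_card (α := {x : Zc Q // x ≠ 1}), Fintype.card_subtype_compl,
      Fintype.card_subtype_eq, ← Nat.card_eq_fintype_card, card_Zc h, h.card_Q]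
    congr 1
    have := Nat.one_le_two_pow (n := n)
    omega
  · rw [Subgroup.eq_bot_iff_forall]
    rintro x ⟨hxD, hxC⟩
    refine Subgroup.mem_bot.1 (hW ▸ ((mem_W_iff h).2 ⟨hxD, fun z hz => ?_⟩))
    by_cases hz1 : z = 1
    · simp [hz1]
    · exact Subgroup.mem_centralizer_iff.1 hxC z ((mem_involutions_iff h).2 ⟨hz, hz1⟩)

end Cfsg.Agent.Involutions.RankOne.U3
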