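import Cfsg.Agent.Lib.Involutions.RankOne.U3.Local.Cover
import Cfsg.Agent.Lib.Involutions.RankOne.U3.Local.Semilinear

/-!
# The branch `|Q| = q³`, U4: the local facts
-/

set_option autoImplicit false

namespace Cfsg.Agent.Involutions.RankOne.U3

universe u v

/-- U4. -/
theorem localFacts : Stmt.LocalFacts.{u, v} := by
  intro G Ω _ _ _ _ a t Q n F _ _ _ h hW fr
  obtain ⟨ρ, hρ1, hρ⟩ := Torus.exists_rho fr.card_F
  exact ⟨ρ,
    { rho_norm := hρ1
      rho_ne := hρ
      regular_free := fun x hx hx1 p hp => regular_free' h fr hW hx hx1 hp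
      regular_trans := fun p p' hp hp' => regular_trans' h fr hW hp hp'
      W_cyclic := W_cyclic' h fr hW
      torus_cyclic := torus_cyclic' h fr hρ
      torus_card := torus_card' h fr hρ hρ1
      torus_semireg := fun x hx hx1 => torus_semireg' h fr hρ hx hx1
      torus_inverted := fun x hx => torus_inverted' h fr hρ hρ1 hx
      cover := fun y hy hyt => cover' h fr hρ hρ1 hy hyt
      inverted := fun y ho hy1 hyt => inverted_dichotomy h ho hy1 hyt
      semilinear := fun d hd => semilinear' h fr hd }⟩

end Cfsg.Agent.Involutions.RankOne.U3
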