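import Cfsg.Agent.Lib.Involutions.RankOne.U3.Line
import Cfsg.Agent.Lib.Involutions.RankOne.Canonical
import Cfsg.Agent.Lib.Involutions.SylowPSUThree

/-!
# The branch `|Q| = q³`: the field of `Z(Q)` and the relation `t z t = z' k t z'`
-/

set_option autoImplicit false
set_option linter.unusedSectionVars false
set_option linter.style.haveILetI false

namespace Cfsg.Agent.Involutions.RankOne.U3

open MulAction Involutions.Basic

variable {G Ω : Type*} [Group G] [Finite G] [MulAction G Ω] [FaithfulSMul G Ω] {a : Ω} {t : G}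
  {Q : Subgroup G} {n : ℕ}

local notation "H" => MulAction.stabilizer G a
local notation "D" => (MulAction.stabilizer G a ⊓ MulAction.stabilizer G (t • a))

/-- The coordinates of `Z(Q)` and `K` in the subfield with `q` elements of `F`. -/
structure ZFrame (a : Ω) (t : G) (Q : Subgroup G) (n : ℕ) {F : Type*} [Field F] (ζ κ : F → G) :
    Prop where
  ζ_mem : ∀ z, z ^ (2 ^ n) = z → ζ z ∈ Zc Q
  ζ_add : ∀ y z, y ^ (2 ^ n) = y → z ^ (2 ^ n) = z → ζ (y + z) = ζ y * ζ z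
  ζ_inj : ∀ y z, y ^ (2 ^ n) = y → z ^ (2 ^ n) = z → ζ y = ζ z → y = z
  ζ_surj : ∀ x ∈ Zc Q, ∃ z, z ^ (2 ^ n) = z ∧ ζ z = x
  κ_mem : ∀ e, e ≠ 0 → e ^ (2 ^ n) = e → κ e ∈ Kc a t
  κ_mul : ∀ d e, d ≠ 0 → d ^ (2 ^ n) = d → e ≠ 0 → e ^ (2 ^ n) = e → κ (d * e) = κ d * κ e
  κ_surj : ∀ k ∈ Kc a t, ∃ e, e ≠ 0 ∧ e ^ (2 ^ n) = e ∧ κ e = k
  conj : ∀ e z, e ≠ 0 → e ^ (2 ^ n) = e → z ^ (2 ^ n) = z →
    κ e * ζ z * (κ e)⁻¹ = ζ (e ^ 2 * z)
  swap : ∀ z, z ≠ 0 → z ^ (2 ^ n) = z → t * ζ z * t = ζ z⁻¹ * κ z⁻¹ * t * ζ z⁻¹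

variable (h : Setting G Ω a t Q n)
include h

/-- There is an involution `s` of `Z(Q)` with `t s t = s t s`. -/
theorem exists_s (hW : W a t ≠ ⊥) :
    ∃ s : G, s ∈ Zc Q ∧ s ≠ 1 ∧ t * s * t = s * t * s := by
  obtain ⟨⟨s, r⟩, ⟨hs, hr, e⟩, huniq⟩ := exists_pair h.setup
  simp only at hs hr e
  obtain ⟨hsZ, hs1⟩ := (mem_involutions_iff h).1 hs
  have hrW : ∀ w ∈ W a t, r * w = w * r := by
    intro w hw
    have hwt : t * w = w * t := W_t hw
    have hws : w * s * w⁻¹ = s := by rw [← W_Zc h hw hsZ, mul_inv_cancel_right]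
    have hwt' : w * t * w⁻¹ = t := by rw [← hwt, mul_inv_cancel_right]
    have hp := huniq (s, w * r * w⁻¹) ⟨hs, h.setup.conj_mem w (mem_D.1 (W_le hw)).1 r hr, by
      calc t * s * t = (w * t * w⁻¹) * (w * s * w⁻¹) * (w * t * w⁻¹) := by rw [hwt', hws]
        _ = w * (t * s * t) * w⁻¹ := by group
        _ = w * (r⁻¹ * t * r) * w⁻¹ := by rw [e]
        _ = (w * r * w⁻¹)⁻¹ * (w * t * w⁻¹) * (w * r * w⁻¹) := by group
        _ = _ := by rw [hwt']⟩
    have h3 : w * r * w⁻¹ = r := (Prod.ext_iff.1 hp).2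
    calc r * w = w * r * w⁻¹ * w := by rw [h3]
      _ = w * r := by group
  obtain ⟨w, hw, hw1⟩ := (Subgroup.ne_bot_iff_exists_ne_one.1 hW) |> fun ⟨⟨w, hw⟩, hw1⟩ =>
    (⟨w, hw, fun e => hw1 (Subtype.ext e)⟩ : ∃ w, w ∈ W a t ∧ w ≠ 1)
  have hrZ : r ∈ Zc Q := fix_eq_center h hw hw1 hr (hrW w hw)
  have hr1 : r ≠ 1 := by
    rintro rfl
    rw [inv_one, one_mul, mul_one] at e
    have h1 : t * (t * s * t) * t = t * t * t := by rw [e]
    rw [show t * (t * s * t) * t = (t * t) * s * (t * t) by group, h.setup.mul_self, one_mul,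
      one_mul, mul_one] at h1
    exact h.setup.not_mem (h1 ▸ h.setup.le (Zc_le hsZ))
  rw [Zc_inv h hrZ] at e
  refine ⟨s, hsZ, hs1, ?_⟩
  -- `t r t = s t r`
  have e1 : t * r * t = s * 1 * t * r := by
    have ht := h.setup.mul_self
    have hr2 := Zc_sq h hrZ
    calc t * r * t = t * (r * t * r) * r := by
          rw [show t * (r * t * r) * r = t * r * t * (r * r) by group, hr2, mul_one]
      _ = t * (t * s * t) * r := by rw [e]
      _ = (t * t) * s * t * r := by group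
      _ = _ := by rw [ht]; group
  obtain ⟨k, hk, hkr⟩ := exists_conj h hsZ hs1 hrZ hr1
  have hkt := Kc_t h hk
  have hki : k⁻¹ ∈ H := (mem_D.1 (inv_mem (Kc_le h hk))).1
  have hy : k⁻¹ * r * k ∈ Zc Q := by simpa using conj_mem_Zc h hki hrZ
  have ht1 : t * k = k⁻¹ * t := by rw [← hkt, mul_assoc _ t t, h.setup.mul_self, mul_one]
  have ht2 : t * k⁻¹ = k * t := by
    calc t * k⁻¹ = k * (k⁻¹ * t) * k⁻¹ := by group
      _ = k * (t * k) * k⁻¹ := by rw [ht1]
      _ = k * t := by group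
  have e2 : t * r * t = (k⁻¹ * r * k) * (k⁻¹ * k⁻¹) * t * (k⁻¹ * r * k) := by
    calc t * r * t = (t * k) * s * (k⁻¹ * t) := by rw [← hkr]; group
      _ = (k⁻¹ * t) * s * (t * k) := by rw [ht1]
      _ = k⁻¹ * (t * s * t) * k := by group
      _ = k⁻¹ * (r * t * r) * k := by rw [e]
      _ = (k⁻¹ * r * k) * (k⁻¹ * (t * k)) * (k⁻¹ * r * k) := by group
      _ = _ := by rw [ht1]; group
  obtain ⟨e3, -, e4⟩ := canon_unique h.setup (Zc_le hy) (Zc_le hsZ)
    (mul_mem (inv_mem (Kc_le h hk)) (inv_mem (Kc_le h hk))) (one_mem _) (Zc_le hy) (Zc_le hrZ)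
    (e2.symm.trans e1)
  have : r = s := e4.symm.trans e3
  rw [e, this]

/-- `Z(Q)` and `K` in coordinates over a field with `q²` elements. -/
theorem exists_zframe (hW : W a t ≠ ⊥) :
    ∃ (F : Type) (_ : Field F) (_ : Fintype F) (_ : CharP F 2) (ζ κ : F → G),
      Fintype.card F = (2 ^ n) ^ 2 ∧ ZFrame a t Q n ζ κ := by
  classical
  obtain ⟨s, hs, hs1, hst⟩ := exists_s h hW
  letI : CommGroup (Zc Q) :=
    { (inferInstance : Group (Zc Q)) with
      mul_comm := fun x y => Subtype.ext (Zc_comm x.2 (Zc_le y.2)) }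
  let act : Kc a t →* AddMonoid.End (Additive (Zc Q)) :=
    { toFun := fun k => AddMonoidHom.mk' (fun x => Additive.ofMul
        (⟨(k : G) * (Additive.toMul x : Zc Q) * (k : G)⁻¹,
          conj_mem_Zc h (mem_D.1 (Kc_le h k.2)).1 (Additive.toMul x : Zc Q).2⟩ : Zc Q))
        fun x y => congrArg Additive.ofMul (Subtype.ext (by simp [mul_assoc]))
      map_one' := AddMonoidHom.ext fun x => by
        refine congrArg Additive.ofMul (Subtype.ext ?_)
        show (1 : G) * _ * (1 : G)⁻¹ = _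
        rw [one_mul, inv_one, mul_one]; rfl
      map_mul' := fun k k' => AddMonoidHom.ext fun x => by
        refine congrArg Additive.ofMul (Subtype.ext ?_)
        show ((k : G) * k') * _ * ((k : G) * k')⁻¹ =
          (k : G) * ((k' : G) * _ * (k' : G)⁻¹) * (k : G)⁻¹
        group }
  set S := Subring.closure (Set.range act)
  letI : CommRing S := Subring.closureCommRingOfComm (by
    rintro _ ⟨g, rfl⟩ _ ⟨g', rfl⟩
    rw [← map_mul, ← map_mul]
    exact congrArg _ (Subtype.ext (Kc_comm h g.2 g'.2)))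
  have hgen : ∀ k, act k ∈ S := fun k => Subring.subset_closure ⟨k, rfl⟩
  set v₀ : Additive (Zc Q) := Additive.ofMul ⟨s, hs⟩
  let ev : S →+ Additive (Zc Q) := AddMonoidHom.mk' (fun r => (r : AddMonoid.End (Additive (Zc Q))) v₀) fun _ _ => rfl
  have hmove : ∀ v, v ≠ 0 → ∃ k, act k v₀ = v := fun v hv => by
    obtain ⟨k, hk, e⟩ := exists_conj h hs hs1 (Additive.toMul v : Zc Q).2 fun e =>
      hv (congrArg Additive.ofMul (Subtype.ext e : (Additive.toMul v : Zc Q) = 1))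
    exact ⟨⟨k, hk⟩, congrArg Additive.ofMul (Subtype.ext e)⟩
  have hsurj : Function.Surjective ev := fun v => by
    by_cases hv : v = 0
    · exact ⟨0, hv.symm⟩
    · obtain ⟨k, hk⟩ := hmove v hv
      exact ⟨⟨_, hgen k⟩, hk⟩
  have hinj : Function.Injective ev := by
    refine (injective_iff_map_eq_zero ev).2 fun r hr => Subtype.ext (AddMonoidHom.ext fun x => ?_)
    obtain ⟨r', rfl⟩ := hsurj x
    show ((r : AddMonoid.End (Additive (Zc Q))) * r') v₀ = 0
    rw [← Subring.coe_mul, mul_comm, Subring.coe_mul]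
    show (r' : AddMonoid.End (Additive (Zc Q))) (ev r) = 0
    rw [hr, map_zero]
  haveI : Finite S := Finite.of_injective ev hinj
  have hv₀ : v₀ ≠ 0 := fun e => hs1 (congrArg Subtype.val (congrArg Additive.toMul e))
  have hgen0 : ∀ k, (⟨_, hgen k⟩ : S) ≠ 0 := fun k e => hv₀ (by
    have h1 : (act k⁻¹ * act k) v₀ = 0 := by
      show act k⁻¹ (act k v₀) = 0
      rw [show act k v₀ = 0 from congrArg (fun r : S => (r : AddMonoid.End (Additive (Zc Q))) v₀) e, map_zero]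
    rwa [← map_mul, inv_mul_cancel, map_one] at h1)
  haveI : NoZeroDivisors S := ⟨fun {r r'} e => or_iff_not_imp_right.2 fun hr' => by
    obtain ⟨k, hk⟩ := hmove (ev r') fun e' => hr' (hinj (e'.trans (map_zero ev).symm))
    have e1 : r' = ⟨_, hgen k⟩ := hinj hk.symm
    rw [e1, mul_comm] at e
    refine hinj ?_
    rw [map_zero]
    have e2 : (act k⁻¹ * (act k * (r : AddMonoid.End (Additive (Zc Q))))) v₀ = 0 := by
      show act k⁻¹ ((act k * (r : AddMonoid.End (Additive (Zc Q)))) v₀) = 0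
      rw [show (act k * (r : AddMonoid.End (Additive (Zc Q)))) v₀ = 0 from
        congrArg (fun r : S => (r : AddMonoid.End (Additive (Zc Q))) v₀) e, map_zero]
    rwa [← mul_assoc, ← map_mul, inv_mul_cancel, map_one, one_mul] at e2⟩
  haveI : Nontrivial S := ⟨⟨0, ⟨_, hgen 1⟩, fun e => hgen0 1 e.symm⟩⟩
  haveI : IsDomain S := NoZeroDivisors.to_isDomain _
  haveI : Fintype S := Fintype.ofFinite S
  letI : Field S := Fintype.fieldOfDomain S
  have hcardS : Nat.card S = 2 ^ n := by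
    rw [Nat.card_eq_of_bijective ev ⟨hinj, hsurj⟩, ← card_Zc h]
    exact Nat.card_congr Additive.toMul
  -- the large field
  have h2n : 2 * n ≠ 0 := by linarith [h.two_le]
  let F := GaloisField 2 (2 * n)
  letI : Fintype F := Fintype.ofFinite F
  have hF : Fintype.card F = (2 ^ n) ^ 2 := by
    rw [← Nat.card_eq_fintype_card, GaloisField.card 2 _ h2n, ← pow_mul, mul_comm]
  let F₀ : Subfield F := (RingHom.id F).eqLocusField (iterateFrobenius F 2 n)
  have hF₀ : ∀ x : F, x ∈ F₀ ↔ x ^ (2 ^ n) = x := fun x => eq_comm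
  letI : Fintype F₀ := Fintype.ofFinite _
  have hcard : Fintype.card S = Fintype.card F₀ := by
    rw [← Nat.card_eq_fintype_card, ← Nat.card_eq_fintype_card, hcardS]
    exact ((Nat.card_congr (Equiv.subtypeEquivRight hF₀)).trans
      (SylowPSUThree.card_fixed hF)).symm
  let ε : S ≃+* F₀ := FiniteField.ringEquivOfCardEq hcard
  let ζ : F → G := fun x => if hx : x ^ (2 ^ n) = x then
    ((Additive.toMul (ev (ε.symm ⟨x, (hF₀ x).2 hx⟩)) : Zc Q) : G) else 1
  have hζ : ∀ (x : F₀), ζ x = ((Additive.toMul (ev (ε.symm x)) : Zc Q) : G) := fun x => by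
    simp only [ζ, dif_pos ((hF₀ (x : F)).1 x.2)]
  have hlift : ∀ x : F, x ^ (2 ^ n) = x → ∃ y : F₀, (y : F) = x := fun x hx =>
    ⟨⟨x, (hF₀ x).2 hx⟩, rfl⟩
  have hζadd : ∀ x y : F₀, ζ (x + y) = ζ x * ζ y := fun x y => by
    rw [← Subfield.coe_add, hζ, hζ, hζ, map_add, map_add]; rfl
  have hζinj : ∀ x y : F₀, ζ x = ζ y → x = y := fun x y e => by
    rw [hζ, hζ] at e
    exact ε.symm.injective (hinj (congrArg Additive.ofMul (Subtype.ext e :
      (Additive.toMul (ev (ε.symm x)) : Zc Q) = Additive.toMul (ev (ε.symm y)))))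
  have hζ1 : ζ (1 : F) = s := by
    have := hζ 1
    rw [map_one] at this
    exact this.trans rfl
  let lam : Kc a t → F₀ := fun k => ε ⟨_, hgen k⟩
  have hlam : ∀ (k : Kc a t) (y : F₀), (k : G) * ζ y * (k : G)⁻¹ = ζ ((lam k * y : F₀) : F) :=
    fun k y => by
    rw [hζ, hζ, map_mul, show ε.symm (lam k) = ⟨_, hgen k⟩ from ε.symm_apply_apply _]
    rfl
  have hlamsurj : ∀ y : F₀, y ≠ 0 → ∃ k, lam k = y := fun y hy => by
    obtain ⟨k, hk⟩ := hmove (ev (ε.symm y)) fun e => hy (ε.symm.injective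
      ((hinj (e.trans (map_zero ev).symm)).trans (map_zero ε.symm).symm))
    exact ⟨k, by rw [show lam k = ε ⟨_, hgen k⟩ from rfl,
      show (⟨_, hgen k⟩ : S) = ε.symm y from hinj hk, RingEquiv.apply_symm_apply]⟩
  have hlaminj : Function.Injective lam := fun k k' e => by
    have e1 : act k v₀ = act k' v₀ := congrArg (fun r : S => ev r) (ε.injective e)
    refine Subtype.ext (K_conj_injective h.setup ((mem_involutions_iff h).2 ⟨hs, hs1⟩)
      ((mem_Kc h).1 k.2) ((mem_Kc h).1 k'.2) ?_)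
    exact congrArg Subtype.val (congrArg Additive.toMul e1)
  have hlammul : ∀ k k', lam (k * k') = lam k * lam k' := fun k k' => by
    rw [← map_mul ε]
    exact congrArg ε (Subtype.ext (map_mul act k k'))
  have hκ : ∀ x : F, ∃ k : Kc a t, x ≠ 0 → x ^ (2 ^ n) = x → (lam k : F) = x ^ 2 := fun x => by
    by_cases hx : x ≠ 0 ∧ x ^ (2 ^ n) = x
    · obtain ⟨y, rfl⟩ := hlift x hx.2
      obtain ⟨k, hk⟩ := hlamsurj (y ^ 2) (pow_ne_zero _ fun e => hx.1 (by rw [e]; rfl))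
      exact ⟨k, fun _ _ => by rw [hk]; rfl⟩
    · exact ⟨1, fun h1 h2 => absurd ⟨h1, h2⟩ hx⟩
  choose κ hκ using hκ
  refine ⟨F, inferInstance, inferInstance, inferInstance, ζ, fun x => (κ x : G), hF,
    { ζ_mem := fun z hz => ?_
      ζ_add := fun y z hy hz => ?_
      ζ_inj := fun y z hy hz e => ?_
      ζ_surj := fun x hx => ?_
      κ_mem := fun e _ _ => (κ e).2
      κ_mul := fun d e hd hd' he he' => ?_
      κ_surj := fun k hk => ?_
      conj := fun e z he he' hz => ?_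
      swap := fun z hz hz' => ?_ }⟩
  · obtain ⟨y, rfl⟩ := hlift z hz
    rw [hζ]
    exact (Additive.toMul (ev (ε.symm y)) : Zc Q).2
  · obtain ⟨y, rfl⟩ := hlift y hy
    obtain ⟨z, rfl⟩ := hlift z hz
    exact hζadd y z
  · obtain ⟨y, rfl⟩ := hlift y hy
    obtain ⟨z, rfl⟩ := hlift z hz
    rw [hζinj y z e]
  · obtain ⟨r, hr⟩ := hsurj (Additive.ofMul ⟨x, hx⟩)
    refine ⟨ε r, (hF₀ _).1 (ε r).2, ?_⟩
    rw [hζ, RingEquiv.symm_apply_apply, hr]
    rfl
  · refine congrArg Subtype.val (hlaminj (Subtype.ext ?_) : κ (d * e) = κ d * κ e)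
    rw [hlammul, Subfield.coe_mul, hκ _ (mul_ne_zero hd he) (by rw [mul_pow, hd', he']),
      hκ _ hd hd', hκ _ he he', mul_pow]
  · obtain ⟨e, he⟩ := isSquare_iff_exists_sq _ |>.1
      (FiniteField.isSquare_of_char_two (F := F₀) (ringChar.eq F₀ 2) (lam ⟨k, hk⟩))
    have he0 : e ≠ 0 := by
      rintro rfl
      rw [zero_pow two_ne_zero] at he
      exact hgen0 ⟨k, hk⟩ (ε.injective (he.trans (map_zero ε).symm))
    have he0' : (e : F) ≠ 0 := fun e' => he0 (Subtype.ext e')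
    refine ⟨e, he0', (hF₀ _).1 e.2, congrArg Subtype.val
      (hlaminj (Subtype.ext ?_) : κ (e : F) = ⟨k, hk⟩)⟩
    rw [hκ _ he0' ((hF₀ _).1 e.2), he]
    rfl
  · obtain ⟨z, rfl⟩ := hlift z hz
    show (κ e : G) * ζ z * (κ e : G)⁻¹ = _
    rw [hlam, Subfield.coe_mul, hκ e he he']
  · show t * ζ z * t = ζ z⁻¹ * (κ z⁻¹ : G) * t * ζ z⁻¹
    obtain ⟨y, rfl⟩ := hlift z hz'
    have hy : y ≠ 0 := fun e => hz (by rw [e]; rfl)
    obtain ⟨u, hu⟩ := isSquare_iff_exists_sq _ |>.1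
      (FiniteField.isSquare_of_char_two (F := F₀) (ringChar.eq F₀ 2) y)
    have hu0 : (u : F) ≠ 0 := fun e' => hy (by
      rw [hu, show u = 0 from Subtype.ext e', zero_pow two_ne_zero])
    have hu2 := (hF₀ _).1 u.2
    set k := κ (u : F) with hk
    have hkval : (lam k : F) = (u : F) ^ 2 := hκ _ hu0 hu2
    have hky : ζ (y : F) = (k : G) * s * (k : G)⁻¹ := by
      rw [← hζ1]
      have := hlam k 1
      rw [mul_one, hkval, show ((1 : F₀) : F) = 1 from rfl] at this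
      rw [this, hu]; rfl
    have hki : ((y : F))⁻¹ = ((lam k⁻¹ : F₀) : F) := by
      have e1 : lam k⁻¹ * lam k = 1 := by
        rw [← hlammul, inv_mul_cancel, ← map_one ε]
        exact congrArg ε (Subtype.ext (map_one act))
      have e2 := congrArg Subtype.val e1
      rw [Subfield.coe_mul, hkval, show (u : F) ^ 2 = (y : F) by rw [hu]; rfl] at e2
      exact (eq_inv_of_mul_eq_one_left e2).symm
    have hyi : ζ ((y : F))⁻¹ = (k : G)⁻¹ * s * k := by
      rw [← hζ1, hki]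
      have := hlam k⁻¹ 1
      rw [mul_one, show ((1 : F₀) : F) = 1 from rfl] at this
      rw [← this]
      simp
    have hkk : κ ((y : F))⁻¹ = k⁻¹ * k⁻¹ := by
      refine hlaminj (Subtype.ext ?_)
      rw [hκ _ (inv_ne_zero hz) (by rw [inv_pow, hz']), hlammul, Subfield.coe_mul, ← hki, sq]
    have ht1 : t * (k : G) = (k : G)⁻¹ * t := by
      rw [← Kc_t h k.2, mul_assoc _ t t, h.setup.mul_self, mul_one]
    rw [hyi, hkk, hky, Subgroup.coe_mul, InvMemClass.coe_inv]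
    calc t * ((k : G) * s * (k : G)⁻¹) * t = (t * k) * s * ((k : G)⁻¹ * t) := by group
      _ = ((k : G)⁻¹ * t) * s * (t * k) := by rw [ht1]
      _ = (k : G)⁻¹ * (t * s * t) * k := by group
      _ = (k : G)⁻¹ * (s * t * s) * k := by rw [hst]
      _ = (k : G)⁻¹ * s * k * ((k : G)⁻¹ * (t * k)) * ((k : G)⁻¹ * s * k) := by group
      _ = _ := by rw [ht1]; group

end Cfsg.Agent.Involutions.RankOne.U3
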