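import Cfsg.Agent.Lib.Involutions.RankOne.U3.FormulaBasics

/-!
# The branch `|Q| = q³`, U10/U11: the automorphisms which can occur

An admissible automorphism is `x ↦ x ^ (2 ^ k)` with `k` in a small set of exponents; each of them
accounts for few exceptional elements.
-/

set_option autoImplicit false

namespace Cfsg.Agent.Involutions.RankOne.U3.Fld

open Finset Cfsg.Agent.Involutions.RankOne.U3

/-- The exponents of the admissible automorphisms other than the identity. -/
def expSet (n : ℕ) : Finset ℕ :=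
  (Finset.range (2 * n)).filter fun k => k ≠ 0 ∧ 2 * n ∣ k * ((2 ^ n) ^ 3 + 1)

/-- The number of exceptional elements for one constant. -/
def excBound (n : ℕ) : ℕ := ∑ k ∈ expSet n, 2 ^ Nat.gcd n k

lemma odd_exp (n : ℕ) (hn : n ≠ 0) : Odd ((2 ^ n) ^ 3 + 1) :=
  Even.add_one (Nat.even_pow.mpr ⟨Nat.even_pow.mpr ⟨even_two, hn⟩, by norm_num⟩)

lemma mem_expSet {n k : ℕ} (hn : n ≠ 0) (hk : k ∈ expSet n) :
    2 ∣ k ∧ 0 < k ∧ k < 2 * n ∧ 3 * Nat.gcd n k ≤ n := by
  simp only [expSet, Finset.mem_filter, Finset.mem_range] at hk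
  obtain ⟨hlt, h0, hdvd⟩ := hk
  have ho := odd_exp n hn
  have h2 : 2 ∣ k :=
    (Nat.Coprime.dvd_of_dvd_mul_right (by rwa [Nat.coprime_two_left]) (dvd_trans (dvd_mul_right 2 n) hdvd))
  refine ⟨h2, by omega, hlt, ?_⟩
  obtain ⟨t, ht⟩ := Nat.gcd_dvd_left n k
  obtain ⟨s, hs⟩ := Nat.gcd_dvd_right n k
  have hg : 0 < Nat.gcd n k := Nat.gcd_pos_of_pos_left _ (Nat.pos_of_ne_zero hn)
  rcases (show t = 0 ∨ t = 1 ∨ t = 2 ∨ 3 ≤ t by omega) with rfl | rfl | rfl | h3
  · simp at ht; omega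
  · exfalso
    rw [mul_one] at ht
    have hnk : n ∣ k := ht ▸ Nat.gcd_dvd_right n k
    obtain ⟨c, rfl⟩ := hnk
    have : c = 1 := by nlinarith [Nat.pos_of_ne_zero hn, Nat.pos_of_ne_zero (right_ne_zero_of_mul h0)]
    subst this
    rw [mul_one, mul_comm 2 n] at hdvd
    exact (Nat.not_even_iff_odd.mpr ho) (even_iff_two_dvd.mpr
      (Nat.dvd_of_mul_dvd_mul_left (Nat.pos_of_ne_zero hn) hdvd))
  · exfalso
    have h4 : Nat.gcd n k * 4 ∣ Nat.gcd n k * (s * ((2 ^ n) ^ 3 + 1)) := by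
      rw [← mul_assoc, ← hs, show Nat.gcd n k * 4 = 2 * n by omega]; exact hdvd
    have h4' : 4 ∣ s := Nat.Coprime.dvd_of_dvd_mul_right
      (by
        have : Nat.Coprime (2 ^ 2) ((2 ^ n) ^ 3 + 1) :=
          Nat.Coprime.pow_left 2 (by rwa [Nat.coprime_two_left])
        simpa using this)
      (Nat.dvd_of_mul_dvd_mul_left hg h4)
    obtain ⟨r, hr⟩ := h4'
    subst hr
    have : Nat.gcd n k * (4 * r) < 2 * n := by rw [← hs]; exact hlt
    have : Nat.gcd n k * (4 * r) < Nat.gcd n k * 4 := by omega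
    have := Nat.lt_of_mul_lt_mul_left this
    obtain rfl : r = 0 := by omega
    simp at hs; omega
  · calc 3 * Nat.gcd n k ≤ t * Nat.gcd n k := Nat.mul_le_mul_right _ h3
      _ = n := by rw [mul_comm]; exact ht.symm

lemma excBound_le {n : ℕ} (hn : n ≠ 0) : excBound n ≤ (n - 1) * 2 ^ (n / 3) := by
  refine le_trans (Finset.sum_le_card_nsmul _ _ (2 ^ (n / 3)) fun k hk => ?_) ?_
  · have := (mem_expSet hn hk).2.2.2
    exact Nat.pow_le_pow_right (by norm_num) (by omega)
  · rw [smul_eq_mul]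
    refine Nat.mul_le_mul_right _ ?_
    have hsub : expSet n ⊆ (Finset.Ico 1 n).image fun j => 2 * j := by
      intro k hk
      obtain ⟨h2, h0, hlt, -⟩ := mem_expSet hn hk
      obtain ⟨j, rfl⟩ := h2
      exact Finset.mem_image.mpr ⟨j, Finset.mem_Ico.mpr ⟨by omega, by omega⟩, rfl⟩
    exact le_trans (Finset.card_le_card hsub) (le_trans Finset.card_image_le (le_of_eq (Nat.card_Ico 1 n)))

lemma excBound_odd {n : ℕ} (hn : 2 ≤ n) (ho : Odd n) (h3 : n ≠ 3) : 3 * excBound n + 1 < cm n := by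
  have hcm : cm n = (2 ^ n + 1) / 3 := by rw [cm, cd, if_pos ho]
  rw [hcm]
  by_cases hs : n < 14
  · obtain ⟨m, hm⟩ := ho
    have : n = 5 ∨ n = 7 ∨ n = 9 ∨ n = 11 ∨ n = 13 := by omega
    rcases this with rfl | rfl | rfl | rfl | rfl <;> decide
  · have hb := excBound_le (n := n) (by omega)
    have hj : 4 ≤ n / 3 := by omega
    have hp : n - 1 ≤ 2 ^ (n / 3) := by
      have : ∀ j : ℕ, 4 ≤ j → 3 * j + 2 ≤ 2 ^ j := by
        intro j hj
        induction j, hj using Nat.le_induction with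
        | base => norm_num
        | succ m hm ih => rw [pow_succ]; omega
      have := this (n / 3) hj
      omega
    have h1 : excBound n ≤ 2 ^ (n / 3) * 2 ^ (n / 3) := le_trans hb (Nat.mul_le_mul_right _ hp)
    have h2 : 2 ^ (n / 3) * (2 ^ (n / 3) * 2 ^ (n / 3)) ≤ 2 ^ n := by
      rw [← pow_add, ← pow_add]; exact Nat.pow_le_pow_right (by norm_num) (by omega)
    have h4 : 16 ≤ 2 ^ (n / 3) := le_trans (by norm_num) (Nat.pow_le_pow_right (by norm_num) hj)
    have h5 : 16 * (2 ^ (n / 3) * 2 ^ (n / 3)) ≤ 2 ^ n := le_trans (Nat.mul_le_mul_right _ h4) h2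
    have h6 : 256 ≤ 2 ^ (n / 3) * 2 ^ (n / 3) := le_trans (by norm_num) (Nat.mul_le_mul h4 h4)
    omega

lemma excBound_even {n : ℕ} (hn : 2 ≤ n) : excBound n + 2 ≤ 2 ^ n := by
  have hb := excBound_le (n := n) (by omega)
  rcases Nat.eq_zero_or_pos (n / 3) with hj | hj
  · obtain rfl : n = 2 := by omega
    simp at hb ⊢; omega
  · have hm : n ≤ 2 ^ (n - n / 3) := by
      have h : 2 * (n - n / 3) ≤ 2 ^ (n - n / 3) := by
        have : ∀ m : ℕ, 1 ≤ m → 2 * m ≤ 2 ^ m := by
          intro m hm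
          induction m, hm using Nat.le_induction with
          | base => norm_num
          | succ m hm ih => rw [pow_succ]; omega
        exact this _ (by omega)
      omega
    have h1 : n * 2 ^ (n / 3) ≤ 2 ^ n := by
      refine le_trans (Nat.mul_le_mul_right _ hm) (le_of_eq ?_)
      rw [← pow_add]; congr 1; omega
    have h2 : (n - 1) * 2 ^ (n / 3) + 2 ^ (n / 3) = n * 2 ^ (n / 3) := by
      rw [← Nat.succ_mul]; congr 1; omega
    have h3 : 2 ≤ 2 ^ (n / 3) := le_trans (by norm_num) (Nat.pow_le_pow_right (by norm_num) hj)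
    omega

variable {F : Type*} [Field F] [Fintype F] [CharP F 2] {n : ℕ}

lemma pow_two_pow_gcd {x : F} {i j : ℕ} (hi : x ^ (2 ^ i) = x) (hj : x ^ (2 ^ j) = x) :
    x ^ (2 ^ Nat.gcd i j) = x := by
  have key : ∀ m : ℕ, (fun y : F => y ^ 2)^[m] x = x ^ (2 ^ m) := fun m => by rw [pow_iterate]
  have h := Function.IsPeriodicPt.gcd (f := fun y : F => y ^ 2) (x := x) (m := i) (n := j)
    (by unfold Function.IsPeriodicPt Function.IsFixedPt; rw [key, hi])
    (by unfold Function.IsPeriodicPt Function.IsFixedPt; rw [key, hj])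
  unfold Function.IsPeriodicPt Function.IsFixedPt at h
  rwa [key] at h

lemma card_fixed_le [DecidableEq F] {g : ℕ} (hg : 0 < g) :
    (univ.filter fun x : F => x ^ (2 ^ g) = x).card ≤ 2 ^ g := by
  have h1 : 2 ≤ 2 ^ g := le_trans (by norm_num) (Nat.pow_le_pow_right (show 2 > 0 by norm_num) hg)
  have hsub : (univ.filter fun x : F => x ^ (2 ^ g) = x) ⊆
      insert 0 (Polynomial.nthRoots (2 ^ g - 1) (1 : F)).toFinset := by
    intro x hx
    simp only [Finset.mem_filter, Finset.mem_univ, true_and] at hx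
    rw [Finset.mem_insert, Multiset.mem_toFinset, Polynomial.mem_nthRoots (by omega)]
    by_cases h0 : x = 0
    · exact Or.inl h0
    · refine Or.inr (mul_right_cancel₀ h0 ?_)
      rw [← pow_succ, Nat.sub_add_cancel (by omega), hx, one_mul]
  refine le_trans (Finset.card_le_card hsub) (le_trans (Finset.card_insert_le _ _) ?_)
  have := le_trans (Multiset.toFinset_card_le _) (Polynomial.card_nthRoots (2 ^ g - 1) (1 : F))
  omega

variable (hn : 2 ≤ n) (hc : Fintype.card F = (2 ^ n) ^ 2)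

include hn hc

/-- Every automorphism is a power of the squaring map. -/
lemma exists_exponent (σ : RingAut F) : ∃ k, k < 2 * n ∧ ∀ x : F, σ x = x ^ (2 ^ k) := by
  letI : Algebra (ZMod 2) F := ZMod.algebra F 2
  haveI : Fact (Nat.Prime 2) := ⟨Nat.prime_two⟩
  have hfin : Module.finrank (ZMod 2) F = 2 * n := by
    have h := Module.natCard_eq_pow_finrank (K := ZMod 2) (V := F)
    rw [Nat.card_eq_fintype_card, hc, Nat.card_zmod, ← pow_mul, mul_comm n 2] at h
    exact (Nat.pow_right_injective le_rfl h).symm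
  let σ' : F ≃ₐ[ZMod 2] F := AlgEquiv.ofRingEquiv (f := (σ : F ≃+* F))
    (fun c => RingHom.congr_fun
      (RingHom.ext_zmod ((σ : F ≃+* F).toRingHom.comp (algebraMap (ZMod 2) F)) (algebraMap (ZMod 2) F)) c)
  obtain ⟨k, hk⟩ := (FiniteField.bijective_frobeniusAlgEquivOfAlgebraic_pow (ZMod 2) F).2 σ'
  refine ⟨(k : ℕ), hfin ▸ k.isLt, fun x => ?_⟩
  have key : ∀ (m : ℕ) (y : F),
      (FiniteField.frobeniusAlgEquivOfAlgebraic (ZMod 2) F ^ m) y = y ^ (2 ^ m) := by
    intro m
    induction m with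
    | zero => intro y; simp
    | succ m ih =>
      intro y
      rw [pow_succ', AlgEquiv.mul_apply, ih]
      rw [show ∀ z : F, FiniteField.frobeniusAlgEquivOfAlgebraic (ZMod 2) F z = z ^ Fintype.card (ZMod 2)
        from fun z => rfl, ZMod.card, ← pow_mul, ← pow_succ]
  show σ' x = _
  rw [← hk]
  exact key _ x

/-- An admissible automorphism other than the identity has its exponent in `expSet`. -/
lemma exists_exponent_mem {σ : RingAut F} (hσ : σ ^ ((2 ^ n) ^ 3 + 1) = 1) (h1 : σ ≠ 1) :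
    ∃ k ∈ expSet n, ∀ x : F, σ x = x ^ (2 ^ k) := by
  classical
  obtain ⟨k, hk, hx⟩ := exists_exponent hn hc σ
  refine ⟨k, ?_, hx⟩
  have hk0 : k ≠ 0 := by
    rintro rfl
    refine h1 (RingEquiv.ext fun x => ?_)
    rw [hx x]; simp
  have hpow : ∀ (m : ℕ) (x : F), (σ ^ m) x = x ^ (2 ^ (k * m)) := by
    intro m
    induction m with
    | zero => intro x; simp
    | succ m ih =>
      intro x
      rw [pow_succ', RingAut.mul_apply, ih, hx, ← pow_mul, ← pow_add, Nat.mul_succ]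
  simp only [expSet, Finset.mem_filter, Finset.mem_range]
  refine ⟨hk, hk0, ?_⟩
  have hall : ∀ x : F, x ^ (2 ^ Nat.gcd (2 * n) (k * ((2 ^ n) ^ 3 + 1))) = x := by
    intro x
    refine pow_two_pow_gcd ?_ ?_
    · rw [pow_mul' 2 2 n, ← hc]; exact FiniteField.pow_card x
    · rw [← hpow, hσ]; rfl
  have hg : 0 < Nat.gcd (2 * n) (k * ((2 ^ n) ^ 3 + 1)) := Nat.gcd_pos_of_pos_left _ (by omega)
  have hcard := card_fixed_le (F := F) hg
  rw [Finset.filter_true_of_mem (fun x _ => hall x), Finset.card_univ, hc, ← pow_mul] at hcard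
  have hle := (Nat.pow_le_pow_iff_right (show 1 < 2 by norm_num)).mp hcard
  have hd := Nat.gcd_dvd_left (2 * n) (k * ((2 ^ n) ^ 3 + 1))
  have : Nat.gcd (2 * n) (k * ((2 ^ n) ^ 3 + 1)) = 2 * n :=
    le_antisymm (Nat.le_of_dvd (by omega) hd) (by omega)
  exact this ▸ Nat.gcd_dvd_right (2 * n) _

omit hn hc in
/-- Two solutions differ by a fixed element. -/
lemma card_sol_le [DecidableEq F] (hn0 : n ≠ 0) (k : ℕ) (T c : F) :
    (univ.filter fun B : F => trc n B = T ∧ B ^ (2 ^ k) + B = c).card ≤ 2 ^ Nat.gcd n k := by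
  rcases Finset.eq_empty_or_nonempty (univ.filter fun B : F => trc n B = T ∧ B ^ (2 ^ k) + B = c) with
    h | ⟨B₀, hB₀⟩
  · rw [h]; simp
  simp only [Finset.mem_filter, Finset.mem_univ, true_and] at hB₀
  refine le_trans ?_ (card_fixed_le (F := F) (Nat.gcd_pos_of_pos_left k (Nat.pos_of_ne_zero hn0)))
  refine Finset.card_le_card_of_injOn (fun B => B + B₀) ?_ ?_
  · intro B hB
    simp only [Finset.coe_filter, Finset.mem_univ, true_and, Set.mem_setOf_eq] at hB ⊢
    refine pow_two_pow_gcd ?_ ?_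
    · rw [← trc_eq_zero_iff, trc_add, hB.1, hB₀.1, CharTwo.add_self_eq_zero]
    · refine CharTwo.add_eq_zero.mp ?_
      rw [add_pow_char_pow]
      linear_combination hB.2 + hB₀.2 + (CharTwo.add_self_eq_zero c)
  · intro B _ C _ h; exact add_right_cancel h

end Cfsg.Agent.Involutions.RankOne.U3.Fld
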