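import Cfsg.Agent.Lib.Involutions.RankOne.U3.Main
import Cfsg.Agent.Lib.Involutions.RankOne.U3.WNeBot
import Cfsg.Agent.Lib.Involutions.RankOne.U3.Coordinates
import Cfsg.Agent.Lib.Involutions.RankOne.U3.Bridge

/-!
# The branch `|Q| = q³`, all pieces but U5–U6
-/

set_option autoImplicit false

namespace Cfsg.Agent.Involutions.RankOne.U3

universe u v

/-- The branch `|Q| = q³`, given U5–U6. -/
theorem exists_psu_of_index (hI : Stmt.Index.{u, v})
    {G : Type u} {Ω : Type v} [Group G] [Finite G] [MulAction G Ω] [FaithfulSMul G Ω] {a : Ω} {t : G}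
    {Q : Subgroup G} {n : ℕ} (hS : Setting G Ω a t Q n) :
    ∃ L : Subgroup G, L.Normal ∧ Odd L.index ∧
      ∃ (F : Type) (_ : Field F) (_ : Fintype F) (n : ℕ), 2 ≤ n ∧ Fintype.card F = (2 ^ n) ^ 2 ∧
        Nonempty (L ≃* Cfsg.PSU 3 F (2 ^ n)) :=
  exists_psu_of w_ne_bot hI (bridge coordinates.{u, 0}) hS

end Cfsg.Agent.Involutions.RankOne.U3
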