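import Cfsg.Agent.Lib.Involutions.RankOne.U3.Defs

/-!
# The branch `|Q| = q³`, U10/U11: arithmetic of the field with `q²` elements

Norms, traces, the classes modulo `InDelta`, and the number of elements of given trace and class.
-/

set_option autoImplicit false

namespace Cfsg.Agent.Involutions.RankOne.U3.Fld

open Finset Cfsg.Agent.Involutions.RankOne.U3

variable {F : Type*} [Field F] {n : ℕ}

/-- `1` for even `n`, `3` for odd `n`. -/
def cd (n : ℕ) : ℕ := if Odd n then 3 else 1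

/-- The number of classes of elements of trace one in a class other than the trivial one. -/
def cm (n : ℕ) : ℕ := (2 ^ n + 1) / cd n

/-- The class of an element modulo `InDelta`. -/
def cls (n : ℕ) (y : F) : F := y ^ ((2 ^ n - 1) * cm n)

/-- The trace to the field with `q` elements. -/
def trc (n : ℕ) (x : F) : F := x + x ^ (2 ^ n)

lemma three_dvd (h : Odd n) : 3 ∣ 2 ^ n + 1 := by
  obtain ⟨k, rfl⟩ := h
  rw [Nat.dvd_iff_mod_eq_zero, Nat.add_mod, pow_add, pow_mul, Nat.mul_mod, Nat.pow_mod]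
  norm_num

lemma cd_mul_cm (n : ℕ) : cd n * cm n = 2 ^ n + 1 := by
  rw [cm, cd]
  split
  · next h => exact Nat.mul_div_cancel' (three_dvd h)
  · simp

lemma cd_pos (n : ℕ) : 0 < cd n := by rw [cd]; split <;> omega

lemma cm_pos (n : ℕ) : 0 < cm n := by
  rcases Nat.eq_zero_or_pos (cm n) with h | h
  · have := cd_mul_cm n
    rw [h] at this; simp at this
  · exact h

lemma sq_sub_one (n : ℕ) : (2 ^ n - 1) * (2 ^ n + 1) = (2 ^ n) ^ 2 - 1 := by
  rw [mul_comm]
  have h := Nat.sq_sub_sq (2 ^ n) 1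
  simpa using h.symm

lemma cd_mul_exp (n : ℕ) : cd n * ((2 ^ n - 1) * cm n) = (2 ^ n) ^ 2 - 1 := by
  rw [← sq_sub_one, ← cd_mul_cm n]; ring

section Fintype

variable [Fintype F] (hn : 2 ≤ n) (hc : Fintype.card F = (2 ^ n) ^ 2)

include hn hc

theorem charTwo : CharP F 2 := by
  obtain ⟨p, hp, k, hpp, hk⟩ := FiniteField.card' F
  rw [hc, ← pow_mul] at hk
  have h2 : (2 : ℕ) ∣ p ^ (k : ℕ) := by
    rw [← hk]; exact dvd_pow_self 2 (by omega)
  have := (Nat.prime_dvd_prime_iff_eq Nat.prime_two hpp).mp (Nat.prime_two.dvd_of_dvd_pow h2)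
  subst this; exact hp

omit hn in
lemma pow_qq (x : F) : (x ^ (2 ^ n)) ^ (2 ^ n) = x := by
  rw [← pow_mul, ← sq, ← hc, FiniteField.pow_card]

omit hn in
lemma pow_top {x : F} (hx : x ≠ 0) : x ^ ((2 ^ n) ^ 2 - 1) = 1 := by
  rw [← hc]; exact FiniteField.pow_card_sub_one_eq_one x hx

/-- The kernel of a power map is the image of the complementary one, and its order is the exponent. -/
lemma pow_kernel [DecidableEq F] {m k : ℕ} (hmk : m * k = (2 ^ n) ^ 2 - 1) :
    (univ.filter fun y : F => y ^ k = 1).card = k ∧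
      ∀ y : F, y ^ k = 1 → ∃ c : F, c ≠ 0 ∧ c ^ m = y := by
  have hq1 : (2 ^ n) ^ 2 - 1 ≠ 0 := by
    have : 4 ≤ 2 ^ n := le_trans (by norm_num) (Nat.pow_le_pow_right (show 2 > 0 by norm_num) hn)
    have : 2 ≤ (2 ^ n) ^ 2 := by nlinarith
    omega
  have hm : 0 < m := Nat.pos_of_ne_zero (by rintro rfl; simp at hmk; omega)
  have hk : 0 < k := Nat.pos_of_ne_zero (by rintro rfl; simp at hmk; omega)
  have hroot : ∀ a : F, ∀ j : ℕ, 0 < j → (univ.filter fun y : F => y ^ j = a).card ≤ j := by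
    intro a j hj
    refine le_trans (Finset.card_le_card (t := (Polynomial.nthRoots j a).toFinset) ?_)
      (le_trans (Multiset.toFinset_card_le _) (Polynomial.card_nthRoots j a))
    intro y hy
    rw [Finset.mem_filter] at hy
    rw [Multiset.mem_toFinset, Polynomial.mem_nthRoots hj]
    exact hy.2
  let U : Finset F := univ.erase 0
  let I : Finset F := U.image fun c => c ^ m
  have hsub : I ⊆ univ.filter fun y : F => y ^ k = 1 := by
    intro y hy
    obtain ⟨c, hcU, rfl⟩ := Finset.mem_image.mp hy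
    rw [Finset.mem_filter]
    exact ⟨Finset.mem_univ _, by rw [← pow_mul, hmk, pow_top hc (Finset.ne_of_mem_erase hcU)]⟩
  have hUI : U.card ≤ m * I.card := by
    refine Finset.card_le_mul_card_image U m fun b _ => ?_
    refine le_trans (Finset.card_le_card ?_) (hroot b m hm)
    intro y hy
    rw [Finset.mem_filter] at hy ⊢
    exact ⟨Finset.mem_univ _, hy.2⟩
  have hUc : U.card = m * k := by
    rw [Finset.card_erase_of_mem (Finset.mem_univ _), Finset.card_univ, hc, hmk]
  have h1 := hroot 1 k hk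
  have h2 := Finset.card_le_card hsub
  have h3 : k ≤ I.card := Nat.le_of_mul_le_mul_left (hUc ▸ hUI) hm
  refine ⟨by omega, fun y hy => ?_⟩
  have he := Finset.eq_of_subset_of_card_le hsub (by omega)
  have hyI : y ∈ I := by rw [he]; simp [hy]
  obtain ⟨c, hcU, hcy⟩ := Finset.mem_image.mp hyI
  exact ⟨c, Finset.ne_of_mem_erase hcU, hcy⟩

omit hn in
lemma cls_pow_cd {y : F} (hy : y ≠ 0) : cls n y ^ cd n = 1 := by
  rw [cls, ← pow_mul, mul_comm, cd_mul_exp, pow_top hc hy]

omit hn hc in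
lemma cls_of_fix {r : F} (h0 : r ≠ 0) (hr : r ^ (2 ^ n) = r) : cls n r = 1 := by
  have h : r ^ (2 ^ n - 1) = 1 := by
    have : r ^ (2 ^ n - 1) * r = 1 * r := by
      rw [← pow_succ, Nat.sub_add_cancel Nat.one_le_two_pow, hr, one_mul]
    exact mul_right_cancel₀ h0 this
  rw [cls, pow_mul, h, one_pow]

lemma inDelta_iff {δ : F} : InDelta n δ ↔ δ ≠ 0 ∧ cls n δ = 1 := by
  classical
  refine ⟨fun ⟨h0, h⟩ => ⟨h0, ?_⟩, fun ⟨h0, h⟩ => ⟨h0, fun ho => ?_⟩⟩
  · rcases Nat.even_or_odd n with he | ho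
    · have h1 : cd n = 1 := by rw [cd, if_neg (Nat.not_odd_iff_even.mpr he)]
      have := cls_pow_cd hc h0
      rwa [h1, pow_one] at this
    · obtain ⟨c, rfl⟩ := h ho
      have hc0 : c ≠ 0 := by rintro rfl; simp at h0
      have := cls_pow_cd hc hc0
      rw [cd, if_pos ho] at this
      rw [cls, ← pow_mul, mul_comm 3, pow_mul]; exact this
  · obtain ⟨c, -, hcd⟩ := (pow_kernel hn hc (cd_mul_exp n)).2 δ h
    exact ⟨c, by rwa [cd, if_pos ho] at hcd⟩

/-- Each class has the same number of elements. -/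
lemma card_cls [DecidableEq F] {ζ : F} (hζ : ζ ^ cd n = 1) :
    (univ.filter fun y : F => y ≠ 0 ∧ cls n y = ζ).card = (2 ^ n - 1) * cm n := by
  obtain ⟨g, hg0, hg⟩ := (pow_kernel hn hc (by rw [mul_comm]; exact cd_mul_exp n)).2 ζ hζ
  have h1 := (pow_kernel hn hc (cd_mul_exp n)).1
  refine Eq.trans ?_ h1
  have hz0 : (0 : F) ^ ((2 ^ n - 1) * cm n) = 0 := by
    refine zero_pow (Nat.mul_ne_zero ?_ (cm_pos n).ne')
    have : 4 ≤ 2 ^ n := le_trans (by norm_num) (Nat.pow_le_pow_right (show 2 > 0 by norm_num) hn)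
    omega
  have hζ0 : ζ ≠ 0 := by
    rintro rfl; rw [zero_pow (cd_pos n).ne'] at hζ; exact zero_ne_one hζ
  refine Finset.card_bij' (fun y _ => y / g) (fun y _ => y * g) ?_ ?_ ?_ ?_
  · intro y hy
    simp only [Finset.mem_filter, Finset.mem_univ, true_and] at hy ⊢
    rw [div_pow, hg, show y ^ ((2 ^ n - 1) * cm n) = ζ from hy.2, div_self hζ0]
  · intro y hy
    simp only [Finset.mem_filter, Finset.mem_univ, true_and] at hy ⊢
    have hy0 : y ≠ 0 := by rintro rfl; rw [hz0] at hy; exact zero_ne_one hy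
    refine ⟨mul_ne_zero hy0 hg0, ?_⟩
    rw [cls, mul_pow, hy, hg, one_mul]
  · intros; field_simp
  · intros; field_simp

end Fintype

section CharTwo

variable [CharP F 2]

lemma conj_add (x y : F) : (x + y) ^ (2 ^ n) = x ^ (2 ^ n) + y ^ (2 ^ n) :=
  add_pow_char_pow x y 2 n

lemma trc_add (x y : F) : trc n (x + y) = trc n x + trc n y := by
  rw [trc, trc, trc, conj_add]; ring

lemma trc_mul_fix {r : F} (hr : r ^ (2 ^ n) = r) (x : F) : trc n (r * x) = r * trc n x := by
  rw [trc, trc, mul_pow, hr]; ring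

lemma trc_fix {r : F} (hr : r ^ (2 ^ n) = r) : trc n r = 0 := by
  rw [trc, hr, CharTwo.add_self_eq_zero]

lemma trc_eq_zero_iff {x : F} : trc n x = 0 ↔ x ^ (2 ^ n) = x := by
  refine ⟨fun h => ?_, trc_fix⟩
  exact (CharTwo.add_eq_zero.mp h).symm

variable [Fintype F] (hc : Fintype.card F = (2 ^ n) ^ 2)

include hc

lemma trc_real (x : F) : trc n x ^ (2 ^ n) = trc n x := by
  rw [trc, conj_add, pow_qq hc, add_comm]

lemma normForm_real (x : F) : normForm n x ^ (2 ^ n) = normForm n x := by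
  rw [normForm, pow_succ, mul_pow, pow_qq hc, mul_comm]

omit hc [CharP F 2] in
lemma normForm_eq (x : F) : normForm n x = x * x ^ (2 ^ n) := by rw [normForm, pow_succ']

variable (hn : 2 ≤ n)

include hn

/-- Counting the elements of a given trace with a property invariant under real scalars. -/
lemma card_fib_prop [DecidableEq F] {T : F} (hT : T ≠ 0) (hTr : T ^ (2 ^ n) = T)
    (p : F → Prop) [DecidablePred p]
    (hp : ∀ r y : F, r ≠ 0 → r ^ (2 ^ n) = r → (p (r * y) ↔ p y)) :
    (univ.filter fun y : F => y ≠ 0 ∧ p y).card =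
      (univ.filter fun B : F => trc n B = T ∧ p B).card * (2 ^ n - 1) +
        (univ.filter fun r : F => r ^ (2 ^ n - 1) = 1 ∧ p r).card := by
  have hK : (univ.filter fun r : F => r ^ (2 ^ n - 1) = 1).card = 2 ^ n - 1 :=
    (pow_kernel hn hc (m := 2 ^ n + 1) (by rw [mul_comm, sq_sub_one])).1
  have hq : 2 ^ n - 1 ≠ 0 := by
    have : 4 ≤ 2 ^ n := le_trans (by norm_num) (Nat.pow_le_pow_right (show 2 > 0 by norm_num) hn)
    omega
  have hK0 : ∀ r : F, r ^ (2 ^ n - 1) = 1 → r ≠ 0 ∧ r ^ (2 ^ n) = r := by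
    intro r hr
    refine ⟨by rintro rfl; rw [zero_pow hq] at hr; exact zero_ne_one hr, ?_⟩
    rw [show 2 ^ n = (2 ^ n - 1) + 1 from (Nat.sub_add_cancel Nat.one_le_two_pow).symm, pow_succ, hr,
      one_mul]
  have hK1 : ∀ r : F, r ≠ 0 → r ^ (2 ^ n) = r → r ^ (2 ^ n - 1) = 1 := by
    intro r h0 hr
    have : r ^ (2 ^ n - 1) * r = 1 * r := by
      rw [← pow_succ, Nat.sub_add_cancel Nat.one_le_two_pow, hr, one_mul]
    exact mul_right_cancel₀ h0 this
  set Y := univ.filter fun y : F => y ≠ 0 ∧ p y with hY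
  rw [← Finset.card_filter_add_card_filter_not (s := Y) (fun y => trc n y ≠ 0)]
  congr 1
  · rw [← hK, ← Finset.card_product]
    refine Finset.card_bij' (fun y _ => (y * T / trc n y, trc n y / T)) (fun x _ => x.2 * x.1)
      ?_ ?_ ?_ ?_
    · intro y hy
      simp only [hY, Finset.mem_filter, Finset.mem_univ, true_and, Finset.mem_product] at hy ⊢
      have ht := trc_real hc y
      have hr : (T / trc n y) ^ (2 ^ n) = T / trc n y := by rw [div_pow, hTr, ht]
      have hr' : (trc n y / T) ^ (2 ^ n) = trc n y / T := by rw [div_pow, hTr, ht]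
      rw [show y * T / trc n y = (T / trc n y) * y by ring]
      refine ⟨⟨?_, (hp _ _ (div_ne_zero hT hy.2) hr).mpr hy.1.2⟩, hK1 _ (div_ne_zero hy.2 hT) hr'⟩
      rw [trc_mul_fix hr, div_mul_cancel₀ _ hy.2]
    · intro x hx
      simp only [hY, Finset.mem_filter, Finset.mem_univ, true_and, Finset.mem_product] at hx ⊢
      obtain ⟨h0, hf⟩ := hK0 _ hx.2
      have hB : x.1 ≠ 0 := by
        intro h; rw [h, trc] at hx
        rw [zero_pow (Nat.two_pow_pos n).ne', add_zero] at hx
        exact hT hx.1.1.symm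
      refine ⟨⟨mul_ne_zero h0 hB, (hp _ _ h0 hf).mpr hx.1.2⟩, ?_⟩
      rw [trc_mul_fix hf, hx.1.1]
      exact mul_ne_zero h0 hT
    · intro y hy
      simp only [hY, Finset.mem_filter, Finset.mem_univ, true_and] at hy
      field_simp [hy.2, hT]
    · intro x hx
      simp only [Finset.mem_filter, Finset.mem_univ, true_and, Finset.mem_product] at hx
      obtain ⟨h0, hf⟩ := hK0 _ hx.2
      ext
      · simp only [trc_mul_fix hf, hx.1.1]; field_simp [h0, hT]
      · simp only [trc_mul_fix hf, hx.1.1]; field_simp [h0, hT]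
  · congr 1
    ext r
    simp only [hY, Finset.mem_filter, Finset.mem_univ, true_and, not_not, trc_eq_zero_iff]
    exact ⟨fun h => ⟨hK1 r h.1.1 h.2, h.1.2⟩, fun h => ⟨⟨(hK0 r h.1).1, h.2⟩, (hK0 r h.1).2⟩⟩

/-- The number of elements of given trace. -/
lemma card_fib [DecidableEq F] {T : F} (hT : T ≠ 0) (hTr : T ^ (2 ^ n) = T) :
    (univ.filter fun B : F => trc n B = T).card = 2 ^ n := by
  have h := card_fib_prop hc hn hT hTr (fun _ => True) (fun _ _ _ _ => Iff.rfl)
  have hK : (univ.filter fun r : F => r ^ (2 ^ n - 1) = 1).card = 2 ^ n - 1 :=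
    (pow_kernel hn hc (m := 2 ^ n + 1) (by rw [mul_comm, sq_sub_one])).1
  simp only [and_true, hK, Finset.filter_ne', Finset.card_erase_of_mem (Finset.mem_univ (0 : F)),
    Finset.card_univ, hc] at h
  rw [← sq_sub_one, mul_comm _ (2 ^ n + 1)] at h
  have hq : 0 < 2 ^ n - 1 := by
    have : 4 ≤ 2 ^ n := le_trans (by norm_num) (Nat.pow_le_pow_right (show 2 > 0 by norm_num) hn)
    omega
  have h' : (2 ^ n + 1) * (2 ^ n - 1) =
      ((univ.filter fun B : F => trc n B = T).card + 1) * (2 ^ n - 1) := by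
    rw [h]; ring
  have := Nat.eq_of_mul_eq_mul_right hq h'
  omega

/-- The number of elements of given trace and given class. -/
lemma card_fib_cls [DecidableEq F] {T : F} (hT : T ≠ 0) (hTr : T ^ (2 ^ n) = T) {ζ : F}
    (hζ : ζ ^ cd n = 1) :
    (univ.filter fun B : F => trc n B = T ∧ cls n B = ζ).card + (if ζ = 1 then 1 else 0) = cm n := by
  have hq : 2 ^ n - 1 ≠ 0 := by
    have : 4 ≤ 2 ^ n := le_trans (by norm_num) (Nat.pow_le_pow_right (show 2 > 0 by norm_num) hn)
    omega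
  have h := card_fib_prop hc hn hT hTr (fun y => cls n y = ζ) (by
    intro r y h0 hr
    show cls n (r * y) = ζ ↔ cls n y = ζ
    rw [show cls n (r * y) = cls n r * cls n y from mul_pow r y _, cls_of_fix h0 hr, one_mul])
  rw [card_cls hn hc hζ] at h
  have hK : (univ.filter fun r : F => r ^ (2 ^ n - 1) = 1).card = 2 ^ n - 1 :=
    (pow_kernel hn hc (m := 2 ^ n + 1) (by rw [mul_comm, sq_sub_one])).1
  have hcl : ∀ r : F, r ^ (2 ^ n - 1) = 1 → cls n r = 1 := by
    intro r hr; rw [cls, pow_mul, hr, one_pow]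
  refine Nat.eq_of_mul_eq_mul_right (Nat.pos_of_ne_zero hq) ?_
  split
  · next h1 =>
    subst h1
    have : (univ.filter fun r : F => r ^ (2 ^ n - 1) = 1 ∧ cls n r = 1) =
        univ.filter fun r : F => r ^ (2 ^ n - 1) = 1 :=
      Finset.filter_congr fun r _ => ⟨And.left, fun h => ⟨h, hcl r h⟩⟩
    rw [this, hK] at h
    rw [mul_comm (cm n), h]; ring
  · next h1 =>
    have : (univ.filter fun r : F => r ^ (2 ^ n - 1) = 1 ∧ cls n r = ζ) = ∅ :=
      Finset.filter_eq_empty_iff.mpr fun r _ hr => h1 (hr.2.symm.trans (hcl r hr.1))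
    rw [this, Finset.card_empty] at h
    rw [mul_comm (cm n), h]; ring

end CharTwo

end Cfsg.Agent.Involutions.RankOne.U3.Fld
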