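import Cfsg.Agent.Lib.Involutions.RankOne.U3.FormulaAut

/-!
# The branch `|Q| = q³`, U10: the constants of the classes are one
-/

set_option autoImplicit false

namespace Cfsg.Agent.Involutions.RankOne.U3.Fld

open Finset Cfsg.Agent.Involutions.RankOne.U3

variable {F : Type*} [Field F] {n : ℕ}

/-- The constant of the class of `x`. -/
def nu (n : ℕ) (P : F ≃ F) (x : F) : F := normForm n (P.symm x) * normForm n x

lemma normForm_mul (x y : F) : normForm n (x * y) = normForm n x * normForm n y := mul_pow x y _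

lemma normForm_inv (x : F) : normForm n x⁻¹ = (normForm n x)⁻¹ := inv_pow x _

lemma normForm_ne {x : F} (hx : x ≠ 0) : normForm n x ≠ 0 := pow_ne_zero _ hx

lemma normForm_fix {r : F} (hr : r ^ (2 ^ n) = r) : normForm n r = r * r := by
  rw [normForm, pow_succ, hr]

lemma cls_mul (x y : F) : cls n (x * y) = cls n x * cls n y := mul_pow x y _

lemma cls_ne {x : F} (hx : x ≠ 0) : cls n x ≠ 0 := pow_ne_zero _ hx

lemma cls_div (x y : F) : cls n (x / y) = cls n x / cls n y := div_pow x y _

section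

variable [Fintype F] [CharP F 2] (hn : 2 ≤ n) (hc : Fintype.card F = (2 ^ n) ^ 2)
variable {P : F ≃ F} {R : F → F → RingAut F → F → Prop} (h : Alg n (normForm n) P R)

include h

omit [Fintype F] [CharP F 2] in
lemma P_ne {α : F} (hα : α ≠ 0) : P α ≠ 0 := fun e => hα (P.injective (e.trans h.P_zero.symm))

omit [Fintype F] [CharP F 2] in
lemma symm_ne {x : F} (hx : x ≠ 0) : P.symm x ≠ 0 := fun e => hx (by
  rw [← P.apply_symm_apply x, e, h.P_zero])

omit [Fintype F] [CharP F 2] in
lemma nu_ne {x : F} (hx : x ≠ 0) : nu n P x ≠ 0 :=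
  mul_ne_zero (normForm_ne (symm_ne h hx)) (normForm_ne hx)

omit [Fintype F] [CharP F 2] in
lemma normForm_phi {α B : F} :
    normForm n (phi P α B) * normForm n (B * P α) = nu n P (B * P α) := rfl

include hn hc

/-- Two elements whose images are in one class differ by an element of `InDelta`. -/
lemma exists_delta {α γ : F} (hα : α ≠ 0) (hγ : γ ≠ 0) (he : cls n (P γ) = cls n (P α)) :
    ∃ δ : F, InDelta n δ ∧ γ = δ * α := by
  classical
  set D := univ.filter fun δ : F => δ ≠ 0 ∧ cls n δ = 1 with hD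
  set E := univ.filter fun y : F => y ≠ 0 ∧ cls n y = cls n (P α) with hE
  have hDc : D.card = (2 ^ n - 1) * cm n := card_cls hn hc (one_pow _)
  have hEc : E.card = (2 ^ n - 1) * cm n := card_cls hn hc (cls_pow_cd hc (P_ne h hα))
  have hmap : ∀ δ ∈ D, P (δ * α) ∈ E := by
    intro δ hδ
    simp only [hD, Finset.mem_filter, Finset.mem_univ, true_and] at hδ
    obtain ⟨δ', hδ', e⟩ := h.equivariant δ α ((inDelta_iff hn hc).mpr hδ)
    simp only [hE, Finset.mem_filter, Finset.mem_univ, true_and]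
    exact ⟨P_ne h (mul_ne_zero hδ.1 hα),
      by rw [e, cls_mul, ((inDelta_iff hn hc).mp hδ').2, one_mul]⟩
  have hinj : Set.InjOn (fun δ => P (δ * α)) D := fun x _ y _ e =>
    mul_right_cancel₀ hα (P.injective e)
  have hsurj := Finset.surjOn_of_injOn_of_card_le (fun δ => P (δ * α)) hmap hinj (by omega)
  obtain ⟨δ, hδ, e⟩ := hsurj (show P γ ∈ (E : Set F) by
    simp only [hE, Finset.coe_filter, Finset.mem_univ, true_and, Set.mem_setOf_eq]
    exact ⟨P_ne h hγ, he⟩)
  refine ⟨δ, (inDelta_iff hn hc).mpr ?_, (P.injective e).symm⟩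
  simpa [hD] using hδ

lemma nu_cls {x y : F} (hx : x ≠ 0) (hy : y ≠ 0) (he : cls n x = cls n y) :
    nu n P x = nu n P y := by
  obtain ⟨δ, hδ, e⟩ := exists_delta hn hc h (symm_ne h hy) (symm_ne h hx)
    (by rwa [P.apply_symm_apply, P.apply_symm_apply])
  have h1 := h.invariant δ (P.symm y) hδ
  rw [← e, P.apply_symm_apply, P.apply_symm_apply] at h1
  exact h1

omit hn h in
lemma nu_real (x : F) : nu n P x ^ (2 ^ n) = nu n P x := by
  rw [nu, mul_pow, normForm_real hc, normForm_real hc]

/-- The structure equation on the coordinate `B`, in terms of `p = B · N(P α)`. -/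
lemma equation {α p : F} (hα : α ≠ 0) (hp : trc n p = 1) {σ : RingAut F} {μ : F}
    (hμ : μ ≠ 0) (hμr : μ ^ (2 ^ n) = μ)
    (he : bH (normForm n) P α (p / normForm n (P α)) =
      μ * σ (bG (normForm n) P α (p / normForm n (P α)))) :
    σ (p + 1 + nu n P (P α) + nu n P ((p + nu n P (P α)) * P α)) = p + nu n P (p * P α) := by
  have hone : (1 : F) ^ (2 ^ n) = 1 := one_pow _
  set x := P α with hx
  have hx0 : x ≠ 0 := P_ne h hα
  set M := normForm n x with hM
  have hM0 : M ≠ 0 := normForm_ne hx0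
  have hMr : M ^ (2 ^ n) = M := normForm_real hc x
  set ν0 := nu n P x with hν0
  have hν0r : ν0 ^ (2 ^ n) = ν0 := nu_real hc x
  have hν0' : normForm n α * M = ν0 := by rw [hν0, nu, hx, P.symm_apply_apply]
  have hpc : p ^ (2 ^ n) = p + 1 := by
    have : p + p ^ (2 ^ n) = 1 := hp
    linear_combination this - CharTwo.add_self_eq_zero p
  set p2 := p + ν0 with hp2
  have hp2t : trc n p2 = 1 := by rw [hp2, trc_add, hp, trc_fix hν0r, add_zero]
  have hne : ∀ y : F, trc n y = 1 → y ≠ 0 := fun y hy hy0 => by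
    rw [hy0, trc_fix (zero_pow (Nat.two_pow_pos n).ne')] at hy; exact zero_ne_one hy
  have hp2c : p2 ^ (2 ^ n) = p2 + 1 := by
    rw [hp2, conj_add, hpc, hν0r]; ring
  have hp0 := hne p hp
  have hp20 := hne p2 hp2t
  set n1 := nu n P (p * x) with hn1
  set n2 := nu n P (p2 * x) with hn2
  have hn1r : n1 ^ (2 ^ n) = n1 := nu_real hc _
  have hn2r : n2 ^ (2 ^ n) = n2 := nu_real hc _
  have hnp : normForm n p = p * (p + 1) := by rw [normForm_eq, hpc]
  have hnp2 : normForm n p2 = p2 * (p2 + 1) := by rw [normForm_eq, hp2c]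
  -- norms of the new first coordinates
  have hcl : ∀ y : F, y ≠ 0 → cls n (y / M * x) = cls n (y * x) := fun y hy => by
    rw [cls_mul, cls_div, cls_of_fix hM0 hMr, div_one, ← cls_mul]
  have hA : ∀ y : F, y ≠ 0 →
      normForm n (phi P α (y / M)) = nu n P (y * x) * M / normForm n y := by
    intro y hy
    have h1 := normForm_phi (n := n) h (α := α) (B := y / M)
    rw [← hx, nu_cls hn hc h (mul_ne_zero (div_ne_zero hy hM0) hx0) (mul_ne_zero hy hx0) (hcl y hy),
      normForm_mul, div_eq_mul_inv, normForm_mul, normForm_inv, normForm_fix hMr, ← hM,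
      ← div_eq_mul_inv] at h1
    rw [eq_div_iff (normForm_ne hy)]
    field_simp at h1
    linear_combination h1
  have hp1 : p + 1 ≠ 0 := fun e => by
    rw [← hpc] at e; exact hp0 (eq_zero_of_pow_eq_zero e)
  have hp21 : p2 + 1 ≠ 0 := fun e => by
    rw [← hp2c] at e; exact hp20 (eq_zero_of_pow_eq_zero e)
  have hH : bH (normForm n) P α (p / M) = normForm n p / (M * (p + 1 + n1)) := by
    rw [bH, hA p hp0, ← hn1, inv_div, hnp]
    rw [div_add_div _ _ hp0 (mul_ne_zero hp0 hp1), inv_div]
    have : M * (p * (p + 1)) + p * (n1 * M) = p * (M * (p + 1 + n1)) := by ring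
    rw [this, mul_div_mul_left _ _ hp0]
  have hG : bG (normForm n) P α (p / M) = M * (p2 + 1 + n2) / normForm n p2 := by
    have h1 : p / M + normForm n α = p2 / M := by
      rw [hp2, ← hν0', add_div, mul_div_cancel_right₀ _ hM0]
    rw [bG, aG, h1, hA p2 hp20, ← hn2, inv_div, hnp2]
    field_simp
  rw [hH, hG] at he
  -- compare the two sides
  have hY : trc n (p + n1) = 1 := by rw [trc_add, hp, trc_fix hn1r, add_zero]
  have hX : trc n (p + 1 + ν0 + n2) = 1 := by
    rw [trc_add, trc_add, trc_add, hp, trc_fix hone, trc_fix hν0r, trc_fix hn2r, add_zero, add_zero,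
      add_zero]
  have hYc : (p + n1) ^ (2 ^ n) = p + 1 + n1 := by rw [conj_add, hpc, hn1r]
  set X := σ (p + 1 + ν0 + n2) with hXdef
  have hXt : trc n X = 1 := by rw [hXdef, trc, ← map_pow, ← map_add]; rw [trc] at hX; rw [hX, map_one]
  have hXc : X ^ (2 ^ n) = X + 1 := by
    have : X + X ^ (2 ^ n) = 1 := hXt
    linear_combination this - CharTwo.add_self_eq_zero X
  have hc0 : p + 1 + n1 ≠ 0 := by
    rw [← hYc]; exact pow_ne_zero _ (hne _ hY)
  have hden : σ (normForm n p2) ≠ 0 := fun e =>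
    normForm_ne (n := n) hp20 ((map_eq_zero σ).mp e)
  have hσM : σ M ≠ 0 := fun e => hM0 ((map_eq_zero σ).mp e)
  have hXe : σ (p2 + 1 + n2) = X := by rw [hXdef]; congr 1; rw [hp2]; ring
  rw [map_div₀, map_mul, hXe, ← mul_div_assoc, div_eq_div_iff (mul_ne_zero hM0 hc0) hden] at he
  -- `X * conj Y` is real
  have hR : X * (p + 1 + n1) = normForm n p * σ (normForm n p2) / (μ * σ M * M) := by
    rw [eq_div_iff (mul_ne_zero (mul_ne_zero hμ hσM) hM0)]
    linear_combination -he
  have hσr : ∀ y : F, y ^ (2 ^ n) = y → (σ y) ^ (2 ^ n) = σ y := fun y hy => by rw [← map_pow, hy]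
  have hreal : (X * (p + 1 + n1)) ^ (2 ^ n) = X * (p + 1 + n1) := by
    rw [hR, div_pow, mul_pow, mul_pow, mul_pow, normForm_real hc, hσr _ (normForm_real hc p2), hμr,
      hσr _ hMr, hMr]
  have hYcc : (p + 1 + n1) ^ (2 ^ n) = p + n1 := by rw [← hYc, pow_qq hc]
  rw [mul_pow, hXc, hYcc] at hreal
  linear_combination -hreal

/-- The exceptional elements of trace one for a given value. -/
lemma card_exceptional [DecidableEq F] {α : F} (hα : α ≠ 0) (a : F) (V : Finset F)
    (hV : ∀ y : F, y ≠ 0 → nu n P y ∈ V) :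
    (univ.filter fun p : F => trc n p = 1 ∧ nu n P (p * P α) = a ∧
      nu n P (p * P α) + nu n P ((p + nu n P (P α)) * P α) ≠ 1 + nu n P (P α)).card ≤
      V.card * excBound n := by
  refine le_trans (Finset.card_le_card (t := (V ×ˢ expSet n).biUnion fun bk =>
    univ.filter fun p : F => trc n p = 1 ∧
      p ^ (2 ^ bk.2) + p = (1 + nu n P (P α) + bk.1) ^ (2 ^ bk.2) + a) ?_) ?_
  · intro p hp
    simp only [Finset.mem_filter, Finset.mem_univ, true_and] at hp
    obtain ⟨hp, hpa, hne⟩ := hp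
    have hM0 : normForm n (P α) ≠ 0 := normForm_ne (P_ne h hα)
    have hpt : IsPoint n P α (p / normForm n (P α)) := by
      refine ⟨hα, ?_⟩
      rw [div_pow, normForm_real hc, ← add_div]
      show trc n p / normForm n (P α) = (normForm n (P α))⁻¹
      rw [hp, one_div]
    obtain ⟨σ, μ, ⟨-, hσ, hμ, hμr⟩, ⟨he, -, -⟩, -⟩ := h.step _ _ hpt
    have heq := equation hn hc h hα hp hμ hμr he
    have hp0 : (p + nu n P (P α)) * P α ≠ 0 := by
      refine mul_ne_zero (fun e => ?_) (P_ne h hα)
      have : trc n (p + nu n P (P α)) = 1 := by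
        rw [trc_add, hp, trc_fix (nu_real hc _), add_zero]
      rw [e, trc_fix (zero_pow (Nat.two_pow_pos n).ne')] at this
      exact zero_ne_one this
    by_cases h1 : σ = 1
    · exfalso; apply hne
      subst h1
      rw [RingAut.one_apply] at heq
      linear_combination -heq + CharTwo.add_self_eq_zero (nu n P ((p + nu n P (P α)) * P α))
    · obtain ⟨k, hk, hkx⟩ := exists_exponent_mem hn hc hσ h1
      rw [Finset.mem_biUnion]
      refine ⟨(nu n P ((p + nu n P (P α)) * P α), k), Finset.mem_product.mpr ⟨hV _ hp0, hk⟩, ?_⟩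
      simp only [Finset.mem_filter, Finset.mem_univ, true_and]
      refine ⟨hp, ?_⟩
      rw [hkx, hpa, show p + 1 + nu n P (P α) + nu n P ((p + nu n P (P α)) * P α) =
        p + (1 + nu n P (P α) + nu n P ((p + nu n P (P α)) * P α)) by ring, add_pow_char_pow] at heq
      linear_combination heq + CharTwo.add_self_eq_zero p
        - CharTwo.add_self_eq_zero ((1 + nu n P (P α) + nu n P ((p + nu n P (P α)) * P α)) ^ (2 ^ k))
  · refine le_trans Finset.card_biUnion_le (le_trans (Finset.sum_le_sum fun bk _ =>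
      card_sol_le (n := n) (by omega) bk.2 1 _) (le_of_eq ?_))
    rw [Finset.sum_product]
    show (∑ _x ∈ V, excBound n) = _
    rw [Finset.sum_const, smul_eq_mul]

end

end Cfsg.Agent.Involutions.RankOne.U3.Fld
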