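import Cfsg.Agent.Lib.Involutions.RankOne.U3.FormulaNorm

/-!
# The branch `|Q| = q³`, U10: all the constants are one
-/

set_option autoImplicit false

namespace Cfsg.Agent.Involutions.RankOne.U3.Fld

open Finset Cfsg.Agent.Involutions.RankOne.U3

variable {F : Type*} [Field F] [Fintype F] [CharP F 2] {n : ℕ} (hn : 2 ≤ n)
  (hc : Fintype.card F = (2 ^ n) ^ 2) {P : F ≃ F} {R : F → F → RingAut F → F → Prop}
  (h : Alg n (normForm n) P R)

include hn hc

omit [CharP F 2] in
lemma trc_one_ne {p : F} (hp : trc n p = 1) : p ≠ 0 := by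
  rintro rfl
  rw [trc, zero_pow (Nat.two_pow_pos n).ne', add_zero] at hp
  exact zero_ne_one hp

include h

/-- Every value of a constant occurs often on each fibre. -/
lemma card_value_ge [DecidableEq F] {α y : F} (hα : α ≠ 0) (hy : y ≠ 0) :
    cm n ≤ (univ.filter fun p : F => trc n p = 1 ∧ nu n P (p * P α) = nu n P y).card + 1 := by
  have hone : (1 : F) ^ (2 ^ n) = 1 := one_pow _
  have hζ : (cls n y / cls n (P α)) ^ cd n = 1 := by
    rw [div_pow, cls_pow_cd hc hy, cls_pow_cd hc (P_ne h hα), div_one]
  have h1 := card_fib_cls hc hn one_ne_zero hone hζ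
  have h2 : (univ.filter fun p : F => trc n p = 1 ∧ cls n p = cls n y / cls n (P α)).card ≤
      (univ.filter fun p : F => trc n p = 1 ∧ nu n P (p * P α) = nu n P y).card := by
    refine Finset.card_le_card fun p hp => ?_
    simp only [Finset.mem_filter, Finset.mem_univ, true_and] at hp ⊢
    refine ⟨hp.1, nu_cls hn hc h (mul_ne_zero (trc_one_ne hn hc hp.1) (P_ne h hα)) hy ?_⟩
    rw [cls_mul, hp.2, div_mul_cancel₀ _ (cls_ne (P_ne h hα))]
  split at h1 <;> omega

/-- A class contains an element which is not exceptional. -/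
lemma exists_regular {α y : F} (hα : α ≠ 0) (hy : y ≠ 0) (V : Finset F)
    (hV : ∀ z : F, z ≠ 0 → nu n P z ∈ V) (hb : V.card * excBound n + 1 < cm n) :
    ∃ p : F, trc n p = 1 ∧
      nu n P y + nu n P ((p + nu n P (P α)) * P α) = 1 + nu n P (P α) := by
  classical
  by_contra hcon
  push Not at hcon
  have h1 := card_value_ge hn hc h hα hy
  have h2 := card_exceptional hn hc h hα (nu n P y) V hV
  have h3 : (univ.filter fun p : F => trc n p = 1 ∧ nu n P (p * P α) = nu n P y).card ≤
      (univ.filter fun p : F => trc n p = 1 ∧ nu n P (p * P α) = nu n P y ∧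
        nu n P (p * P α) + nu n P ((p + nu n P (P α)) * P α) ≠ 1 + nu n P (P α)).card := by
    refine Finset.card_le_card fun p hp => ?_
    simp only [Finset.mem_filter, Finset.mem_univ, true_and] at hp ⊢
    exact ⟨hp.1, hp.2, by rw [hp.2]; exact hcon p hp.1⟩
  omega

omit hn h in
lemma shift_ne (x : F) (p : F) (hp : trc n p = 1) (hx : x ^ (2 ^ n) = x) : p + x ≠ 0 := by
  intro e
  have : trc n (p + x) = 1 := by rw [trc_add, hp, trc_fix hx, add_zero]
  rw [e, trc_fix (zero_pow (Nat.two_pow_pos n).ne')] at this
  exact zero_ne_one this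

/-- U10: `N(α) N(P α) = 1`. -/
theorem norm_one (h3 : n = 3 → SmallResult n (normForm n) P) {x : F} (hx : x ≠ 0) :
    nu n P x = 1 := by
  classical
  by_cases hn3 : n = 3
  · have h1 := (h3 hn3).2.1 (P.symm x) (symm_ne h hx)
    rw [P.apply_symm_apply] at h1
    exact h1
  by_contra hne
  obtain ⟨α, rfl⟩ : ∃ α, x = P α := ⟨P.symm x, (P.apply_symm_apply x).symm⟩
  have hα : α ≠ 0 := by rintro rfl; exact hx h.P_zero
  have hνr : nu n P (P α) ^ (2 ^ n) = nu n P (P α) := nu_real hc _
  have hone : (1 : F) ^ (2 ^ n) = 1 := one_pow _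
  set ν := nu n P (P α) with hν
  rcases Nat.even_or_odd n with he | ho
  · -- a single class
    have hcd : cd n = 1 := by rw [cd, if_neg (Nat.not_odd_iff_even.mpr he)]
    have hcl : ∀ y : F, y ≠ 0 → cls n y = 1 := fun y hy => by
      have := cls_pow_cd hc hy; rwa [hcd, pow_one] at this
    have hV : ∀ y : F, y ≠ 0 → nu n P y = ν := fun y hy =>
      nu_cls hn hc h hy hx (by rw [hcl y hy, hcl _ hx])
    have hb := excBound_even hn
    obtain ⟨p, hp, he1⟩ := exists_regular hn hc h hα hx {ν}
      (fun z hz => Finset.mem_singleton.mpr (hV z hz))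
      (by
        rw [Finset.card_singleton, one_mul]
        have := cd_mul_cm n
        rw [hcd, one_mul] at this; omega)
    rw [← hν, hV _ (mul_ne_zero (shift_ne hc ν p hp hνr) hx), CharTwo.add_self_eq_zero] at he1
    exact hne (CharTwo.add_eq_zero.mp he1.symm).symm
  · have hcd : cd n = 3 := by rw [cd, if_pos ho]
    have hb := excBound_odd hn ho hn3
    have hq : 3 * cm n = 2 ^ n + 1 := by rw [← hcd]; exact cd_mul_cm n
    set V : Finset F := (univ.erase 0).image (nu n P) with hVdef
    have hV : ∀ z : F, z ≠ 0 → nu n P z ∈ V := fun z hz =>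
      Finset.mem_image.mpr ⟨z, Finset.mem_erase.mpr ⟨hz, Finset.mem_univ _⟩, rfl⟩
    have hrep : ∀ v ∈ V, ∃ z : F, z ≠ 0 ∧ nu n P z = v := fun v hv => by
      obtain ⟨z, hz, e⟩ := Finset.mem_image.mp hv
      exact ⟨z, Finset.ne_of_mem_erase hz, e⟩
    choose rep hrep0 hrep1 using hrep
    have hV3 : V.card ≤ 3 := by
      rw [← Finset.card_attach]
      refine le_trans (Finset.card_le_card_of_injOn (t := (Polynomial.nthRoots 3 (1 : F)).toFinset)
        (fun v => cls n (rep v.1 v.2)) ?_ ?_)
        (le_trans (Multiset.toFinset_card_le _) (Polynomial.card_nthRoots 3 1))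
      · intro v _
        rw [Finset.mem_coe, Multiset.mem_toFinset, Polynomial.mem_nthRoots (by norm_num), ← hcd]
        exact cls_pow_cd hc (hrep0 _ _)
      · intro v _ w _ e
        exact Subtype.ext ((hrep1 _ v.2).symm.trans ((nu_cls hn hc h (hrep0 _ _) (hrep0 _ _) e).trans
          (hrep1 _ w.2)))
    have hb3 : V.card * excBound n + 1 < cm n := by
      have := Nat.mul_le_mul_right (excBound n) hV3; omega
    -- the value one occurs
    have hV1 : (1 : F) ∈ V := by
      obtain ⟨p, hp, he1⟩ := exists_regular hn hc h hα hx V hV hb3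
      rw [← hν, add_comm 1 ν] at he1
      rw [← add_left_cancel he1]
      exact hV _ (mul_ne_zero (shift_ne hc ν p hp hνr) hx)
    have hVν : ν ∈ V := hV _ hx
    -- there are two values
    have hval : ∀ y : F, y ≠ 0 → nu n P y = 1 ∨ nu n P y = ν := by
      intro y hy
      by_contra hcon
      push Not at hcon
      obtain ⟨p, hp, he1⟩ := exists_regular hn hc h hα hy V hV hb3
      rw [← hν] at he1
      set m := nu n P y with hm
      have hsub : ({1, ν, m} : Finset F) ⊆ V := by
        intro v hv
        simp only [Finset.mem_insert, Finset.mem_singleton] at hv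
        rcases hv with rfl | rfl | rfl
        exacts [hV1, hVν, hV y hy]
      have hcard : ({1, ν, m} : Finset F).card = 3 := by
        rw [Finset.card_insert_of_notMem (by simp [Ne.symm hne, Ne.symm hcon.1]),
          Finset.card_insert_of_notMem (by simp [Ne.symm hcon.2]), Finset.card_singleton]
      have heqV := Finset.eq_of_subset_of_card_le hsub (by omega)
      have hmem := hV _ (mul_ne_zero (shift_ne hc ν p hp hνr) hx)
      rw [← heqV] at hmem
      simp only [Finset.mem_insert, Finset.mem_singleton] at hmem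
      rcases hmem with e | e | e <;> rw [e] at he1
      · exact hcon.2 (add_right_cancel (he1.trans (add_comm 1 ν)))
      · exact hcon.1 (add_right_cancel he1)
      · rw [CharTwo.add_self_eq_zero] at he1
        exact hne (CharTwo.add_eq_zero.mp he1.symm).symm
    set T1 := univ.filter fun p : F => trc n p = 1 with hT1
    set S : F → Finset F := fun a => T1.filter fun p => nu n P (p * P α) = a with hS
    have hb2 : ({1, ν} : Finset F).card * excBound n ≤ 2 * excBound n :=
      Nat.mul_le_mul_right _ (le_trans (Finset.card_insert_le _ _) (by simp))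
    -- the shift sends each value to the other one
    have hshift : ∀ a b : F, a + b = 1 + ν → (S a).card ≤ 2 * excBound n + (S b).card := by
      intro a b hab
      have h2 := card_exceptional hn hc h hα a {1, ν}
        (fun z hz => by simpa using hval z hz)
      rw [← hν] at h2
      rw [← Finset.card_filter_add_card_filter_not (s := S a)
        (fun p => nu n P (p * P α) + nu n P ((p + ν) * P α) ≠ 1 + ν)]
      refine Nat.add_le_add (le_trans (Finset.card_le_card ?_) (le_trans h2 hb2)) ?_
      · intro p hp
        simp only [hS, hT1, Finset.mem_filter, Finset.mem_univ, true_and] at hp ⊢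
        exact ⟨hp.1.1, hp.1.2, hp.2⟩
      · refine Finset.card_le_card_of_injOn (fun p => p + ν) ?_ ?_
        · intro p hp
          simp only [hS, hT1, Finset.coe_filter, Finset.mem_filter, Finset.mem_univ, true_and,
            not_not, Set.mem_setOf_eq] at hp ⊢
          refine ⟨by rw [trc_add, hp.1.1, trc_fix hνr, add_zero], ?_⟩
          have := hp.2
          rw [hp.1.2, ← hab] at this
          exact add_left_cancel this
        · intro p _ r _ e; exact add_right_cancel e
    have hA := hshift 1 ν rfl
    have hB := hshift ν 1 (add_comm ν 1)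
    have hT1c : T1.card = 2 ^ n := card_fib hc hn one_ne_zero hone
    have hsum : (S 1).card + (S ν).card = T1.card := by
      rw [← Finset.card_filter_add_card_filter_not (s := T1) (fun p => nu n P (p * P α) = 1)]
      congr 1
      refine congrArg Finset.card (Finset.filter_congr fun p hp => ?_)
      simp only [hT1, Finset.mem_filter, Finset.mem_univ, true_and] at hp
      refine ⟨fun e e' => hne (e.symm.trans e'), fun e => ?_⟩
      exact (hval _ (mul_ne_zero (trc_one_ne hn hc hp) hx)).resolve_left e
    -- the elements of value one fill whole classes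
    have hmult : ∃ k : ℕ, (S 1).card = k * cm n := by
      set Z := (S 1).image (cls n) with hZ
      refine ⟨Z.card, ?_⟩
      rw [Finset.card_eq_sum_card_fiberwise (f := cls n) (t := Z)
        (fun p hp => Finset.mem_image_of_mem _ hp), Finset.sum_const_nat (m := cm n)]
      intro ζ hζ
      obtain ⟨p, hp, rfl⟩ := Finset.mem_image.mp hζ
      simp only [hS, hT1, Finset.mem_filter, Finset.mem_univ, true_and] at hp
      have hp0 := trc_one_ne hn hc hp.1
      have hz := card_fib_cls hc hn one_ne_zero hone (cls_pow_cd hc hp0)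
      have hne1 : cls n p ≠ 1 := fun e => hne (by
        rw [← hp.2, hν, nu_cls hn hc h (mul_ne_zero hp0 hx) hx (by rw [cls_mul, e, one_mul])])
      rw [if_neg hne1, add_zero] at hz
      refine Eq.trans (congrArg Finset.card ?_) hz
      ext r
      simp only [hS, hT1, Finset.mem_filter, Finset.mem_univ, true_and]
      refine ⟨fun hr => ⟨hr.1.1, hr.2⟩, fun hr => ⟨⟨hr.1, ?_⟩, hr.2⟩⟩
      rw [← hp.2]
      exact nu_cls hn hc h (mul_ne_zero (trc_one_ne hn hc hr.1) hx) (mul_ne_zero hp0 hx)
        (by rw [cls_mul, cls_mul, hr.2])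
    obtain ⟨k, hk⟩ := hmult
    rcases (show k ≤ 1 ∨ 2 ≤ k by omega) with hk' | hk'
    · have := Nat.mul_le_mul_right (cm n) hk'
      omega
    · have := Nat.mul_le_mul_right (cm n) hk'
      omega

end Cfsg.Agent.Involutions.RankOne.U3.Fld
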