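import Cfsg.Agent.Lib.Involutions.RankOne.U3.Torus

/-!
# The branch `|Q| = q³`: the frame of `L₀ = ⟨Z(Q), K, t⟩`

`blockB` is the set of points fixed by `W`, `torusG ρ` the elliptic torus of `L₀` fixing `(1, ρ)`.
-/

set_option autoImplicit false
set_option linter.unusedSectionVars false
set_option linter.style.haveILetI false

namespace Cfsg.Agent.Involutions.RankOne.U3

open MulAction Matrix

variable {G Ω : Type*} [Group G] [Finite G] [MulAction G Ω] [FaithfulSMul G Ω] {a : Ω} {t : G}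
  {Q : Subgroup G} {n : ℕ} {F : Type*} [Field F] [Fintype F] [CharP F 2]

/-- The coordinates of `Z(Q)` and `K` and the representation of `L₀` on pairs. -/
structure Frame (a : Ω) (t : G) (Q : Subgroup G) (n : ℕ) (F : Type*) [Field F] [Fintype F]
    [CharP F 2] where
  ζ : F → G
  κ : F → G
  card_F : Fintype.card F = (2 ^ n) ^ 2
  coords : ZFrame a t Q n ζ κ
  rep : L0 a t Q →* SpecialLinearGroup (Fin 2) F
  rep_inj : Function.Injective rep
  rep_ζ : ∀ z, z ^ (2 ^ n) = z → ∀ hm : ζ z ∈ L0 a t Q, rep ⟨ζ z, hm⟩ = mZ z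
  rep_κ : ∀ e, e ≠ 0 → e ^ (2 ^ n) = e → ∀ hm : κ e ∈ L0 a t Q, rep ⟨κ e, hm⟩ = mK e
  rep_t : ∀ hm : t ∈ L0 a t Q, rep ⟨t, hm⟩ = mT
  rep_range : ∀ M, M ∈ rep.range ↔ IsRational n M

/-- The points `a` and `z • b` for `z ∈ Z(Q)`. -/
def blockB (a : Ω) (t : G) (Q : Subgroup G) : Set Ω :=
  {c | c = a ∨ ∃ z ∈ Zc Q, z • (t • a) = c}

/-- A permutation without fixed points. -/
def Semireg (Ω : Type*) {G : Type*} [Group G] [MulAction G Ω] (x : G) : Prop := ∀ c : Ω, x • c ≠ c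

/-- The torus of `L₀` with eigenvector `(1, ρ)`. -/
def Frame.torusG (fr : Frame a t Q n F) (ρ : F) : Subgroup G :=
  Subgroup.map (L0 a t Q).subtype
    { carrier := {x | ∃ δ, Torus.Eig (fr.rep x) ρ δ}
      one_mem' := ⟨1, by rw [map_one]; exact Torus.eig_one ρ⟩
      mul_mem' := fun {x y} ⟨δ, hx⟩ ⟨δ', hy⟩ => ⟨δ * δ', by rw [map_mul]; exact Torus.eig_mul hx hy⟩
      inv_mem' := fun {x} ⟨δ, hx⟩ => by
        refine ⟨δ ^ (orderOf x - 1), ?_⟩
        have hp : ∀ i : ℕ, Torus.Eig (fr.rep (x ^ i)) ρ (δ ^ i) := fun i => by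
          induction i with
          | zero => rw [pow_zero, pow_zero, map_one]; exact Torus.eig_one ρ
          | succ i ih => rw [pow_succ, pow_succ, map_mul]; exact Torus.eig_mul ih hx
        have e : x⁻¹ = x ^ (orderOf x - 1) := by
          refine inv_eq_of_mul_eq_one_right ?_
          rw [← pow_succ', Nat.sub_add_cancel (orderOf_pos x), pow_orderOf_eq_one]
        rw [e]; exact hp _ }

theorem mem_L0_of_Zc {z : G} (hz : z ∈ Zc Q) : z ∈ L0 a t Q :=
  Subgroup.subset_closure (Or.inl (Or.inl hz))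

theorem mem_L0_of_Kc {k : G} (hk : k ∈ Kc a t) : k ∈ L0 a t Q :=
  Subgroup.subset_closure (Or.inl (Or.inr hk))

theorem t_mem_L0 : t ∈ L0 a t Q := Subgroup.subset_closure (Or.inr rfl)

variable (h : Setting G Ω a t Q n)
include h

theorem exists_frame (hW : W a t ≠ ⊥) :
    ∃ (F : Type) (_ : Field F) (_ : Fintype F) (_ : CharP F 2), Nonempty (Frame a t Q n F) := by
  obtain ⟨F, i1, i2, i3, ζ, κ, hF, hz⟩ := exists_zframe h hW
  obtain ⟨Φ, h1, h2, h3, h4, h5⟩ := exists_rep h hz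
  exact ⟨F, i1, i2, i3, ⟨⟨ζ, κ, hF, hz, Φ, h1, h2, h3, h4, h5⟩⟩⟩

theorem W_comm_L0 {w x : G} (hw : w ∈ W a t) (hx : x ∈ L0 a t Q) : x * w = w * x := by
  have hle : L0 a t Q ≤ Subgroup.centralizer ({w} : Set G) := (Subgroup.closure_le _).2 (by
    rintro y ((hy | hy) | rfl) <;> rw [SetLike.mem_coe, Subgroup.mem_centralizer_singleton_iff]
    exacts [W_Zc h hw hy, W_K h hw hy, W_t hw])
  exact Subgroup.mem_centralizer_singleton_iff.1 (hle hx)

/-- The points fixed by a non-identity element of `W` are those of the block. -/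
theorem fixed_iff {w : G} (hw : w ∈ W a t) (hw1 : w ≠ 1) {c : Ω} :
    w • c = c ↔ c ∈ blockB a t Q := by
  constructor
  · intro e
    by_cases hc : c = a
    · exact Or.inl hc
    · obtain ⟨u, hu, rfl⟩ := exists_q h.setup hc
      exact Or.inr ⟨u, fix_eq_center h hw hw1 hu ((smul_b_fixed_iff h (W_le hw) hu).1 e), rfl⟩
  · rintro (rfl | ⟨z, hz, rfl⟩)
    · exact (mem_D.1 (W_le hw)).1
    · exact (smul_b_fixed_iff h (W_le hw) (Zc_le hz)).2 (W_Zc h hw hz)

/-- `L₀` preserves the block. -/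
theorem smul_mem_block (hW : W a t ≠ ⊥) {x : G} (hx : x ∈ L0 a t Q) {c : Ω}
    (hc : c ∈ blockB a t Q) : x • c ∈ blockB a t Q := by
  obtain ⟨⟨w, hw⟩, hw1⟩ := Subgroup.ne_bot_iff_exists_ne_one.1 hW
  have hw1' : w ≠ 1 := fun e => hw1 (Subtype.ext e)
  refine (fixed_iff h hw hw1').1 ?_
  rw [smul_smul, ← W_comm_L0 h hw hx, mul_smul, (fixed_iff h hw hw1').2 hc]

theorem block_iff (hW : W a t ≠ ⊥) {x : G} (hx : x ∈ L0 a t Q) {c : Ω} :
    x • c ∈ blockB a t Q ↔ c ∈ blockB a t Q :=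
  ⟨fun hc => by simpa using smul_mem_block h hW (inv_mem hx) hc, smul_mem_block h hW hx⟩

end Cfsg.Agent.Involutions.RankOne.U3
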