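import Cfsg.Agent.Lib.Involutions.RankOne.U3.Frame
import Cfsg.Agent.Lib.Involutions.RankOne.U3.Interface

/-!
# The branch `|Q| = q³`: interfaces after the frame

`Local` collects U4, `Index` is the outcome of U5 and U6, `Bridge` that of U7 to U11.
-/

set_option autoImplicit false

namespace Cfsg.Agent.Involutions.RankOne.U3

variable {G Ω : Type*} [Group G] [Finite G] [MulAction G Ω] [FaithfulSMul G Ω] {a : Ω} {t : G}
  {Q : Subgroup G} {n : ℕ} {F : Type*} [Field F] [Fintype F] [CharP F 2]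

/-- A conjugate of the torus `torusG ρ` inverted by `t`. -/
def Frame.IsMember (fr : Frame a t Q n F) (ρ : F) (A : Subgroup G) : Prop :=
  (∃ g : G, A = (fr.torusG ρ).map (MulAut.conj g).toMonoidHom) ∧ ∀ x ∈ A, t * x * t⁻¹ = x⁻¹

/-- U4: the local facts about `L₀`, its tori, `D` and `W`. -/
structure Local (fr : Frame a t Q n F) (ρ : F) : Prop where
  rho_norm : ρ ^ (2 ^ n + 1) = 1
  rho_ne : ρ ^ (2 ^ n) ≠ ρ
  /-- A non-trivial element of `L₀` fixes no point outside the block. -/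
  regular_free : ∀ x ∈ L0 a t Q, x ≠ 1 → ∀ p : Ω, p ∉ blockB a t Q → x • p ≠ p
  regular_trans : ∀ p p' : Ω, p ∉ blockB a t Q → p' ∉ blockB a t Q → ∃ x ∈ L0 a t Q, x • p = p'
  W_cyclic : IsCyclic (W a t)
  torus_cyclic : IsCyclic (fr.torusG ρ)
  torus_card : Nat.card (fr.torusG ρ) = 2 ^ n + 1
  torus_semireg : ∀ x ∈ fr.torusG ρ, x ≠ 1 → Semireg Ω x
  torus_inverted : ∀ x ∈ fr.torusG ρ, t * x * t⁻¹ = x⁻¹
  /-- The semiregular elements inverted by `t` are partitioned by the members. -/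
  cover : ∀ y : G, Semireg Ω y → t * y * t⁻¹ = y⁻¹ → ∃! A, fr.IsMember ρ A ∧ y ∈ A
  /-- An element inverted by `t` is semiregular or lies in a conjugate of `K`. -/
  inverted : ∀ y : G, Odd (orderOf y) → y ≠ 1 → t * y * t⁻¹ = y⁻¹ →
    Semireg Ω y ∨ orderOf y ∣ 2 ^ n - 1
  /-- `D` acts semilinearly on the coordinate of `Z(Q)`. -/
  semilinear : ∀ d ∈ MulAction.stabilizer G a ⊓ MulAction.stabilizer G (t • a),
    ∃ (σ : RingAut F) (μ : F), Odd (orderOf σ) ∧ σ ^ orderOf d = 1 ∧ μ ≠ 0 ∧ μ ^ (2 ^ n) = μ ∧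
      (∀ z, z ^ (2 ^ n) = z → d * fr.ζ z * d⁻¹ = fr.ζ (μ * σ z)) ∧ (t * d = d * t → μ = 1)

/-- The conclusion of U5 and U6. -/
def IndexGoal (a : Ω) (t : G) (n : ℕ) : Prop := 2 ^ n + 1 ∣ 3 * Nat.card (W a t)

namespace Stmt

universe u v

/-- U4. -/
def LocalFacts : Prop :=
  ∀ {G : Type u} {Ω : Type v} [Group G] [Finite G] [MulAction G Ω] [FaithfulSMul G Ω] {a : Ω} {t : G}
    {Q : Subgroup G} {n : ℕ} {F : Type} [Field F] [Fintype F] [CharP F 2], Setting G Ω a t Q n →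
    W a t ≠ ⊥ → ∀ fr : Frame a t Q n F, ∃ ρ, Local fr ρ

/-- U5 and U6. -/
def Index : Prop :=
  ∀ {G : Type u} {Ω : Type v} [Group G] [Finite G] [MulAction G Ω] [FaithfulSMul G Ω] {a : Ω} {t : G}
    {Q : Subgroup G} {n : ℕ} {F : Type} [Field F] [Fintype F] [CharP F 2], Setting G Ω a t Q n →
    W a t ≠ ⊥ → ∀ (fr : Frame a t Q n F) (ρ : F), Local fr ρ → IndexGoal a t n

/-- U7 to U11: coordinates on `Q` in which `t` is the map of the unital. -/
def Bridge : Prop :=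
  ∀ {G : Type u} {Ω : Type v} [Group G] [Finite G] [MulAction G Ω] [FaithfulSMul G Ω] {a : Ω} {t : G}
    {Q : Subgroup G} {n : ℕ} {F : Type} [Field F] [Fintype F] [CharP F 2], Setting G Ω a t Q n →
    W a t ≠ ⊥ → ∀ (fr : Frame a t Q n F) (ρ : F), Local fr ρ → IndexGoal a t n →
    ∃ e : Q → F × F, IsCoords n e ∧
      ∀ u v : Q, u ≠ 1 → t • ((u : G) • (t • a)) = (v : G) • (t • a) →
        e v = ((e u).1 / (e u).2, ((e u).2)⁻¹)

end Stmt

end Cfsg.Agent.Involutions.RankOne.U3
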