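import Cfsg.Agent.Lib.Involutions.RankOne.U3.Center

/-!
# The branch `|Q| = q³`: `K × W` acts freely on `Q / Z(Q)`
-/

set_option autoImplicit false
set_option linter.unusedSectionVars false

namespace Cfsg.Agent.Involutions.RankOne.U3

open MulAction Involutions.Basic

variable {G Ω : Type*} [Group G] [Finite G] [MulAction G Ω] [FaithfulSMul G Ω] {a : Ω} {t : G}
  {Q : Subgroup G} {n : ℕ}

local notation "H" => MulAction.stabilizer G a
local notation "D" => (MulAction.stabilizer G a ⊓ MulAction.stabilizer G (t • a))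

/-- `Q / Z(Q)`. -/
abbrev Qb (Q : Subgroup G) := ↥Q ⧸ Subgroup.center ↥Q

variable (h : Setting G Ω a t Q n)

/-- Conjugation of `Q` by `D`. -/
def conjQ : ↥D →* MulAut Q :=
  (Subgroup.normalizerMonoidHom Q).comp (Subgroup.inclusion (inf_le_left.trans
    (Subgroup.le_normalizer_iff.2 h.setup.conj_mem : H ≤ Subgroup.normalizer (Q : Set G))))

theorem conjQ_apply (d : ↥D) (x : Q) : (conjQ h d x : G) = d * x * (d : G)⁻¹ := rfl

include h in
theorem map_center (e : MulAut Q) :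
    Subgroup.map (e : Q ≃* Q).toMonoidHom (Subgroup.center Q) = Subgroup.center Q := by
  ext x
  rw [Subgroup.mem_map_equiv, Subgroup.mem_center_iff, Subgroup.mem_center_iff]
  constructor
  · intro hx y
    have := congrArg e (hx (e.symm y))
    simpa using this
  · intro hx y
    apply e.injective
    simpa using hx (e y)

/-- Conjugation on `Q / Z(Q)`. -/
noncomputable def bar : ↥D →* MulAut (Qb Q) where
  toFun d := QuotientGroup.congr _ _ (conjQ h d) (map_center h _)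
  map_one' := by
    refine MulEquiv.ext fun x => ?_
    refine QuotientGroup.induction_on x fun x => ?_
    simp [QuotientGroup.congr_mk]
  map_mul' d d' := by
    refine MulEquiv.ext fun x => ?_
    refine QuotientGroup.induction_on x fun x => ?_
    rw [MulAut.mul_apply, QuotientGroup.congr_mk _ _ _ (map_center h _),
      QuotientGroup.congr_mk _ _ _ (map_center h _), QuotientGroup.congr_mk _ _ _ (map_center h _),
      map_mul, MulAut.mul_apply]

theorem bar_mk (d : ↥D) (x : Q) : bar h d (x : (Qb Q)) = ((conjQ h d x : Q) : (Qb Q)) :=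
  QuotientGroup.congr_mk _ _ _ (map_center h _) x

include h

theorem mk_eq_one {x : Q} : (x : (Qb Q)) = 1 ↔ (x : G) ∈ Zc Q := by
  rw [QuotientGroup.eq_one_iff]
  exact ⟨fun hx => ⟨x, hx, rfl⟩, fun ⟨z, hz, e⟩ => Q.subtype_injective e ▸ hz⟩

theorem Qb_sq (x : (Qb Q)) : x * x = 1 := by
  refine QuotientGroup.induction_on x fun x => ?_
  rw [← QuotientGroup.mk_mul, QuotientGroup.eq_one_iff]; exact (S1138.result h.suzuki).1 x

theorem Qb_inv (x : (Qb Q)) : x⁻¹ = x := inv_eq_of_mul_eq_one_left (Qb_sq h x)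

theorem Qb_comm (x y : (Qb Q)) : x * y = y * x := by
  rw [← Qb_inv h (x * y), mul_inv_rev, Qb_inv h, Qb_inv h]

theorem card_Qb : Nat.card (Qb Q) = (2 ^ n) ^ 2 := by
  have e := (Subgroup.center Q).card_eq_card_quotient_mul_card_subgroup
  rw [h.card_Q, h.card_center, pow_succ] at e
  exact (Nat.eq_of_mul_eq_mul_right (Nat.two_pow_pos n) e).symm

/-- An element of `D` fixing the coset of `x` has the fixed points of `x` only trivially. -/
theorem sq_fixed {d : ↥D} {x : Q} (hx : bar h d (x : (Qb Q)) = x) :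
    (d : G) * ((x : G) * x) * (d : G)⁻¹ = x * x := by
  obtain ⟨z, hz, e⟩ : ∃ z ∈ Zc Q, (d : G) * x * (d : G)⁻¹ = x * z := by
    rw [bar_mk, QuotientGroup.eq] at hx
    refine ⟨((x⁻¹ * conjQ h d x : Q) : G), ⟨(x⁻¹ * conjQ h d x : Q), ?_, rfl⟩, ?_⟩
    · have := inv_mem hx
      rwa [mul_inv_rev, inv_inv] at this
    · simp [conjQ_apply]
  have hc : (x : G) * z = z * x := (Zc_comm hz x.2).symm
  calc (d : G) * ((x : G) * x) * (d : G)⁻¹ = (d * x * (d : G)⁻¹) * (d * x * (d : G)⁻¹) := by group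
    _ = x * z * (x * z) := by rw [e]
    _ = x * (z * x) * z := by group
    _ = x * (x * z) * z := by rw [← hc]
    _ = x * x * (z * z) := by group
    _ = x * x := by rw [Zc_sq h hz, mul_one]

/-- Only `k = 1` can fix a non-trivial coset together with an element of `W`. -/
theorem eq_one_of_fixed {d : ↥D} {k w : G} (hk : k ∈ Kc a t) (hw : w ∈ W a t)
    (hd : (d : G) = k * w) {x : (Qb Q)} (hx1 : x ≠ 1) (hx : bar h d x = x) : k = 1 := by
  obtain ⟨x, rfl⟩ := QuotientGroup.mk_surjective x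
  have hs := sq_fixed h hx
  have hz : (x : G) * x ∈ Zc Q := sq_mem_Zc h x.2
  have hz1 : (x : G) * x ≠ 1 := fun e =>
    hx1 ((mk_eq_one h).2 ((mul_self_eq_one_iff h (h.setup.le x.2)).1 e))
  refine eq_one_of_conj h hz hz1 hk ?_
  calc k * ((x : G) * x) * k⁻¹ = k * ((x : G) * x * w) * w⁻¹ * k⁻¹ := by group
    _ = k * (w * ((x : G) * x)) * w⁻¹ * k⁻¹ := by rw [W_Zc h hw hz]
    _ = (d : G) * ((x : G) * x) * (d : G)⁻¹ := by rw [hd]; group
    _ = _ := hs

theorem Kc_fpf_bar {d : ↥D} (hd : (d : G) ∈ Kc a t) (hd1 : d ≠ 1) {x : (Qb Q)}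
    (hx : bar h d x = x) : x = 1 := by
  by_contra hx1
  exact hd1 (Subtype.ext (eq_one_of_fixed h hd (one_mem _) (mul_one _).symm hx1 hx))

/-- An element of odd order which moves `x` by a fixed element of exponent two fixes `x`. -/
theorem eq_of_shift {M : Type*} [Group M] (σ : MulAut M) {x p : M} {m : ℕ} (hm : Odd m)
    (hσ : σ ^ m = 1) (hp : p * p = 1) (hfix : σ p = p) (e : σ x = x * p) : p = 1 := by
  have hi : ∀ i : ℕ, (σ ^ i) x = x * p ^ i := fun i => by
    induction i with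
    | zero => simp
    | succ i ih => rw [pow_succ', MulAut.mul_apply, ih, map_mul, map_pow, hfix, e, mul_assoc, ← pow_succ']
  have h1 := hi m
  rw [hσ, MulAut.one_apply, left_eq_mul] at h1
  obtain ⟨j, rfl⟩ := hm
  rwa [pow_succ, pow_mul, sq, hp, one_pow, one_mul] at h1

theorem odd_orderOf_bar (d : ↥D) : Odd (orderOf (bar h d)) :=
  h.setup.odd_card.of_dvd_nat ((orderOf_map_dvd (bar h) d).trans (orderOf_dvd_natCard d))

/-- An element of `W` fixing the coset of `x` centralises `x`. -/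
theorem comm_of_bar_fixed {w : G} (hw : w ∈ W a t) {x : Q}
    (hx : bar h ⟨w, W_le hw⟩ (x : (Qb Q)) = x) : (x : G) * w = w * x := by
  rw [bar_mk, eq_comm, QuotientGroup.eq] at hx
  set z : Q := x⁻¹ * conjQ h ⟨w, W_le hw⟩ x with hz
  have hzc : (z : G) ∈ Zc Q := ⟨z, hx, rfl⟩
  have h1 : conjQ h ⟨w, W_le hw⟩ z = z := Subtype.ext (by
    rw [conjQ_apply, ← W_Zc h hw hzc, mul_inv_cancel_right])
  have e := eq_of_shift h (conjQ h ⟨w, W_le hw⟩) (x := x) (p := z)
    (m := orderOf (⟨w, W_le hw⟩ : ↥D))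
    (h.setup.odd_card.of_dvd_nat (orderOf_dvd_natCard _))
    (by rw [← map_pow, pow_orderOf_eq_one, map_one]) (Subtype.ext (Zc_sq h hzc)) h1
    (by rw [hz, mul_inv_cancel_left])
  have e2 := congrArg Subtype.val (eq_of_inv_mul_eq_one e.symm.symm)
  rw [conjQ_apply] at e2
  calc (x : G) * w = w * x * w⁻¹ * w := by rw [← e2]
    _ = w * x := by group

theorem bar_comm {w k : G} (hw : w ∈ W a t) (hk : k ∈ Kc a t) (x : (Qb Q)) :
    bar h ⟨w, W_le hw⟩ (bar h ⟨k, Kc_le h hk⟩ x) = bar h ⟨k, Kc_le h hk⟩ (bar h ⟨w, W_le hw⟩ x) := by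
  rw [← MulAut.mul_apply, ← map_mul, ← MulAut.mul_apply, ← map_mul]
  congr 2
  exact Subtype.ext (W_K h hw hk).symm

/-- `K` moves a subgroup of order `2 ^ j` only if `n ∣ j`. -/
theorem card_invariant {A : Type*} [Group A] [Finite A] (S : Set A) (act : Kc a t → A → A)
    (hone : ∀ x, act 1 x = x) (hmul : ∀ k k' x, act (k * k') x = act k (act k' x))
    (hS : ∀ k, ∀ x ∈ S, act k x ∈ S) (hfree : ∀ k, ∀ x ∈ S, act k x = x → k = 1) :
    2 ^ n - 1 ∣ Nat.card S := by
  letI : MulAction (Kc a t) S :=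
    { smul := fun k x => ⟨act k x, hS k x x.2⟩
      one_smul := fun x => Subtype.ext (hone x)
      mul_smul := fun k k' x => Subtype.ext (hmul k k' x) }
  have hst : ∀ x : S, MulAction.stabilizer (Kc a t) x = ⊥ := fun x =>
    (Subgroup.eq_bot_iff_forall _).2 fun k hk => hfree k x x.2 (congrArg Subtype.val hk)
  rw [Nat.card_congr (MulAction.selfEquivOrbitsQuotientProd hst), Nat.card_prod, card_Kc h]
  exact Dvd.intro_left _ rfl

theorem fix_eq_center {w : G} (hw : w ∈ W a t) (hw1 : w ≠ 1) {x : G} (hx : x ∈ Q)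
    (e : x * w = w * x) : x ∈ Zc Q := by
  classical
  set σ := bar h ⟨w, W_le hw⟩ with hσ
  let P : Subgroup (Qb Q) :=
    { carrier := {y | σ y = y}
      one_mem' := map_one σ
      mul_mem' := fun {y z} hy hz => by
        show σ (y * z) = y * z
        rw [map_mul, hy, hz]
      inv_mem' := fun {y} hy => by
        show σ y⁻¹ = y⁻¹
        rw [map_inv, hy] }
  have hPK : ∀ (k : Kc a t), ∀ y ∈ P, bar h ⟨k, Kc_le h k.2⟩ y ∈ P := fun k y hy => by
    show σ _ = _
    rw [hσ, bar_comm h hw k.2]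
    exact congrArg _ hy
  let act : Kc a t → (Qb Q) → (Qb Q) := fun k y => bar h ⟨k, Kc_le h k.2⟩ y
  have hact1 : ∀ y, act 1 y = y := fun y => by
    show bar h (1 : ↥D) y = y
    rw [map_one]; rfl
  have hactm : ∀ k k' y, act (k * k') y = act k (act k' y) := fun k k' y => by
    show bar h (⟨k, Kc_le h k.2⟩ * ⟨k', Kc_le h k'.2⟩) y = _
    rw [map_mul]; rfl
  have hfree : ∀ k, ∀ y : (Qb Q), y ≠ 1 → act k y = y → k = 1 := fun k y hy1 hy =>
    Subtype.ext (eq_one_of_fixed h k.2 (one_mem _) (mul_one _).symm hy1 hy)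
  have hxP : ((⟨x, hx⟩ : Q) : (Qb Q)) ∈ P := by
    show σ _ = _
    rw [hσ, bar_mk]
    congr 1
    exact Subtype.ext (show w * x * w⁻¹ = x by rw [← e, mul_inv_cancel_right])
  by_contra hxZ
  have hx1 : ((⟨x, hx⟩ : Q) : (Qb Q)) ≠ 1 := fun e' => hxZ ((mk_eq_one h).1 e')
  -- some coset is moved
  obtain ⟨y₀, hy₀⟩ : ∃ y, y ∉ P := by
    by_contra hall
    push Not at hall
    have hcQ : ∀ u : Q, (u : G) * w = w * u := fun u => comm_of_bar_fixed h hw (hall _)
    refine hw1 (FaithfulSMul.eq_of_smul_eq_smul (M := G) (α := Ω) fun c => ?_)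
    rw [one_smul]
    by_cases hc : c = a
    · rw [hc]; exact (W_le hw).1
    · obtain ⟨u, hu, rfl⟩ := exists_q h.setup hc
      exact (smul_b_fixed_iff h (W_le hw) hu).2 (hcQ ⟨u, hu⟩)
  -- the order of `P`
  have hPn : 2 ^ n ≤ Nat.card P := by
    have hd : 2 ^ n - 1 ∣ Nat.card ↥((P : Set (Qb Q)) \ {1}) :=
      card_invariant h ((P : Set (Qb Q)) \ {1}) act hact1 hactm
        (fun k y hy => ⟨hPK k y hy.1, fun e' => hy.2 (by
          rw [Set.mem_singleton_iff] at e' ⊢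
          exact (map_eq_one_iff _ (MulEquiv.injective _)).1 e')⟩)
        (fun k y hy => hfree k y hy.2)
    have hpos : 0 < Nat.card ↥((P : Set (Qb Q)) \ {1}) :=
      Nat.card_pos_iff.2 ⟨⟨⟨_, hxP, hx1⟩⟩, inferInstance⟩
    rw [Nat.card_coe_set_eq, Set.ncard_diff_singleton_of_mem P.one_mem,
      ← Nat.card_coe_set_eq] at hd hpos
    have := Nat.le_of_dvd hpos hd
    change 2 ^ n - 1 ≤ Nat.card P - 1 at this
    change 0 < Nat.card P - 1 at hpos
    omega
  have hindex : P.index ≤ 2 ^ n := by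
    have := P.card_mul_index
    rw [card_Qb h, sq] at this
    refine Nat.le_of_mul_le_mul_left ?_ (Nat.two_pow_pos n)
    exact (Nat.mul_le_mul_right _ hPn).trans this.le
  -- `K` is transitive on the non-trivial cosets of `P`
  let π : (Qb Q) → (Qb Q) ⧸ P := QuotientGroup.mk
  have hsolve : ∀ k : Kc a t, k ≠ 1 → ∀ p ∈ P, ∃ r ∈ P, act k r * r⁻¹ = p := by
    intro k hk p hp
    let f : P → P := fun r => ⟨act k r * (r : (Qb Q))⁻¹, mul_mem (hPK k r r.2) (inv_mem r.2)⟩
    have hf : Function.Injective f := fun r r' hr => by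
      by_contra hne
      have hr' := congrArg Subtype.val hr
      simp only [f] at hr'
      refine hk (hfree k ((r : (Qb Q)) * r') (fun e' => hne (Subtype.ext ?_)) ?_)
      · rwa [← Qb_inv h (r' : (Qb Q)), mul_inv_eq_one] at e'
      · show bar h _ _ = _
        rw [Qb_inv h, Qb_inv h] at hr'
        rw [map_mul]
        calc act k (r : (Qb Q)) * act k r' = (act k (r : (Qb Q)) * r) * r * (act k r') := by
              rw [mul_assoc (act k (r : (Qb Q))), Qb_sq h, mul_one]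
          _ = act k r' * r' * r * act k r' := by rw [hr']
          _ = r * r' * (act k r' * act k r') := by
              rw [Qb_comm h (act k r') (r' : (Qb Q)), mul_assoc (r' : (Qb Q)), Qb_comm h (act k r') (r : (Qb Q)),
                ← mul_assoc (r' : (Qb Q)), Qb_comm h (r' : (Qb Q)) r, mul_assoc]
          _ = r * r' := by rw [Qb_sq h, mul_one]
    obtain ⟨r, hr⟩ := (Finite.injective_iff_surjective.1 hf) ⟨p, hp⟩
    exact ⟨r, r.2, congrArg Subtype.val hr⟩
  let ψ : Kc a t → {c : (Qb Q) ⧸ P // c ≠ ((1 : (Qb Q)) : (Qb Q) ⧸ P)} := fun k => ⟨π (act k y₀), fun e' => by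
    rw [QuotientGroup.eq, mul_one, inv_mem_iff] at e'
    apply hy₀
    have := hPK k⁻¹ _ e'
    change act k⁻¹ (act k y₀) ∈ P at this
    rwa [← hactm, inv_mul_cancel, hact1] at this⟩
  have hψ : Function.Injective ψ := fun k k' e' => by
    have e1 : π (act k y₀) = π (act k' y₀) := congrArg Subtype.val e'
    rw [QuotientGroup.eq] at e1
    by_contra hne
    have e2 := hPK k⁻¹ _ e1
    change act k⁻¹ _ ∈ P at e2
    change bar h _ _ ∈ P at e2
    rw [map_mul, map_inv] at e2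
    change (act k⁻¹ (act k y₀))⁻¹ * act k⁻¹ (act k' y₀) ∈ P at e2
    rw [← hactm, ← hactm, inv_mul_cancel, hact1, Qb_inv h] at e2
    set j := k⁻¹ * k' with hj
    have hj1 : j ≠ 1 := fun e' => hne (inv_mul_eq_one.1 e')
    obtain ⟨r, hr, er⟩ := hsolve j hj1 _ e2
    refine hy₀ ?_
    have : y₀ * r = 1 := by
      by_contra h1
      refine hj1 (hfree j _ h1 ?_)
      show bar h _ _ = _
      rw [map_mul]
      change act j y₀ * act j r = y₀ * r
      rw [show act j r = y₀ * act j y₀ * r from mul_inv_eq_iff_eq_mul.1 er,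
        ← mul_assoc, ← mul_assoc, Qb_comm h (act j y₀) y₀, mul_assoc y₀, Qb_sq h, mul_one]
    rw [eq_inv_of_mul_eq_one_left this]
    exact inv_mem hr
  have hψs : Function.Surjective ψ := by
    refine ((Nat.bijective_iff_injective_and_card ψ).2 ⟨hψ, le_antisymm
      (Nat.card_le_card_of_injective ψ hψ) ?_⟩).2
    rw [card_Kc h]
    have h1 : Nat.card {c : (Qb Q) ⧸ P // c ≠ ((1 : (Qb Q)) : (Qb Q) ⧸ P)} = P.index - 1 := by
      show Nat.card ↥({((1 : (Qb Q)) : (Qb Q) ⧸ P)}ᶜ : Set ((Qb Q) ⧸ P)) = _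
      rw [Nat.card_coe_set_eq, Set.ncard_compl, Set.ncard_singleton]
      rfl
    omega
  obtain ⟨k, hk⟩ := hψs ⟨π (σ y₀), fun e' => by
    rw [QuotientGroup.eq, mul_one, inv_mem_iff] at e'
    exact hy₀ ((MulEquiv.injective σ e' : σ y₀ = y₀))⟩
  have hk' : (act k y₀)⁻¹ * σ y₀ ∈ P := QuotientGroup.eq.1 (congrArg Subtype.val hk)
  by_cases hk1 : k = 1
  · rw [hk1, hact1] at hk'
    refine hy₀ ?_
    have := eq_of_shift h σ (x := y₀) (p := y₀⁻¹ * σ y₀) (odd_orderOf_bar h _)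
      (pow_orderOf_eq_one _) (Qb_sq h _) hk' (mul_inv_cancel_left _ _).symm
    exact (inv_mul_eq_one.1 this).symm
  · -- a fixed point of `k⁻¹ w`
    obtain ⟨r, hr, er⟩ := hsolve k hk1 _ hk'
    set y := y₀ * r with hy
    have hky : σ y = act k y := by
      rw [hy, map_mul, show σ r = r from hr]
      show _ = bar h _ _
      rw [map_mul]
      change σ y₀ * r = act k y₀ * act k r
      rw [show act k r = (act k y₀)⁻¹ * σ y₀ * r from mul_inv_eq_iff_eq_mul.1 er, ← mul_assoc,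
        mul_inv_cancel_left]
    have hy1 : y ≠ 1 := fun e' => hy₀ (by rw [eq_inv_of_mul_eq_one_left e']; exact inv_mem hr)
    refine hk1 (inv_eq_one.1 (Subtype.ext (eq_one_of_fixed h (k⁻¹).2 hw
      (d := ⟨(k⁻¹ : Kc a t), Kc_le h (k⁻¹).2⟩ * ⟨w, W_le hw⟩) rfl hy1 ?_)))
    rw [MonoidHom.map_mul, MulAut.mul_apply]
    change act k⁻¹ (σ y) = y
    rw [hky, ← hactm, inv_mul_cancel, hact1]

/-- `K W` acts freely on `Q / Z(Q)`. -/
theorem free {d : ↥D} {k w : G} (hk : k ∈ Kc a t) (hw : w ∈ W a t) (hd : (d : G) = k * w) {x : (Qb Q)}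
    (hx1 : x ≠ 1) (hx : bar h d x = x) : k = 1 ∧ w = 1 := by
  have hk1 := eq_one_of_fixed h hk hw hd hx1 hx
  subst hk1
  refine ⟨rfl, ?_⟩
  by_contra hw1
  have e : d = ⟨w, W_le hw⟩ := Subtype.ext (by rw [hd, one_mul])
  subst e
  obtain ⟨x, rfl⟩ := QuotientGroup.mk_surjective x
  exact hx1 ((mk_eq_one h).2 (fix_eq_center h hw hw1 x.2 (comm_of_bar_fixed h hw hx)))

/-- `K W`, a subgroup of `D`. -/
theorem W_le_normalizer_Kc : W a t ≤ Subgroup.normalizer (Kc a t : Set G) := by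
  rw [Subgroup.le_normalizer_iff]
  exact fun w hw k hk => conj_mem_Kc h (W_le hw) hk

theorem mem_sup_iff {x : G} : x ∈ Kc a t ⊔ W a t ↔ ∃ k ∈ Kc a t, ∃ w ∈ W a t, k * w = x := by
  rw [← SetLike.mem_coe, Subgroup.coe_mul_of_right_le_normalizer_left _ _ (W_le_normalizer_Kc h),
    Set.mem_mul]
  rfl

theorem card_sup : Nat.card ↥(Kc a t ⊔ W a t) = (2 ^ n - 1) * Nat.card (W a t) := by
  rw [← card_Kc h, ← Nat.card_prod]
  refine (Nat.card_eq_of_bijective (fun p : Kc a t × W a t =>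
    (⟨(p.1 : G) * p.2, (mem_sup_iff h).2 ⟨_, p.1.2, _, p.2.2, rfl⟩⟩ : ↥(Kc a t ⊔ W a t)))
    ⟨?_, ?_⟩).symm
  · rintro ⟨k, w⟩ ⟨k', w'⟩ e
    have e' : (k : G) * w = k' * w' := congrArg Subtype.val e
    have h1 : (k' : G)⁻¹ * k = w' * (w : G)⁻¹ := by
      rw [eq_mul_inv_iff_mul_eq, mul_assoc, e', inv_mul_cancel_left]
    have h2 : (k' : G)⁻¹ * k = 1 := eq_one_of_mem_W_of_mem_Kc h
      (h1 ▸ mul_mem w'.2 (inv_mem w.2)) (mul_mem (inv_mem k'.2) k.2)
    rw [h2, eq_comm, mul_inv_eq_one] at h1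
    exact Prod.ext (Subtype.ext (inv_mul_eq_one.1 h2).symm) (Subtype.ext h1.symm)
  · rintro ⟨x, hx⟩
    obtain ⟨k, hk, w, hw, rfl⟩ := (mem_sup_iff h).1 hx
    exact ⟨(⟨k, hk⟩, ⟨w, hw⟩), rfl⟩

theorem card_W_dvd : Nat.card (W a t) ∣ 2 ^ n + 1 := by
  have hle : Kc a t ⊔ W a t ≤ D := sup_le (Kc_le h) W_le
  letI : MulAction ↥(Kc a t ⊔ W a t) {x : (Qb Q) // x ≠ 1} :=
    { smul := fun d x => ⟨bar h (Subgroup.inclusion hle d) x.1,
        fun e => x.2 ((map_eq_one_iff _ (MulEquiv.injective _)).1 e)⟩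
      one_smul := fun x => Subtype.ext (by
        show bar h (Subgroup.inclusion hle 1) x.1 = x.1
        rw [map_one, map_one]; rfl)
      mul_smul := fun d d' x => Subtype.ext (by
        show bar h (Subgroup.inclusion hle (d * d')) x.1 = _
        rw [map_mul, map_mul]; rfl) }
  have hst : ∀ x : {x : (Qb Q) // x ≠ 1}, MulAction.stabilizer ↥(Kc a t ⊔ W a t) x = ⊥ := fun x =>
    (Subgroup.eq_bot_iff_forall _).2 fun d hd => by
      obtain ⟨k, hk, w, hw, e⟩ := (mem_sup_iff h).1 d.2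
      obtain ⟨rfl, rfl⟩ := free h (d := Subgroup.inclusion hle d) hk hw e.symm x.2
        (congrArg Subtype.val hd)
      exact Subtype.ext (by rw [← e]; simp)
  have hdvd : (2 ^ n - 1) * Nat.card (W a t) ∣ Nat.card {x : (Qb Q) // x ≠ 1} := by
    rw [Nat.card_congr (MulAction.selfEquivOrbitsQuotientProd hst), Nat.card_prod, card_sup h]
    exact Dvd.intro_left _ rfl
  have hc : Nat.card {x : (Qb Q) // x ≠ 1} = (2 ^ n - 1) * (2 ^ n + 1) := by
    show Nat.card ↥({(1 : (Qb Q))}ᶜ : Set (Qb Q)) = _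
    rw [Nat.card_coe_set_eq, Set.ncard_compl, Set.ncard_singleton, card_Qb h]
    have := Nat.sq_sub_sq (2 ^ n) 1
    rw [one_pow, mul_comm] at this
    exact this
  rw [hc] at hdvd
  refine Nat.dvd_of_mul_dvd_mul_left ?_ hdvd
  have : 2 ≤ 2 ^ n := Nat.le_self_pow (by linarith [h.two_le]) 2
  omega

end Cfsg.Agent.Involutions.RankOne.U3
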