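import Cfsg.Agent.Lib.Involutions.RankOne.U3.Block

/-!
# The branch `|Q| = q³`: `⟨Z(Q), K, t⟩` is `SL₂(q)`
-/

set_option autoImplicit false
set_option linter.unusedSectionVars false
set_option linter.style.haveILetI false

namespace Cfsg.Agent.Involutions.RankOne.U3

open MulAction Matrix

variable {F : Type*} [Field F]

/-- `(x, y) ↦ (x, y + z x)`. -/
def mZ (z : F) : SpecialLinearGroup (Fin 2) F := ⟨!![1, 0; z, 1], by simp [det_fin_two]⟩

/-- `(x, y) ↦ (x / e, e y)`. -/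
noncomputable def mK (e : F) : SpecialLinearGroup (Fin 2) F := by
  classical
  exact if h : e = 0 then 1 else ⟨!![e⁻¹, 0; 0, e], by simp [det_fin_two, inv_mul_cancel₀ h]⟩

/-- `(x, y) ↦ (y, x)`. -/
def mT [CharP F 2] : SpecialLinearGroup (Fin 2) F :=
  ⟨!![0, 1; 1, 0], by simp [det_fin_two, CharTwo.neg_eq]⟩

theorem mZ_val (z : F) : (mZ z : Matrix (Fin 2) (Fin 2) F) = !![1, 0; z, 1] := rfl

theorem mK_val {e : F} (he : e ≠ 0) : (mK e : Matrix (Fin 2) (Fin 2) F) = !![e⁻¹, 0; 0, e] := by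
  simp [mK, he]

theorem mT_val [CharP F 2] : (mT : SpecialLinearGroup (Fin 2) F) = (!![0, 1; 1, 0] : Matrix (Fin 2) (Fin 2) F) :=
  rfl

/-- All entries lie in the field with `q` elements. -/
def IsRational (n : ℕ) (M : SpecialLinearGroup (Fin 2) F) : Prop := ∀ i j, M i j ^ (2 ^ n) = M i j

/-- The relations of `⟨Z(Q), K, t⟩`. -/
structure Rel {M : Type*} [Group M] (n : ℕ) (Z K : F → M) (τ : M) : Prop where
  Z_add : ∀ y z, y ^ (2 ^ n) = y → z ^ (2 ^ n) = z → Z (y + z) = Z y * Z z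
  K_mul : ∀ d e, d ≠ 0 → d ^ (2 ^ n) = d → e ≠ 0 → e ^ (2 ^ n) = e → K (d * e) = K d * K e
  conj : ∀ e z, e ≠ 0 → e ^ (2 ^ n) = e → z ^ (2 ^ n) = z → K e * Z z = Z (e ^ 2 * z) * K e
  τ_τ : τ * τ = 1
  τ_K : ∀ e, e ≠ 0 → e ^ (2 ^ n) = e → τ * K e = K e⁻¹ * τ
  swap : ∀ z, z ≠ 0 → z ^ (2 ^ n) = z → τ * Z z * τ = Z z⁻¹ * K z⁻¹ * τ * Z z⁻¹

variable {M : Type*} [Group M] {n : ℕ} {Z K : F → M} {τ : M}

/-- A canonical form. -/
def IsForm2 (n : ℕ) (Z K : F → M) (τ : M) (g : M) : Prop :=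
  (∃ z e : F, z ^ (2 ^ n) = z ∧ e ^ (2 ^ n) = e ∧ e ≠ 0 ∧ g = Z z * K e) ∨
    ∃ z e y : F, z ^ (2 ^ n) = z ∧ e ^ (2 ^ n) = e ∧ e ≠ 0 ∧ y ^ (2 ^ n) = y ∧ g = Z z * K e * τ * Z y

theorem Rel.Z_zero (h : Rel n Z K τ) : Z 0 = 1 := by
  have := h.Z_add 0 0 (zero_pow (by positivity)) (zero_pow (by positivity))
  rw [add_zero] at this
  exact mul_eq_left.1 this.symm

theorem Rel.K_one (h : Rel n Z K τ) : K 1 = 1 := by
  have := h.K_mul 1 1 one_ne_zero (one_pow _) one_ne_zero (one_pow _)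
  rw [mul_one] at this
  exact mul_eq_left.1 this.symm

theorem add_fixed [CharP F 2] {y z : F} (hy : y ^ (2 ^ n) = y) (hz : z ^ (2 ^ n) = z) :
    (y + z) ^ (2 ^ n) = y + z := by
  rw [add_pow_char_pow, hy, hz]

theorem mul_fixed {y z : F} (hy : y ^ (2 ^ n) = y) (hz : z ^ (2 ^ n) = z) :
    (y * z) ^ (2 ^ n) = y * z := by rw [mul_pow, hy, hz]

theorem inv_fixed {y : F} (hy : y ^ (2 ^ n) = y) : (y⁻¹) ^ (2 ^ n) = y⁻¹ := by rw [inv_pow, hy]

theorem sq_fixed_of {y : F} (hy : y ^ (2 ^ n) = y) : (y ^ 2) ^ (2 ^ n) = y ^ 2 := by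
  rw [← pow_mul, mul_comm, pow_mul, hy]

theorem Rel.left_mul [CharP F 2] (h : Rel n Z K τ) {x g : M}
    (hx : (∃ z, z ^ (2 ^ n) = z ∧ x = Z z) ∨ (∃ e, e ≠ 0 ∧ e ^ (2 ^ n) = e ∧ x = K e) ∨ x = τ)
    (hg : IsForm2 n Z K τ g) : IsForm2 n Z K τ (x * g) := by
  rcases hx with ⟨w, hw, rfl⟩ | ⟨d, hd0, hd, rfl⟩ | rfl <;>
    rcases hg with ⟨z, e, hz, he, he0, rfl⟩ | ⟨z, e, y, hz, he, he0, hy, rfl⟩
  · exact Or.inl ⟨w + z, e, add_fixed hw hz, he, he0, by rw [h.Z_add w z hw hz, mul_assoc]⟩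
  · exact Or.inr ⟨w + z, e, y, add_fixed hw hz, he, he0, hy, by
      rw [h.Z_add w z hw hz]; group⟩
  · refine Or.inl ⟨d ^ 2 * z, d * e, mul_fixed (sq_fixed_of hd) hz, mul_fixed hd he,
      mul_ne_zero hd0 he0, ?_⟩
    rw [← mul_assoc, h.conj d z hd0 hd hz, mul_assoc, ← h.K_mul d e hd0 hd he0 he]
  · refine Or.inr ⟨d ^ 2 * z, d * e, y, mul_fixed (sq_fixed_of hd) hz, mul_fixed hd he,
      mul_ne_zero hd0 he0, hy, ?_⟩
    rw [h.K_mul d e hd0 hd he0 he, show K d * (Z z * K e * τ * Z y) = (K d * Z z) * (K e * τ * Z y) by group,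
      h.conj d z hd0 hd hz]
    group
  · refine Or.inr ⟨0, e⁻¹, (e⁻¹) ^ 2 * z, zero_pow (by positivity), inv_fixed he, inv_ne_zero he0,
      mul_fixed (sq_fixed_of (inv_fixed he)) hz, ?_⟩
    rw [h.Z_zero, one_mul, ← h.τ_K e he0 he, mul_assoc]
    congr 1
    have hw := mul_fixed (sq_fixed_of (inv_fixed he)) hz
    rw [h.conj e _ he0 he hw, ← mul_assoc (e ^ 2), ← mul_pow, mul_inv_cancel₀ he0, one_pow, one_mul]
  · rw [show x * (Z z * K e * x * Z y) = x * Z z * (K e * x) * Z y by group]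
    have he' := inv_fixed he
    have hKτ : K e * x = x * K e⁻¹ := by
      rw [h.τ_K _ (inv_ne_zero he0) he', inv_inv]
    rw [hKτ]
    by_cases hz0 : z = 0
    · subst hz0
      refine Or.inl ⟨(e⁻¹) ^ 2 * y, e⁻¹, mul_fixed (sq_fixed_of he') hy, he', inv_ne_zero he0, ?_⟩
      rw [h.Z_zero, mul_one, ← mul_assoc x, h.τ_τ, one_mul, h.conj _ y (inv_ne_zero he0) he' hy]
    · have hzi := inv_fixed hz
      have hy' := mul_fixed (sq_fixed_of he') hy
      refine Or.inr ⟨z⁻¹, z⁻¹ * e, e ^ 2 * z⁻¹ + y, hzi, mul_fixed hzi he,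
        mul_ne_zero (inv_ne_zero hz0) he0, add_fixed (mul_fixed (sq_fixed_of he) hzi) hy, ?_⟩
      have hw : (z⁻¹ + (e⁻¹) ^ 2 * y) ^ (2 ^ n) = z⁻¹ + (e⁻¹) ^ 2 * y := add_fixed hzi hy'
      have he2 : e ^ 2 * z⁻¹ + y = e ^ 2 * (z⁻¹ + (e⁻¹) ^ 2 * y) := by
        rw [mul_add, ← mul_assoc, ← mul_pow, mul_inv_cancel₀ he0, one_pow, one_mul]
      rw [h.K_mul _ e (inv_ne_zero hz0) hzi he0 he, he2]
      calc x * Z z * (x * K e⁻¹) * Z y = (x * Z z * x) * (K e⁻¹ * Z y) := by group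
        _ = Z z⁻¹ * K z⁻¹ * x * Z z⁻¹ * (Z ((e⁻¹) ^ 2 * y) * K e⁻¹) := by
            rw [h.swap z hz0 hz, h.conj _ y (inv_ne_zero he0) he' hy]
        _ = Z z⁻¹ * K z⁻¹ * x * ((Z (z⁻¹ + (e⁻¹) ^ 2 * y)) * K e⁻¹) := by
            rw [h.Z_add _ _ hzi hy']; group
        _ = Z z⁻¹ * K z⁻¹ * (x * K e⁻¹) * Z (e ^ 2 * (z⁻¹ + (e⁻¹) ^ 2 * y)) := by
            have h1 := h.conj e⁻¹ _ (inv_ne_zero he0) he' (mul_fixed (sq_fixed_of he) hw)
            rw [← mul_assoc ((e⁻¹) ^ 2) (e ^ 2), ← mul_pow, inv_mul_cancel₀ he0, one_pow, one_mul]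
              at h1
            rw [← h1]; group
        _ = _ := by
            rw [h.τ_K _ (inv_ne_zero he0) he', inv_inv]; group

/-- The generated group. -/
def gen2 (n : ℕ) (Z K : F → M) (τ : M) : Subgroup M :=
  Subgroup.closure ({g | ∃ z, z ^ (2 ^ n) = z ∧ g = Z z} ∪
    {g | ∃ e, e ≠ 0 ∧ e ^ (2 ^ n) = e ∧ g = K e} ∪ {τ})

theorem Rel.form_of_mem [CharP F 2] (h : Rel n Z K τ) {g : M} (hg : g ∈ gen2 n Z K τ) :
    IsForm2 n Z K τ g := by
  refine Subgroup.closure_induction_left (p := fun g _ => IsForm2 n Z K τ g) ?_ ?_ ?_ hg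
  · exact Or.inl ⟨0, 1, zero_pow (by positivity), one_pow _, one_ne_zero,
      by rw [h.Z_zero, h.K_one, one_mul]⟩
  · rintro x hx y - hy
    refine h.left_mul ?_ hy
    rcases hx with (hx | hx) | hx
    exacts [Or.inl hx, Or.inr (Or.inl hx), Or.inr (Or.inr hx)]
  · rintro x hx y - hy
    refine h.left_mul ?_ hy
    rcases hx with (⟨z, hz, rfl⟩ | ⟨e, he0, he, rfl⟩) | rfl
    · refine Or.inl ⟨z, hz, inv_eq_of_mul_eq_one_left ?_⟩
      rw [← h.Z_add z z hz hz, CharTwo.add_self_eq_zero, h.Z_zero]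
    · refine Or.inr (Or.inl ⟨e⁻¹, inv_ne_zero he0, inv_fixed he, inv_eq_of_mul_eq_one_left ?_⟩)
      rw [← h.K_mul e⁻¹ e (inv_ne_zero he0) (inv_fixed he) he0 he, inv_mul_cancel₀ he0, h.K_one]
    · exact Or.inr (Or.inr (inv_eq_of_mul_eq_one_left h.τ_τ))

theorem mul_val (A B : SpecialLinearGroup (Fin 2) F) :
    ((A * B : SpecialLinearGroup (Fin 2) F) : Matrix (Fin 2) (Fin 2) F) =
      (A : Matrix (Fin 2) (Fin 2) F) * (B : Matrix (Fin 2) (Fin 2) F) := rfl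

theorem one_val : ((1 : SpecialLinearGroup (Fin 2) F) : Matrix (Fin 2) (Fin 2) F) = 1 := rfl

theorem sl_ext {A B : SpecialLinearGroup (Fin 2) F}
    (e : (A : Matrix (Fin 2) (Fin 2) F) = (B : Matrix (Fin 2) (Fin 2) F)) : A = B := Subtype.ext e

section Model

variable [CharP F 2]

theorem rel_model : Rel n (mZ (F := F)) mK mT where
  Z_add y z _ _ := sl_ext (by
    rw [mul_val, mZ_val, mZ_val, mZ_val]; simp [mul_fin_two, add_comm])
  K_mul d e hd _ he _ := sl_ext (by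
    rw [mul_val, mK_val hd, mK_val he, mK_val (mul_ne_zero hd he)]
    simp [mul_fin_two, mul_comm])
  conj e z he _ _ := sl_ext (by
    rw [mul_val, mul_val, mK_val he, mZ_val, mZ_val]
    ext i j
    fin_cases i <;> fin_cases j <;> simp [mul_fin_two, mul_inv_cancel₀ he]
    field_simp)
  τ_τ := sl_ext (by rw [mul_val, mT_val, one_val]; simp [mul_fin_two, one_fin_two])
  τ_K e he _ := sl_ext (by
    rw [mul_val, mul_val, mK_val he, mK_val (inv_ne_zero he),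
      mT_val]
    simp [mul_fin_two])
  swap z hz _ := sl_ext (by
    simp only [mul_val, mK_val (inv_ne_zero hz), mZ_val, mT_val]
    ext i j
    fin_cases i <;> fin_cases j <;>
      simp [mul_fin_two, mul_inv_cancel₀ hz, inv_mul_cancel₀ hz, CharTwo.add_self_eq_zero])

end Model

variable [CharP F 2] {G Ω : Type*} [Group G] [Finite G] [MulAction G Ω] [FaithfulSMul G Ω] {a : Ω} {t : G}
  {Q : Subgroup G} {ζ κ : F → G}

/-- `⟨Z(Q), K, t⟩`. -/
def L0 (a : Ω) (t : G) (Q : Subgroup G) : Subgroup G :=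
  Subgroup.closure ((Zc Q : Set G) ∪ (Kc a t : Set G) ∪ {t})

variable (h : Setting G Ω a t Q n) (hz : ZFrame a t Q n ζ κ)
include h hz

theorem rel_group : Rel n ζ κ t where
  Z_add := hz.ζ_add
  K_mul := hz.κ_mul
  conj e z he he' hz' := by rw [← hz.conj e z he he' hz', inv_mul_cancel_right]
  τ_τ := h.setup.mul_self
  τ_K e he he' := by
    have hki : κ e⁻¹ = (κ e)⁻¹ := by
      refine eq_inv_of_mul_eq_one_left ?_
      rw [← hz.κ_mul _ e (inv_ne_zero he) (inv_fixed he') he he', inv_mul_cancel₀ he]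
      have := hz.κ_mul 1 1 one_ne_zero (one_pow _) one_ne_zero (one_pow _)
      rw [mul_one] at this
      exact mul_eq_left.1 this.symm
    rw [hki, ← Kc_t h (hz.κ_mem e he he'), mul_assoc (t * κ e) t t, h.setup.mul_self, mul_one]
  swap := hz.swap

theorem gen_eq : gen2 n ζ κ t = L0 a t Q := by
  refine congrArg Subgroup.closure ?_
  refine congrArg₂ _ (congrArg₂ _ ?_ ?_) rfl
  · ext x
    exact ⟨fun ⟨z, hz', e⟩ => e ▸ hz.ζ_mem z hz', fun hx =>
      let ⟨z, hz', e⟩ := hz.ζ_surj x hx; ⟨z, hz', e.symm⟩⟩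
  · ext x
    exact ⟨fun ⟨e, he, he', e1⟩ => e1 ▸ hz.κ_mem e he he', fun hx =>
      let ⟨e, he, he', e1⟩ := hz.κ_surj x hx; ⟨e, he, he', e1.symm⟩⟩

theorem form_unique_one {z e : F} (hz' : z ^ (2 ^ n) = z) (he : e ^ (2 ^ n) = e) (he0 : e ≠ 0)
    (e1 : ζ z * κ e = 1) : z = 0 ∧ e = 1 := by
  have hr := rel_group h hz
  have h1 : ζ z = 1 := by
    refine inf_D h.setup (Zc_le (hz.ζ_mem z hz')) ?_
    rw [eq_inv_of_mul_eq_one_left e1]
    exact inv_mem (Kc_le h (hz.κ_mem e he0 he))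
  have hz0 : z = 0 := hz.ζ_inj z 0 hz' (zero_pow (by positivity)) (h1.trans hr.Z_zero.symm)
  rw [h1, one_mul] at e1
  refine ⟨hz0, ?_⟩
  have h2 := hz.conj e 1 he0 he (one_pow _)
  rw [e1, one_mul, inv_one, mul_one, mul_one] at h2
  have h3 := hz.ζ_inj _ _ (one_pow _) (sq_fixed_of he) h2
  have h4 : (e + 1) ^ 2 = 0 := by rw [CharTwo.add_sq, one_pow, ← h3, CharTwo.add_self_eq_zero]
  exact CharTwo.add_eq_zero.1 ((pow_eq_zero_iff two_ne_zero).1 h4)

theorem moves {z e y : F} (hy : y ^ (2 ^ n) = y) (hz' : z ^ (2 ^ n) = z) (he : e ^ (2 ^ n) = e)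
    (he0 : e ≠ 0) : (ζ z * κ e * t * ζ y) • a ≠ a := by
  rw [mul_smul, show ζ y • a = a from h.setup.le (Zc_le (hz.ζ_mem y hy)), mul_smul, mul_smul,
    (mem_D.1 (Kc_le h (hz.κ_mem e he0 he))).2]
  exact smul_a_ne h.setup (h.setup.le (Zc_le (hz.ζ_mem z hz'))) (b_ne h.setup)

/-- The representation of `⟨Z(Q), K, t⟩` on pairs. -/
theorem exists_rep : ∃ Φ : L0 a t Q →* SpecialLinearGroup (Fin 2) F, Function.Injective Φ ∧
    (∀ z (hz' : z ^ (2 ^ n) = z) (hm : ζ z ∈ L0 a t Q), Φ ⟨ζ z, hm⟩ = mZ z) ∧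
    (∀ e, e ≠ 0 → e ^ (2 ^ n) = e → ∀ hm : κ e ∈ L0 a t Q, Φ ⟨κ e, hm⟩ = mK e) ∧
    (∀ hm : t ∈ L0 a t Q, Φ ⟨t, hm⟩ = mT) ∧
    ∀ M, M ∈ Φ.range ↔ IsRational n M := by
  classical
  have hr := rel_group h hz
  have hm := rel_model (F := F) (n := n)
  let Z' : F → G × SpecialLinearGroup (Fin 2) F := fun z => (ζ z, mZ z)
  let K' : F → G × SpecialLinearGroup (Fin 2) F := fun e => (κ e, mK e)
  have hp : Rel n Z' K' (t, mT) :=
    { Z_add := fun y z hy hz' => Prod.ext (hr.Z_add y z hy hz') (hm.Z_add y z hy hz')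
      K_mul := fun d e hd hd' he he' => Prod.ext (hr.K_mul d e hd hd' he he') (hm.K_mul d e hd hd' he he')
      conj := fun e z he he' hz' => Prod.ext (hr.conj e z he he' hz') (hm.conj e z he he' hz')
      τ_τ := Prod.ext hr.τ_τ hm.τ_τ
      τ_K := fun e he he' => Prod.ext (hr.τ_K e he he') (hm.τ_K e he he')
      swap := fun z hz0 hz' => Prod.ext (hr.swap z hz0 hz') (hm.swap z hz0 hz') }
  set Γ := gen2 n Z' K' (t, mT) with hΓ
  let p₁ : Γ →* G := (MonoidHom.fst G _).comp Γ.subtype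
  let p₂ : Γ →* SpecialLinearGroup (Fin 2) F := (MonoidHom.snd G _).comp Γ.subtype
  have hZ : ∀ z, z ^ (2 ^ n) = z → Z' z ∈ Γ := fun z hz' =>
    Subgroup.subset_closure (Or.inl (Or.inl ⟨z, hz', rfl⟩))
  have hK : ∀ e, e ≠ 0 → e ^ (2 ^ n) = e → K' e ∈ Γ := fun e he he' =>
    Subgroup.subset_closure (Or.inl (Or.inr ⟨e, he, he', rfl⟩))
  have hT : (t, mT) ∈ Γ := Subgroup.subset_closure (Or.inr rfl)
  have hinj₁ : Function.Injective p₁ := by
    refine (injective_iff_map_eq_one p₁).2 ?_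
    rintro ⟨g, hg⟩ e1
    change g.1 = 1 at e1
    refine Subtype.ext ?_
    rcases hp.form_of_mem hg with ⟨z, e, hz', he, he0, rfl⟩ | ⟨z, e, y, hz', he, he0, hy, rfl⟩
    · obtain ⟨rfl, rfl⟩ := form_unique_one h hz hz' he he0 e1
      show Z' 0 * K' 1 = 1
      rw [hp.Z_zero, hp.K_one, one_mul]
    · refine absurd ?_ (moves h hz hy hz' he he0)
      change ζ z * κ e * t * ζ y = 1 at e1
      rw [e1, one_smul]
  have hran : p₁.range = L0 a t Q := by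
    rw [← gen_eq h hz]
    refine le_antisymm ?_ ((Subgroup.closure_le _).2 ?_)
    · rintro _ ⟨⟨g, hg⟩, rfl⟩
      have hle : Γ ≤ (gen2 n ζ κ t).comap (MonoidHom.fst G _) := (Subgroup.closure_le _).2 (by
        rintro x ((⟨z, hz', rfl⟩ | ⟨e, he, he', rfl⟩) | rfl)
        · exact Subgroup.subset_closure (Or.inl (Or.inl ⟨z, hz', rfl⟩))
        · exact Subgroup.subset_closure (Or.inl (Or.inr ⟨e, he, he', rfl⟩))
        · exact Subgroup.subset_closure (Or.inr rfl))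
      exact hle hg
    · rintro x ((⟨z, hz', rfl⟩ | ⟨e, he, he', rfl⟩) | rfl)
      · exact ⟨⟨_, hZ z hz'⟩, rfl⟩
      · exact ⟨⟨_, hK e he he'⟩, rfl⟩
      · exact ⟨⟨_, hT⟩, rfl⟩
  let ψ : Γ ≃* L0 a t Q := (MonoidHom.ofInjective hinj₁).trans (MulEquiv.subgroupCongr hran)
  have hψ : ∀ (g : Γ) (x : L0 a t Q), g.1.1 = x → ψ.symm x = g := fun g x e =>
    ψ.symm_apply_eq.2 (Subtype.ext e.symm)
  refine ⟨p₂.comp ψ.symm.toMonoidHom, ?_, fun z hz' hm' => ?_, fun e he he' hm' => ?_,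
    fun hm' => ?_, fun M => ⟨?_, fun hM => ?_⟩⟩
  · show Function.Injective (p₂ ∘ ψ.symm)
    refine Function.Injective.comp ((injective_iff_map_eq_one p₂).2 ?_) ψ.symm.injective
    rintro ⟨g, hg⟩ e1
    change g.2 = 1 at e1
    refine Subtype.ext ?_
    rcases hp.form_of_mem hg with ⟨z, e, hz', he, he0, rfl⟩ | ⟨z, e, y, hz', he, he0, hy, rfl⟩
    · have e2 := congrArg (fun M : SpecialLinearGroup (Fin 2) F => (M : Matrix (Fin 2) (Fin 2) F)) e1
      simp only [Prod.snd_mul, Z', K', mul_val, one_val,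
        mZ_val, mK_val he0] at e2
      have h00 := congrFun (congrFun e2 0) 0
      have h10 := congrFun (congrFun e2 1) 0
      simp [mul_fin_two] at h00 h10
      subst h00
      simp at h10
      subst h10
      show Z' 0 * K' 1 = 1
      rw [hp.Z_zero, hp.K_one, one_mul]
    · have e2 := congrArg (fun M : SpecialLinearGroup (Fin 2) F => (M : Matrix (Fin 2) (Fin 2) F)) e1
      simp only [Prod.snd_mul, Z', K', mul_val, one_val,
        mZ_val, mK_val he0, mT_val] at e2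
      have h01 := congrFun (congrFun e2 0) 1
      simp [mul_fin_two, he0] at h01
  · show p₂ (ψ.symm _) = _
    rw [hψ ⟨_, hZ z hz'⟩ _ rfl]; rfl
  · show p₂ (ψ.symm _) = _
    rw [hψ ⟨_, hK e he he'⟩ _ rfl]; rfl
  · show p₂ (ψ.symm _) = _
    rw [hψ ⟨_, hT⟩ _ rfl]; rfl
  · rintro ⟨x, rfl⟩
    show IsRational n (ψ.symm x).1.2
    rcases hp.form_of_mem (ψ.symm x).2 with ⟨z, e, hz', he, he0, e1⟩ |
      ⟨z, e, y, hz', he, he0, hy, e1⟩ <;> rw [e1]
    · intro i j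
      simp only [Prod.snd_mul, Z', K', mul_val, mZ_val, mK_val he0]
      fin_cases i <;> fin_cases j <;> simp [mul_pow, inv_pow, hz', he]
    · intro i j
      simp only [Prod.snd_mul, Z', K', mul_val, mZ_val, mK_val he0, mT_val]
      fin_cases i <;> fin_cases j <;>
        simp [mul_pow, inv_pow, add_pow_char_pow, hz', he, hy]
  · have hdet : M 0 0 * M 1 1 - M 0 1 * M 1 0 = 1 := by
      have := M.2
      rwa [det_fin_two] at this
    rw [CharTwo.sub_eq_add] at hdet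
    by_cases hr0 : M 0 1 = 0
    · have hp0 : M 0 0 ≠ 0 := fun e => by simp [hr0, e] at hdet
      have hu : M 1 1 = (M 0 0)⁻¹ := eq_inv_of_mul_eq_one_right (by simpa [hr0] using hdet)
      have he := inv_fixed (hM 0 0)
      have hz' := mul_fixed (hM 1 0) he
      refine ⟨ψ ⟨_, mul_mem (hZ _ hz') (hK _ (inv_ne_zero hp0) he)⟩, ?_⟩
      show p₂ (ψ.symm (ψ _)) = _
      rw [MulEquiv.symm_apply_apply]
      refine sl_ext ?_
      show ((mZ _ * mK _ : SpecialLinearGroup (Fin 2) F) : Matrix (Fin 2) (Fin 2) F) = _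
      rw [mul_val, mZ_val, mK_val (inv_ne_zero hp0)]
      ext i j
      fin_cases i <;> fin_cases j <;> simp [hr0, hu, hp0]
    · have he := inv_fixed (hM 0 1)
      have hy := mul_fixed (hM 0 0) he
      have hz' := mul_fixed (hM 1 1) he
      refine ⟨ψ ⟨_, mul_mem (mul_mem (mul_mem (hZ _ hz') (hK _ (inv_ne_zero hr0) he)) hT) (hZ _ hy)⟩, ?_⟩
      show p₂ (ψ.symm (ψ _)) = _
      rw [MulEquiv.symm_apply_apply]
      refine sl_ext ?_
      show ((mZ _ * mK _ * mT * mZ _ : SpecialLinearGroup (Fin 2) F) : Matrix (Fin 2) (Fin 2) F) = _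
      rw [mul_val, mul_val, mul_val, mZ_val,
        mZ_val, mK_val (inv_ne_zero hr0), mT_val]
      ext i j
      fin_cases i <;> fin_cases j <;> simp <;> field_simp <;>
        linear_combination hdet + (1 - M 0 1 * M 1 0) * (CharTwo.two_eq_zero : (2 : F) = 0)

end Cfsg.Agent.Involutions.RankOne.U3
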