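import Cfsg.Agent.Lib.Involutions.RankOne.U3.Rep

/-!
# Elliptic tori of `SL₂(q)` inside `SL₂(q²)`
-/

set_option autoImplicit false
set_option linter.unusedSectionVars false

namespace Cfsg.Agent.Involutions.RankOne.U3.Torus

open Matrix

variable {F : Type*} [Field F] [Fintype F] [CharP F 2] {n : ℕ}
variable (hF : Fintype.card F = (2 ^ n) ^ 2)

local notation "q" => 2 ^ n
local notation "SL" => SpecialLinearGroup (Fin 2) F

/-- `(1, ρ)` is an eigenvector of `M` with eigenvalue `δ`. -/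
def Eig (M : SpecialLinearGroup (Fin 2) F) (ρ δ : F) : Prop :=
  M 0 0 + M 0 1 * ρ = δ ∧ M 1 0 + M 1 1 * ρ = δ * ρ

theorem det_eq (M : SL) : M 0 0 * M 1 1 + M 0 1 * M 1 0 = 1 := by
  have := M.2
  rwa [det_fin_two, CharTwo.sub_eq_add] at this

theorem mul_entry (A B : SL) (i j : Fin 2) :
    (A * B : SL) i j = A i 0 * B 0 j + A i 1 * B 1 j := by
  show ((A : Matrix (Fin 2) (Fin 2) F) * (B : Matrix (Fin 2) (Fin 2) F)) i j = _
  rw [Matrix.mul_apply, Fin.sum_univ_two]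

theorem eig_mul {A B : SL} {ρ δ δ' : F} (hA : Eig A ρ δ) (hB : Eig B ρ δ') : Eig (A * B) ρ (δ * δ') := by
  constructor
  · rw [mul_entry, mul_entry]
    linear_combination (A 0 0) * hB.1 + (A 0 1) * hB.2 + δ' * hA.1
  · rw [mul_entry, mul_entry]
    linear_combination (A 1 0) * hB.1 + (A 1 1) * hB.2 + δ' * hA.2

omit [Fintype F] [CharP F 2] in
theorem eig_one (ρ : F) : Eig (1 : SL) ρ 1 := by constructor <;> simp

theorem eig_det {M : SL} {ρ δ : F} (h : Eig M ρ δ) : δ * (M 0 1 * ρ + M 1 1) = 1 := by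
  have h2 : (2 : F) = 0 := CharTwo.two_eq_zero
  linear_combination det_eq M - M 1 1 * h.1 + M 0 1 * h.2 + (δ * M 0 1 * ρ - M 0 1 * M 1 0) * h2

include hF

theorem sq_q (x : F) : (x ^ q) ^ q = x := by
  rw [← pow_mul, ← sq, ← hF, FiniteField.pow_card]

theorem exists_rho : ∃ ρ : F, ρ ^ (q + 1) = 1 ∧ ρ ^ q ≠ ρ := by
  classical
  obtain ⟨g, hg⟩ := IsCyclic.exists_generator (α := Fˣ)
  have ho : orderOf g = (q - 1) * (q + 1) := by
    rw [orderOf_eq_card_of_forall_mem_zpowers hg, Nat.card_eq_fintype_card, Fintype.card_units, hF]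
    have := Nat.sq_sub_sq q 1
    rw [one_pow, mul_comm] at this
    exact this
  have hq : 1 < q := by
    by_contra hle
    push Not at hle
    have h1 : Fintype.card F ≤ 1 := by rw [hF]; exact le_trans (Nat.pow_le_pow_left hle 2) (by norm_num)
    exact absurd h1 (not_le.2 Fintype.one_lt_card)
  have hqe : Even q := Nat.even_pow.2 ⟨even_two, fun e => by simp [e] at hq⟩
  have hρ : orderOf (g ^ (q - 1)) = q + 1 := by
    rw [orderOf_pow, ho, Nat.gcd_mul_right_left, Nat.mul_div_cancel_left _ (by omega)]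
  refine ⟨((g ^ (q - 1) : Fˣ) : F), ?_, fun e => ?_⟩
  · rw [← Units.val_pow_eq_pow_val, ← hρ, pow_orderOf_eq_one, Units.val_one]
  · have e' : (g ^ (q - 1)) ^ q = g ^ (q - 1) := Units.ext (by rw [Units.val_pow_eq_pow_val]; exact e)
    have e2 : (g ^ (q - 1)) ^ (q - 1) = 1 := by
      rw [show q = (q - 1) + 1 by omega, pow_succ, mul_eq_right] at e'
      exact e'
    have h1 := orderOf_dvd_of_pow_eq_one e2
    rw [hρ] at h1
    have := Nat.le_of_dvd (by omega) h1
    omega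

theorem conj_add (x y : F) : (x + y) ^ q = x ^ q + y ^ q := add_pow_char_pow x y 2 n

theorem eig_mem {M : SL} {ρ δ : F} (hM : IsRational n M) (hρ : ρ ^ q ≠ ρ) (h : Eig M ρ δ) :
    δ ^ (q + 1) = 1 := by
  obtain ⟨h1, h2⟩ := h
  have c1 : M 0 0 + M 0 1 * ρ ^ q = δ ^ q := by
    have := congrArg (· ^ q) h1
    simpa only [conj_add hF, mul_pow, hM 0 0, hM 0 1] using this
  have c2 : M 1 0 + M 1 1 * ρ ^ q = δ ^ q * ρ ^ q := by
    have := congrArg (· ^ q) h2
    simpa only [conj_add hF, mul_pow, hM 1 0, hM 1 1] using this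
  have key : (δ ^ (q + 1) - 1) * (ρ ^ q + ρ) = 0 := by
    rw [pow_succ]
    have h2 : (2 : F) = 0 := CharTwo.two_eq_zero
    have e1 : δ ^ q * δ * (ρ ^ q + ρ) =
        (M 0 0 + M 0 1 * ρ) * (δ ^ q * ρ ^ q) + (M 1 0 + M 1 1 * ρ) * (M 0 0 + M 0 1 * ρ ^ q) := by
      rw [h1, ‹M 1 0 + M 1 1 * ρ = δ * ρ›, c1]; ring
    rw [← c2] at e1
    linear_combination e1 + (ρ ^ q + ρ) * det_eq M +
      (M 0 0 * M 1 0 + M 0 1 * M 1 1 * (ρ ^ q * ρ)) * h2
  rcases mul_eq_zero.1 key with e | e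
  · exact sub_eq_zero.1 e
  · exact absurd (CharTwo.add_eq_zero.1 e) hρ

theorem eig_unique {A B : SL} {ρ δ : F} (hA : IsRational n A) (hB : IsRational n B) (hρ : ρ ^ q ≠ ρ)
    (h : Eig A ρ δ) (h' : Eig B ρ δ) : A = B := by
  have key : ∀ u v : F, u ^ q = u → v ^ q = v → u + v * ρ = 0 → u = 0 ∧ v = 0 := fun u v hu hv e => by
    have e' : u + v * ρ ^ q = 0 := by
      have := congrArg (· ^ q) e
      simpa only [conj_add hF, mul_pow, hu, hv, zero_pow (Nat.two_pow_pos n).ne'] using this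
    have hv0 : v * (ρ ^ q - ρ) = 0 := by linear_combination e' - e
    rcases mul_eq_zero.1 hv0 with hv0 | hv0
    · exact ⟨by simpa [hv0] using e, hv0⟩
    · exact absurd (sub_eq_zero.1 hv0) hρ
  have d : ∀ i : Fin 2, A i 0 + A i 1 * ρ = B i 0 + B i 1 * ρ := by
    intro i; fin_cases i
    · exact h.1.trans h'.1.symm
    · exact h.2.trans h'.2.symm
  refine sl_ext (Matrix.ext fun i j => ?_)
  obtain ⟨e0, e1⟩ := key (A i 0 + B i 0) (A i 1 + B i 1) (add_fixed (hA i 0) (hB i 0))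
    (add_fixed (hA i 1) (hB i 1)) (by
      linear_combination d i + (B i 0 + B i 1 * ρ) * (CharTwo.two_eq_zero : (2 : F) = 0))
  fin_cases j
  · exact CharTwo.add_eq_zero.1 e0
  · exact CharTwo.add_eq_zero.1 e1

theorem exists_eig {ρ δ : F} (hρ : ρ ^ q ≠ ρ) (hρ1 : ρ ^ (q + 1) = 1) (hδ : δ ^ (q + 1) = 1) :
    ∃ M : SL, IsRational n M ∧ Eig M ρ δ := by
  have hs : ρ + ρ ^ q ≠ 0 := fun e => hρ (CharTwo.add_eq_zero.1 e).symm
  set β := (δ + δ ^ q) / (ρ + ρ ^ q) with hβ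
  set α := δ + β * ρ with hα
  set T := ρ + ρ ^ q with hT
  have hTf : T ^ q = T := by rw [hT, conj_add hF, sq_q hF, add_comm]
  have hβf : β ^ q = β := by rw [hβ, div_pow, hTf, conj_add hF, sq_q hF, add_comm]
  have hαc : α ^ q = δ ^ q + β * ρ ^ q := by rw [hα, conj_add hF, mul_pow, hβf]
  have hαf : α ^ q = α := by
    rw [hαc, hα]
    have : β * T = δ + δ ^ q := div_mul_cancel₀ _ hs
    rw [hT] at this
    linear_combination this + (δ ^ q - β * ρ) * (CharTwo.two_eq_zero : (2 : F) = 0)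
  have hρρ : ρ ^ q * ρ = 1 := by rw [← pow_succ, hρ1]
  have hδδ : δ ^ q * δ = 1 := by rw [← pow_succ, hδ]
  have h2 : (2 : F) = 0 := CharTwo.two_eq_zero
  have hd : δ = α + β * ρ := by rw [hα]; linear_combination (-(β * ρ)) * h2
  have hdc : δ ^ q = α + β * ρ ^ q := by
    conv_lhs => rw [hd]
    rw [conj_add hF, mul_pow, hαf, hβf]
  have hdet : (!![α, β; β, α + β * T] : Matrix (Fin 2) (Fin 2) F).det = 1 := by
    rw [det_fin_two_of, hT]
    linear_combination hδδ - δ ^ q * hd - (α + β * ρ) * hdc - β * β * hρρ - β * β * h2 + (2 : F) * 0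
  refine ⟨⟨_, hdet⟩, fun i j => ?_, ?_, ?_⟩
  · fin_cases i <;> fin_cases j <;> simp [add_pow_char_pow, mul_pow, hαf, hβf, hTf]
  · show α + β * ρ = δ
    exact hd.symm
  · show β + (α + β * T) * ρ = δ * ρ
    rw [hT]
    linear_combination β * hρρ - ρ * hd + β * h2

/-- The roots of `X² + z X + 1`. -/
theorem exists_root {z : F} (hz : z ^ q = z) (hz0 : z ≠ 0) : ∃ r : F, r * r + z * r + 1 = 0 := by
  classical
  let S : Finset F := Finset.univ.filter fun r => r ≠ 1 ∧ (r ^ (q + 1) = 1 ∨ (r ^ q = r ∧ r ≠ 0))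
  let T : Finset F := Finset.univ.filter fun x => x ^ q = x ∧ x ≠ 0
  have hcardfix : (Finset.univ.filter fun x : F => x ^ q = x).card = q := by
    have := SylowPSUThree.card_fixed hF
    rwa [Nat.card_eq_fintype_card, Fintype.card_subtype] at this
  have hT : T.card = q - 1 := by
    have : T = (Finset.univ.filter fun x : F => x ^ q = x).erase 0 := by
      ext x; simp [T, and_comm]
    rw [this, Finset.card_erase_of_mem (by simp [zero_pow (Nat.two_pow_pos n).ne']), hcardfix]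
  have hS : S.card = (q + 1 - 1) + (q - 1 - 1) := by
    obtain ⟨ρ, hρ1, hρ⟩ := exists_rho hF
    have h1 : (Finset.univ.filter fun r : F => r ^ (q + 1) = 1).card = q + 1 := by
      obtain ⟨g, hg⟩ := IsCyclic.exists_generator (α := Fˣ)
      have hcu : Nat.card Fˣ = (q - 1) * (q + 1) := by
        rw [Nat.card_eq_fintype_card, Fintype.card_units, hF]
        have := Nat.sq_sub_sq q 1
        rw [one_pow, mul_comm] at this
        exact this
      have h := IsCyclic.card_powMonoidHom_ker (G := Fˣ) (d := q + 1)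
      rw [hcu, Nat.gcd_mul_left_left] at h
      refine Eq.trans ?_ h
      rw [Nat.card_eq_fintype_card]
      refine (Finset.card_bij (fun (u : (powMonoidHom (q + 1) : Fˣ →* Fˣ).ker) _ => ((u : Fˣ) : F))
        (fun u _ => ?_) (fun u _ v _ e => Subtype.ext (Units.ext e)) (fun r hr => ?_)).symm
      · simp only [Finset.mem_filter, Finset.mem_univ, true_and]
        exact congrArg Units.val u.2
      · simp only [Finset.mem_filter, Finset.mem_univ, true_and] at hr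
        have hr0 : r ≠ 0 := fun e => by simp [e, zero_pow] at hr
        exact ⟨⟨Units.mk0 r hr0, Units.ext (by simpa using hr)⟩, Finset.mem_univ _, rfl⟩
    have e : S = (Finset.univ.filter fun r : F => r ^ (q + 1) = 1).erase 1 ∪ T.erase 1 := by
      ext r; simp [S, T]; tauto
    rw [e, Finset.card_union_of_disjoint, Finset.card_erase_of_mem (by simp),
      Finset.card_erase_of_mem (by simp [T]), h1, hT]
    rw [Finset.disjoint_left]
    intro r hr hr'
    simp [T] at hr hr'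
    have e2 : r * r = 1 := by
      have := hr.2
      rwa [pow_succ, hr'.2.1] at this
    exact hr.1 (by
      have e3 : (r + 1) ^ 2 = 0 := by
        rw [CharTwo.add_sq, sq, e2, one_pow, CharTwo.add_self_eq_zero]
      exact CharTwo.add_eq_zero.1 ((pow_eq_zero_iff two_ne_zero).1 e3))
  -- every value is taken
  by_contra hno
  push Not at hno
  have hmaps : ∀ r ∈ S, r + r⁻¹ ∈ T.erase z := by
    intro r hr
    simp only [S, Finset.mem_filter, Finset.mem_univ, true_and] at hr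
    have hr0 : r ≠ 0 := by
      rcases hr.2 with h | h
      · exact fun e => by simp [e, zero_pow] at h
      · exact h.2
    have hne : r + r⁻¹ ≠ 0 := fun e => hr.1 (by
      have e' : r * r = 1 := by
        nth_rewrite 2 [CharTwo.add_eq_zero.1 e]
        exact mul_inv_cancel₀ hr0
      have e3 : (r + 1) ^ 2 = 0 := by
        rw [CharTwo.add_sq, sq, e', one_pow, CharTwo.add_self_eq_zero]
      exact CharTwo.add_eq_zero.1 ((pow_eq_zero_iff two_ne_zero).1 e3))
    have hfix : (r + r⁻¹) ^ q = r + r⁻¹ := by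
      rcases hr.2 with h | h
      · have : r ^ q = r⁻¹ := eq_inv_of_mul_eq_one_left (by rwa [← pow_succ])
        rw [conj_add hF, inv_pow, this, inv_inv, add_comm]
      · rw [conj_add hF, inv_pow, h.1]
    refine Finset.mem_erase.2 ⟨fun e => hno r ?_, by simp [T, hfix, hne]⟩
    rw [← e]
    field_simp
    linear_combination (r * r + 1) * (CharTwo.two_eq_zero : (2 : F) = 0)
  have hfib : ∀ x ∈ T.erase z, (S.filter fun r => r + r⁻¹ = x).card ≤ 2 := by
    intro x hx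
    by_contra hlt
    push Not at hlt
    obtain ⟨r₁, r₂, r₃, h₁, h₂, h₃, h12, h13, h23⟩ := Finset.two_lt_card_iff.1 hlt
    simp only [Finset.mem_filter, S, Finset.mem_univ, true_and] at h₁ h₂ h₃
    have key : ∀ r r' : F, r ≠ 0 → r' ≠ 0 → r + r⁻¹ = r' + r'⁻¹ → r ≠ r' → r' = r⁻¹ := by
      intro r r' hr hr' e hne
      have : (r - r') * (r * r' - 1) = 0 := by
        have e' : (r + r⁻¹) * (r * r') = (r' + r'⁻¹) * (r * r') := by rw [e]
        field_simp at e'
        linear_combination e'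
      rcases mul_eq_zero.1 this with e2 | e2
      · exact absurd (sub_eq_zero.1 e2) hne
      · exact eq_inv_of_mul_eq_one_right (sub_eq_zero.1 e2)
    have hne0 : ∀ r : F, r ^ (q + 1) = 1 ∨ (r ^ q = r ∧ r ≠ 0) → r ≠ 0 := fun r h e => by
      rcases h with h | h
      · simp [e, zero_pow] at h
      · exact h.2 e
    exact h23 ((key r₁ r₂ (hne0 _ h₁.1.2) (hne0 _ h₂.1.2) (h₁.2.trans h₂.2.symm) h12).trans
      (key r₁ r₃ (hne0 _ h₁.1.2) (hne0 _ h₃.1.2) (h₁.2.trans h₃.2.symm) h13).symm)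
  have hle := Finset.card_le_mul_card_image_of_maps_to hmaps 2 hfib
  rw [hS, Finset.card_erase_of_mem (by simp [T, hz, hz0]), hT] at hle
  have : 2 ≤ q := by
    rcases n with _ | k
    · exact absurd (hF ▸ Fintype.one_lt_card : 1 < (2 ^ 0) ^ 2) (by norm_num)
    · rw [pow_succ]; have := Nat.two_pow_pos k; omega
  omega

/-- A rational element has a rational eigenvector or lies in an elliptic torus. -/
theorem dichotomy {M : SL} (hM : IsRational n M) :
    M 0 1 = 0 ∨ (∃ z δ : F, z ^ q = z ∧ Eig M z δ) ∨ ∃ ρ δ : F, ρ ^ q ≠ ρ ∧ Eig M ρ δ := by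
  by_cases h0 : M 0 1 = 0
  · exact Or.inl h0
  refine Or.inr ?_
  have h2 : (2 : F) = 0 := CharTwo.two_eq_zero
  obtain ⟨r, hr⟩ : ∃ r : F, r * r + (M 0 0 + M 1 1) * r + 1 = 0 := by
    by_cases hτ : M 0 0 + M 1 1 = 0
    · exact ⟨1, by rw [hτ]; linear_combination h2⟩
    · exact exists_root hF (add_fixed (hM 0 0) (hM 1 1)) hτ
  have he : Eig M ((r + M 0 0) / M 0 1) r := by
    constructor
    · rw [mul_div_cancel₀ _ h0]; linear_combination M 0 0 * h2
    · field_simp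
      linear_combination hr + det_eq M - (r * M 0 0 + r * r) * h2
  by_cases hρ : ((r + M 0 0) / M 0 1) ^ q = (r + M 0 0) / M 0 1
  · exact Or.inl ⟨_, r, hρ, he⟩
  · exact Or.inr ⟨_, r, hρ, he⟩

/-- The centraliser of `(x, y) ↦ (y, x)` is transitive on norm-one eigenvectors. -/
theorem exists_move_rho {ρ ρ' : F} (hρ1 : ρ ^ (q + 1) = 1) (hρ : ρ ^ q ≠ ρ) (hρ1' : ρ' ^ (q + 1) = 1)
    (hρ' : ρ' ^ q ≠ ρ') : ∃ y : F, y ^ q = y ∧ y + ρ * (1 + y) = (1 + y + y * ρ) * ρ' := by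
  have h1 : ρ + 1 ≠ 0 := fun e => hρ (by rw [CharTwo.add_eq_zero.1 e, one_pow])
  have h1' : ρ' + 1 ≠ 0 := fun e => hρ' (by rw [CharTwo.add_eq_zero.1 e, one_pow])
  have hc : ρ ^ q * ρ = 1 := by rw [← pow_succ, hρ1]
  have hc' : ρ' ^ q * ρ' = 1 := by rw [← pow_succ, hρ1']
  refine ⟨(ρ + ρ') / ((ρ + 1) * (ρ' + 1)), ?_, ?_⟩
  · rw [div_pow, mul_pow, conj_add hF, conj_add hF, conj_add hF, one_pow,
      eq_inv_of_mul_eq_one_left hc, eq_inv_of_mul_eq_one_left hc']
    have hr0 : ρ ≠ 0 := fun e => by simp [e] at hc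
    have hr0' : ρ' ≠ 0 := fun e => by simp [e] at hc'
    have hA : ∀ x : F, x ≠ 0 → x⁻¹ + 1 = (x + 1) * x⁻¹ := fun x hx => by
      rw [add_mul, mul_inv_cancel₀ hx, one_mul, add_comm]
    have hB : ρ⁻¹ + ρ'⁻¹ = (ρ + ρ') * (ρ⁻¹ * ρ'⁻¹) := by field_simp; ring
    rw [hA ρ hr0, hA ρ' hr0', hB,
      show (ρ + 1) * ρ⁻¹ * ((ρ' + 1) * ρ'⁻¹) = (ρ + 1) * (ρ' + 1) * (ρ⁻¹ * ρ'⁻¹) by ring,
      mul_div_mul_right _ _ (mul_ne_zero (inv_ne_zero hr0) (inv_ne_zero hr0'))]
  · field_simp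
    linear_combination (ρ - ρ * ρ' ^ 2 + ρ ^ 2 - ρ' ^ 2) * (CharTwo.two_eq_zero : (2 : F) = 0)

/-- Affine maps with rational coefficients are transitive on the non-rational elements. -/
theorem exists_affine {ρ ρ' : F} (hρ : ρ ^ q ≠ ρ) (hρ' : ρ' ^ q ≠ ρ') :
    ∃ e z : F, e ≠ 0 ∧ e ^ q = e ∧ z ^ q = z ∧ e ^ 2 * ρ + z = ρ' := by
  have hs : ρ + ρ ^ q ≠ 0 := fun e => hρ (CharTwo.add_eq_zero.1 e).symm
  set c := (ρ' + ρ' ^ q) / (ρ + ρ ^ q) with hc
  have hcf : c ^ q = c := by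
    rw [hc, div_pow, conj_add hF, conj_add hF, sq_q hF, sq_q hF, add_comm, add_comm (ρ ^ q)]
  have hc0 : c ≠ 0 := div_ne_zero (fun e => hρ' (CharTwo.add_eq_zero.1 e).symm) hs
  obtain ⟨e, he⟩ := FiniteField.isSquare_of_char_two (ringChar.eq F 2) c
  have he0 : e ≠ 0 := fun e' => hc0 (by rw [he, e', mul_zero])
  have h2 : (2 : F) = 0 := CharTwo.two_eq_zero
  have hef : e ^ q = e := by
    have h1 : (e ^ q + e) ^ 2 = 0 := by
      rw [CharTwo.add_sq, sq, sq, ← mul_pow, ← he, hcf, CharTwo.add_self_eq_zero]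
    exact CharTwo.add_eq_zero.1 ((pow_eq_zero_iff two_ne_zero).1 h1)
  refine ⟨e, ρ' + c * ρ, he0, hef, ?_, ?_⟩
  · rw [conj_add hF, mul_pow, hcf]
    have : c * (ρ + ρ ^ q) = ρ' + ρ' ^ q := div_mul_cancel₀ _ hs
    linear_combination this + (ρ' ^ q - c * ρ) * h2
  · rw [sq, ← he]; linear_combination (c * ρ) * h2

end Cfsg.Agent.Involutions.RankOne.U3.Torus
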